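import Mathlib.Order.KrullDimension
import Mathlib.RingTheory.KrullDimension.Basic
import Mathlib.RingTheory.Ideal.GoingUp
import Mathlib.RingTheory.Spectrum.Prime.RingHom

set_option autoImplicit false

namespace Groth.Agent.H14Lib

theorem coheight_le_of_fibration {α β : Type*} [Preorder α] [Preorder β] (f : α → β)
    (hmono : Monotone f) (hfib : ∀ a b, f a ≤ b → ∃ a', a ≤ a' ∧ f a' = b) (a : α) :
    Order.coheight (f a) ≤ Order.coheight a := by
  suffices h : ∀ n : ℕ, ∀ a, (n : ℕ∞) ≤ Order.coheight (f a) → (n : ℕ∞) ≤ Order.coheight a by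
    exact ENat.forall_natCast_le_iff_le.mp (fun n => h n a)
  intro n
  induction n with
  | zero => intro a _; simp
  | succ n ih =>
    intro a ha
    have h1 : ¬ Order.coheight (f a) ≤ (n : ℕ∞) := by
      intro h
      have := ha.trans h
      norm_cast at this
      omega
    rw [Order.coheight_le_coe_iff] at h1
    push Not at h1
    obtain ⟨y, hy, hny⟩ := h1
    obtain ⟨a', haa', rfl⟩ := hfib a y hy.le
    have hlt : a < a' := lt_of_le_not_ge haa' (fun h => (hmono h).not_gt hy)
    have := ih a' hny
    calc ((n + 1 : ℕ) : ℕ∞) = (n : ℕ∞) + 1 := by norm_cast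
      _ ≤ Order.coheight a' + 1 := by gcongr
      _ ≤ Order.coheight a := Order.coheight_add_one_le hlt

theorem krullDim_le_of_fibration {α β : Type*} [Preorder α] [Preorder β] (f : α → β)
    (hmono : Monotone f) (hfib : ∀ a b, f a ≤ b → ∃ a', a ≤ a' ∧ f a' = b)
    (hsurj : Function.Surjective f) : Order.krullDim β ≤ Order.krullDim α := by
  rw [Order.krullDim_eq_iSup_coheight]
  apply iSup_le
  intro b
  obtain ⟨a, rfl⟩ := hsurj b
  exact (WithBot.coe_le_coe.mpr (coheight_le_of_fibration f hmono hfib a)).trans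
    (Order.coheight_le_krullDim a)

/-- An integral extension does not increase Krull dimension (incomparability). -/
theorem ringKrullDim_le_of_isIntegral (A B : Type*) [CommRing A] [CommRing B] [Algebra A B]
    [Algebra.IsIntegral A B] : ringKrullDim B ≤ ringKrullDim A := by
  refine Order.krullDim_le_of_strictMono (PrimeSpectrum.comap (algebraMap A B)) ?_
  intro P Q hPQ
  have : P.asIdeal < Q.asIdeal := hPQ
  exact Ideal.IsIntegral.comap_lt_comap (R := A) this

/-- An injective integral extension has the same Krull dimension. -/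
theorem ringKrullDim_eq_of_isIntegral_of_injective (A B : Type*) [CommRing A] [CommRing B]
    [Algebra A B] [Algebra.IsIntegral A B] (hinj : Function.Injective (algebraMap A B)) :
    ringKrullDim B = ringKrullDim A := by
  apply le_antisymm (ringKrullDim_le_of_isIntegral A B)
  refine krullDim_le_of_fibration (PrimeSpectrum.comap (algebraMap A B)) ?_ ?_ ?_
  · intro P Q hPQ
    exact Ideal.comap_mono (show P.asIdeal ≤ Q.asIdeal from hPQ)
  · intro Q p hQp
    obtain ⟨Q', hQ', hQ'prime, hQ'p⟩ :=
      Ideal.exists_ideal_over_prime_of_isIntegral_of_isPrime p.asIdeal Q.asIdeal hQp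
    exact ⟨⟨Q', hQ'prime⟩, hQ', PrimeSpectrum.ext hQ'p⟩
  · intro p
    obtain ⟨Q, -, hQprime, hQp⟩ := Ideal.exists_ideal_over_prime_of_isIntegral p.asIdeal
      (⊥ : Ideal B) (by
        rw [← RingHom.ker_eq_comap_bot, (RingHom.injective_iff_ker_eq_bot _).mp hinj]
        exact bot_le)
    exact ⟨⟨Q, hQprime⟩, PrimeSpectrum.ext hQp⟩

end Groth.Agent.H14Lib
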