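import Mathlib

universe u

namespace Groth.Agent.H14Lib.Apx

variable {K : Type u} [Field K] (O : ValuationSubring K) [IsDiscreteValuationRing O]

/-- chosen uniformizer -/
noncomputable def unif : O := Classical.choose (IsDiscreteValuationRing.exists_irreducible O)

theorem unif_irr : Irreducible (unif O) :=
  Classical.choose_spec (IsDiscreteValuationRing.exists_irreducible O)

theorem unif_ne : ((unif O : O) : K) ≠ 0 := by
  intro h
  exact (unif_irr O).ne_zero (Subtype.ext h)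

/-- `x = w * ϖ ^ n` with `w` a unit. -/
def Ord (x : K) (n : ℤ) : Prop := ∃ w : Oˣ, x = ((w : O) : K) * ((unif O : O) : K) ^ n

theorem unit_ne (w : Oˣ) : (((w : O) : K)) ≠ 0 := by
  intro h
  exact w.ne_zero (Subtype.ext h)

theorem Ord.ne_zero {x : K} {n : ℤ} (h : Ord O x n) : x ≠ 0 := by
  obtain ⟨w, rfl⟩ := h
  exact mul_ne_zero (unit_ne O w) (zpow_ne_zero _ (unif_ne O))

theorem ord_of_mem {x : K} (hx : x ∈ O) (h0 : x ≠ 0) : ∃ k : ℕ, Ord O x k := by
  have h0' : (⟨x, hx⟩ : O) ≠ 0 := fun h => h0 (congrArg Subtype.val h)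
  obtain ⟨k, w, hw⟩ := IsDiscreteValuationRing.eq_unit_mul_pow_irreducible h0' (unif_irr O)
  refine ⟨k, w, ?_⟩
  have := congrArg (Subtype.val) hw
  simpa using this

theorem Ord.inv {x : K} {n : ℤ} (h : Ord O x n) : Ord O x⁻¹ (-n) := by
  obtain ⟨w, rfl⟩ := h
  refine ⟨w⁻¹, ?_⟩
  rw [mul_inv, zpow_neg]
  congr 1
  have : ((w : O) : K) * (((w⁻¹ : Oˣ) : O) : K) = 1 := by
    rw [← Subring.coe_mul]
    simp
  exact (eq_inv_of_mul_eq_one_right this).symm

theorem Ord.mul {x y : K} {n m : ℤ} (hx : Ord O x n) (hy : Ord O y m) : Ord O (x * y) (n + m) := by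
  obtain ⟨w, rfl⟩ := hx
  obtain ⟨w', rfl⟩ := hy
  refine ⟨w * w', ?_⟩
  rw [zpow_add₀ (unif_ne O)]
  push_cast
  ring

theorem ord_exists {x : K} (hx : x ≠ 0) : ∃ n, Ord O x n := by
  rcases O.mem_or_inv_mem x with h | h
  · obtain ⟨k, hk⟩ := ord_of_mem O h hx
    exact ⟨k, hk⟩
  · obtain ⟨k, hk⟩ := ord_of_mem O h (inv_ne_zero hx)
    refine ⟨-k, ?_⟩
    have := hk.inv
    rwa [inv_inv] at this

theorem mem_of_ord {x : K} {n : ℤ} (h : Ord O x n) (hn : 0 ≤ n) : x ∈ O := by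
  obtain ⟨w, rfl⟩ := h
  obtain ⟨k, rfl⟩ := Int.eq_ofNat_of_zero_le hn
  rw [zpow_natCast]
  exact mul_mem (w : O).2 (pow_mem (unif O).2 k)

theorem ord_unique_aux {x : K} {n m : ℤ} (hn : Ord O x n) (hm : Ord O x m) : ¬ n < m := by
  intro hlt
  obtain ⟨w, hw⟩ := hn
  obtain ⟨w', hw'⟩ := hm
  obtain ⟨k, hk⟩ : ∃ k : ℕ, m = n + (k + 1) := ⟨(m - n - 1).toNat, by omega⟩
  have h1 : ((w : O) : K) = ((w' : O) : K) * ((unif O : O) : K) ^ (k + 1) := by
    have h2 : ((w : O) : K) * ((unif O : O) : K) ^ n =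
        ((w' : O) : K) * ((unif O : O) : K) ^ (k + 1) * ((unif O : O) : K) ^ n := by
      rw [← hw, hw', hk, zpow_add₀ (unif_ne O)]
      have : ((unif O : O) : K) ^ ((k : ℤ) + 1) = ((unif O : O) : K) ^ (k + 1) := by
        rw [← zpow_natCast]; push_cast; rfl
      rw [this]; ring
    exact mul_right_cancel₀ (zpow_ne_zero n (unif_ne O)) h2
  have h3 : (w : O) = (w' : O) * (unif O) ^ (k + 1) := by
    apply Subtype.ext
    rw [h1]; simp
  have hu : IsUnit ((w' : O) * (unif O) ^ (k + 1)) := h3 ▸ w.isUnit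
  have hu2 : IsUnit ((unif O) ^ (k + 1)) := (IsUnit.mul_iff.mp hu).2
  have hu3 : IsUnit (unif O) := (isUnit_pow_succ_iff).mp hu2
  exact (unif_irr O).not_isUnit hu3

theorem ord_unique {x : K} {n m : ℤ} (hn : Ord O x n) (hm : Ord O x m) : n = m := by
  have h1 := ord_unique_aux O hn hm
  have h2 := ord_unique_aux O hm hn
  omega

open Classical in
/-- the normalized discrete valuation (junk value `0` at `0`). -/
noncomputable def nu (x : K) : ℤ :=
  if h : x = 0 then 0 else Classical.choose (ord_exists O h)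

theorem ord_nu {x : K} (hx : x ≠ 0) : Ord O x (nu O x) := by
  unfold nu
  rw [dif_neg hx]
  exact Classical.choose_spec (ord_exists O hx)

theorem nu_eq {x : K} {n : ℤ} (h : Ord O x n) : nu O x = n :=
  ord_unique O (ord_nu O h.ne_zero) h

theorem nu_mul {x y : K} (hx : x ≠ 0) (hy : y ≠ 0) : nu O (x * y) = nu O x + nu O y :=
  nu_eq O ((ord_nu O hx).mul O (ord_nu O hy))

theorem nu_inv {x : K} (hx : x ≠ 0) : nu O x⁻¹ = - nu O x :=
  nu_eq O ((ord_nu O hx).inv O)

theorem ord_one : Ord O (1 : K) 0 := ⟨1, by simp⟩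

theorem nu_one : nu O (1 : K) = 0 := nu_eq O (ord_one O)

theorem nu_pow {x : K} (hx : x ≠ 0) (k : ℕ) : nu O (x ^ k) = k * nu O x := by
  induction k with
  | zero => simp [nu_one]
  | succ k ih =>
    rw [pow_succ, nu_mul O (pow_ne_zero k hx) hx, ih]
    push_cast; ring

theorem ord_unif : Ord O ((unif O : O) : K) 1 := ⟨1, by simp⟩

theorem nu_unif : nu O ((unif O : O) : K) = 1 := nu_eq O (ord_unif O)

theorem nu_unif_zpow (n : ℤ) : nu O (((unif O : O) : K) ^ n) = n :=
  nu_eq O ⟨1, by simp⟩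

theorem nu_neg (x : K) : nu O (-x) = nu O x := by
  by_cases hx : x = 0
  · rw [hx, neg_zero]
  · obtain ⟨w, hw⟩ := ord_nu O hx
    apply nu_eq
    refine ⟨-w, ?_⟩
    rw [Units.val_neg]
    push_cast
    rw [neg_mul, ← hw]

theorem mem_iff {x : K} (hx : x ≠ 0) : x ∈ O ↔ 0 ≤ nu O x := by
  constructor
  · intro h
    obtain ⟨k, hk⟩ := ord_of_mem O h hx
    rw [nu_eq O hk]; exact Int.natCast_nonneg k
  · intro h
    exact mem_of_ord O (ord_nu O hx) h

theorem nu_add_ge {x y : K} (hx : x ≠ 0) (hy : y ≠ 0) (hxy : x + y ≠ 0) :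
    min (nu O x) (nu O y) ≤ nu O (x + y) := by
  wlog hle : nu O x ≤ nu O y generalizing x y
  · have := this hy hx (by rwa [add_comm]) (by omega)
    rw [add_comm, min_comm]; exact this
  rw [min_eq_left hle]
  -- (x + y) / x ∈ O
  have hy' : y / x ∈ O := by
    rw [mem_iff O (div_ne_zero hy hx), div_eq_mul_inv, nu_mul O hy (inv_ne_zero hx), nu_inv O hx]
    omega
  have h1 : (x + y) / x ∈ O := by
    have : (x + y) / x = 1 + y / x := by field_simp
    rw [this]; exact add_mem (one_mem O) hy'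
  have h2 := (mem_iff O (div_ne_zero hxy hx)).mp h1
  rw [div_eq_mul_inv, nu_mul O hxy (inv_ne_zero hx), nu_inv O hx] at h2
  omega

theorem nu_add_of_lt {x y : K} (hx : x ≠ 0) (hy : y ≠ 0) (hlt : nu O x < nu O y) :
    x + y ≠ 0 ∧ nu O (x + y) = nu O x := by
  have hxy : x + y ≠ 0 := by
    intro h
    have : x = -y := eq_neg_of_add_eq_zero_left h
    rw [this, nu_neg] at hlt
    exact lt_irrefl _ hlt
  refine ⟨hxy, ?_⟩
  have h1 := nu_add_ge O hx hy hxy
  rw [min_eq_left hlt.le] at h1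
  have h2 : min (nu O (x + y)) (nu O (-y)) ≤ nu O ((x + y) + (-y)) :=
    nu_add_ge O hxy (neg_ne_zero.mpr hy) (by simpa using hx)
  rw [nu_neg, add_neg_cancel_right] at h2
  rcases le_total (nu O (x + y)) (nu O y) with h | h
  · rw [min_eq_left h] at h2; omega
  · rw [min_eq_right h] at h2; omega

/-- `ν(x) ≥ M` allowing `x = 0`. -/
def GE (x : K) (M : ℤ) : Prop := x = 0 ∨ M ≤ nu O x

theorem GE.add {x y : K} {M : ℤ} (hx : GE O x M) (hy : GE O y M) : GE O (x + y) M := by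
  by_cases hx0 : x = 0
  · rw [hx0, zero_add]; exact hy
  by_cases hy0 : y = 0
  · rw [hy0, add_zero]; exact hx
  by_cases h0 : x + y = 0
  · exact Or.inl h0
  have hx' : M ≤ nu O x := hx.resolve_left hx0
  have hy' : M ≤ nu O y := hy.resolve_left hy0
  have := nu_add_ge O hx0 hy0 h0
  exact Or.inr (le_trans (le_min hx' hy') this)

theorem GE.zero (M : ℤ) : GE O (0 : K) M := Or.inl rfl

theorem GE.sum {ι : Type*} (s : Finset ι) (g : ι → K) (M : ℤ) (h : ∀ i ∈ s, GE O (g i) M) :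
    GE O (∑ i ∈ s, g i) M := by
  classical
  induction s using Finset.induction_on with
  | empty => simpa using GE.zero O M
  | insert a s ha ih =>
    rw [Finset.sum_insert ha]
    exact GE.add O (h a (Finset.mem_insert_self a s))
      (ih fun i hi => h i (Finset.mem_insert_of_mem hi))

theorem GE.mul {x y : K} {M M' : ℤ} (hx : GE O x M) (hy : GE O y M') : GE O (x * y) (M + M') := by
  rcases hx with rfl | hx
  · rw [zero_mul]; exact Or.inl rfl
  rcases hy with rfl | hy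
  · rw [mul_zero]; exact Or.inl rfl
  by_cases hx0 : x = 0
  · rw [hx0, zero_mul]; exact Or.inl rfl
  by_cases hy0 : y = 0
  · rw [hy0, mul_zero]; exact Or.inl rfl
  right
  rw [nu_mul O hx0 hy0]; omega

theorem GE.mono {x : K} {M M' : ℤ} (hx : GE O x M) (h : M' ≤ M) : GE O x M' := by
  rcases hx with rfl | hx
  · exact Or.inl rfl
  · exact Or.inr (le_trans h hx)

theorem GE.neg {x : K} {M : ℤ} (hx : GE O x M) : GE O (-x) M := by
  rcases hx with rfl | hx
  · rw [neg_zero]; exact Or.inl rfl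
  · right; rwa [nu_neg]

end Groth.Agent.H14Lib.Apx
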