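import Mathlib
import Groth.Agent.H14Lib.Apx1

universe u

namespace Groth.Agent.H14Lib.Apx

variable {K : Type u} [Field K]

section two
variable (A B : ValuationSubring K) [IsDiscreteValuationRing A] [IsDiscreteValuationRing B]

/-- if `A ≤ B` then `ν_B = ν_A · e` on `A`, `e = ν_B(ϖ_A)`. -/
theorem nu_eq_mul_of_le (h : A ≤ B) {y : K} (hy : y ∈ A) (hy0 : y ≠ 0) :
    nu B y = nu A y * nu B ((unif A : A) : K) := by
  obtain ⟨k, hk⟩ := ord_of_mem A hy hy0
  rw [nu_eq A hk]
  obtain ⟨w, rfl⟩ := hk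
  have hw0 : (((w : A) : K)) ≠ 0 := unit_ne A w
  have hwB : nu B ((w : A) : K) = 0 := by
    have h1 : (((w : A) : K)) ∈ B := h (w : A).2
    have h2 : (((w : A) : K))⁻¹ ∈ B := by
      have : (((w : A) : K))⁻¹ = (((w⁻¹ : Aˣ) : A) : K) := by
        apply inv_eq_of_mul_eq_one_right
        rw [← Subring.coe_mul]; simp
      rw [this]; exact h ((w⁻¹ : Aˣ) : A).2
    have h3 := (mem_iff B hw0).mp h1
    have h4 := (mem_iff B (inv_ne_zero hw0)).mp h2
    rw [nu_inv B hw0] at h4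
    omega
  rw [zpow_natCast, nu_mul B hw0 (pow_ne_zero k (unif_ne A)), hwB, nu_pow B (unif_ne A), zero_add]

theorem not_le_of_ne (hne : A ≠ B) : ¬ A ≤ B := by
  intro h
  have he : 0 ≤ nu B ((unif A : A) : K) := (mem_iff B (unif_ne A)).mp (h (unif A).2)
  rcases he.eq_or_lt with he0 | hepos
  · -- e = 0
    have h1 : (((unif B : B) : K))⁻¹ ∉ B := by
      rw [mem_iff B (inv_ne_zero (unif_ne B)), nu_inv B (unif_ne B), nu_unif]
      omega
    have h2 : (((unif B : B) : K))⁻¹ ∉ A := fun hA => h1 (h hA)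
    have h3 : ((unif B : B) : K) ∈ A := by
      rcases A.mem_or_inv_mem (((unif B : B) : K))⁻¹ with h' | h'
      · exact absurd h' h2
      · rwa [inv_inv] at h'
    have h4 := nu_eq_mul_of_le A B h h3 (unif_ne B)
    rw [nu_unif, ← he0, mul_zero] at h4
    omega
  · -- e > 0 : B ≤ A
    apply hne
    apply le_antisymm h
    intro x hx
    by_contra hxA
    have hx0 : x ≠ 0 := by
      rintro rfl; exact hxA (zero_mem A)
    have h1 : x⁻¹ ∈ A := (A.mem_or_inv_mem x).resolve_left hxA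
    have h2 : nu A x < 0 := by
      have := (mem_iff A hx0).not.mp hxA
      omega
    have h3 := nu_eq_mul_of_le A B h h1 (inv_ne_zero hx0)
    rw [nu_inv A hx0, nu_inv B hx0] at h3
    have h4 : 0 ≤ nu B x := (mem_iff B hx0).mp hx
    have h5 : 0 < (- nu A x) * nu B ((unif A : A) : K) := mul_pos (by omega) hepos
    omega

theorem exists_pair (hne : A ≠ B) : ∃ y : K, y ≠ 0 ∧ nu A y < 0 ∧ 0 < nu B y := by
  have h1 := not_le_of_ne A B hne
  have h2 := not_le_of_ne B A (Ne.symm hne)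
  obtain ⟨b, hbA, hbB⟩ := SetLike.not_le_iff_exists.mp h1
  obtain ⟨a, haB, haA⟩ := SetLike.not_le_iff_exists.mp h2
  have ha0 : a ≠ 0 := by rintro rfl; exact haA (zero_mem A)
  have hb0 : b ≠ 0 := by rintro rfl; exact hbB (zero_mem B)
  refine ⟨a / b, div_ne_zero ha0 hb0, ?_, ?_⟩
  · rw [div_eq_mul_inv, nu_mul A ha0 (inv_ne_zero hb0), nu_inv A hb0]
    have := (mem_iff A ha0).not.mp haA
    have := (mem_iff A hb0).mp hbA
    omega
  · rw [div_eq_mul_inv, nu_mul B ha0 (inv_ne_zero hb0), nu_inv B hb0]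
    have := (mem_iff B hb0).not.mp hbB
    have := (mem_iff B ha0).mp haB
    omega

end two

section one
variable (A : ValuationSubring K) [IsDiscreteValuationRing A]

theorem nu_one_add_of_neg {u : K} (hu0 : u ≠ 0) (hu : nu A u < 0) :
    1 + u ≠ 0 ∧ nu A (1 + u) = nu A u := by
  have := nu_add_of_lt A hu0 one_ne_zero (by rw [nu_one]; exact hu)
  rw [add_comm] at this
  exact this

theorem nu_one_add_of_pos {u : K} (hu0 : u ≠ 0) (hu : 0 < nu A u) :
    1 + u ≠ 0 ∧ nu A (1 + u) = 0 := by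
  have := nu_add_of_lt A one_ne_zero hu0 (by rw [nu_one]; exact hu)
  rw [nu_one] at this
  exact this

end one

variable {r : ℕ} (O : Fin r → ValuationSubring K) [∀ i, IsDiscreteValuationRing (O i)]

theorem lemmaA (hinj : Function.Injective O) (i₀ : Fin r) :
    ∀ S : Finset (Fin r), i₀ ∉ S →
      ∃ x : K, x ≠ 0 ∧ nu (O i₀) x < 0 ∧ ∀ j ∈ S, 0 < nu (O j) x := by
  classical
  intro S
  induction S using Finset.induction_on with
  | empty =>
    intro _
    refine ⟨(((unif (O i₀) : O i₀) : K))⁻¹, inv_ne_zero (unif_ne _), ?_, by simp⟩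
    rw [nu_inv _ (unif_ne _), nu_unif]; omega
  | insert s S hs ih =>
    intro hi
    have hi₀s : i₀ ≠ s := fun h => hi (h ▸ Finset.mem_insert_self _ _)
    have hi₀S : i₀ ∉ S := fun h => hi (Finset.mem_insert_of_mem h)
    obtain ⟨z, hz0, hzi, hzS⟩ := ih hi₀S
    obtain ⟨y, hy0, hyi, hys⟩ := exists_pair (O i₀) (O s) (fun h => hi₀s (hinj h))
    -- N large
    set T : ℤ := ∑ j ∈ S, |nu (O j) y| with hT
    have hT0 : 0 ≤ T := Finset.sum_nonneg fun _ _ => abs_nonneg _
    set N : ℕ := (1 + T).toNat with hN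
    have hNT : (N : ℤ) = 1 + T := Int.toNat_of_nonneg (by omega)
    have hNj : ∀ j ∈ S, - nu (O j) y < (N : ℤ) := by
      intro j hj
      have h1 : |nu (O j) y| ≤ T :=
        Finset.single_le_sum (f := fun j => |nu (O j) y|) (fun _ _ => abs_nonneg _) hj
      have h2 := neg_abs_le (nu (O j) y)
      omega
    have hN1 : (1 : ℤ) ≤ (N : ℤ) := by omega
    have hzN0 : z ^ N ≠ 0 := pow_ne_zero N hz0
    rcases lt_trichotomy (nu (O s) z) 0 with hneg | hzero | hpos
    · -- ν_s(z) < 0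
      have hu_i : nu (O i₀) (z ^ N) < 0 := by
        rw [nu_pow _ hz0]; exact mul_neg_of_pos_of_neg (by omega) hzi
      have hu_s : nu (O s) (z ^ N) < 0 := by
        rw [nu_pow _ hz0]; exact mul_neg_of_pos_of_neg (by omega) hneg
      obtain ⟨h10, h1i⟩ := nu_one_add_of_neg (O i₀) hzN0 hu_i
      obtain ⟨-, h1s⟩ := nu_one_add_of_neg (O s) hzN0 hu_s
      refine ⟨z ^ N * (1 + z ^ N)⁻¹ * y,
        mul_ne_zero (mul_ne_zero hzN0 (inv_ne_zero h10)) hy0, ?_, ?_⟩
      · rw [nu_mul _ (mul_ne_zero hzN0 (inv_ne_zero h10)) hy0, nu_mul _ hzN0 (inv_ne_zero h10),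
          nu_inv _ h10, h1i]
        omega
      · intro j hj
        rcases Finset.mem_insert.mp hj with rfl | hjS
        · rw [nu_mul _ (mul_ne_zero hzN0 (inv_ne_zero h10)) hy0, nu_mul _ hzN0 (inv_ne_zero h10),
            nu_inv _ h10, h1s]
          omega
        · have hzj := hzS j hjS
          have hu_j : 0 < nu (O j) (z ^ N) := by
            rw [nu_pow _ hz0]; exact mul_pos (by omega) hzj
          obtain ⟨-, h1j⟩ := nu_one_add_of_pos (O j) hzN0 hu_j
          rw [nu_mul _ (mul_ne_zero hzN0 (inv_ne_zero h10)) hy0, nu_mul _ hzN0 (inv_ne_zero h10),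
            nu_inv _ h10, h1j, nu_pow _ hz0]
          have : (N : ℤ) ≤ (N : ℤ) * nu (O j) z := le_mul_of_one_le_right (by omega) (by omega)
          have := hNj j hjS
          omega
    · -- ν_s(z) = 0
      refine ⟨z ^ N * y, mul_ne_zero hzN0 hy0, ?_, ?_⟩
      · rw [nu_mul _ hzN0 hy0, nu_pow _ hz0]
        have : (N : ℤ) * nu (O i₀) z ≤ 0 := mul_nonpos_of_nonneg_of_nonpos (by omega) hzi.le
        omega
      · intro j hj
        rcases Finset.mem_insert.mp hj with rfl | hjS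
        · rw [nu_mul _ hzN0 hy0, nu_pow _ hz0, hzero]; omega
        · have hzj := hzS j hjS
          rw [nu_mul _ hzN0 hy0, nu_pow _ hz0]
          have : (N : ℤ) ≤ (N : ℤ) * nu (O j) z := le_mul_of_one_le_right (by omega) (by omega)
          have := hNj j hjS
          omega
    · -- ν_s(z) > 0
      refine ⟨z, hz0, hzi, ?_⟩
      intro j hj
      rcases Finset.mem_insert.mp hj with rfl | hjS
      · exact hpos
      · exact hzS j hjS

theorem lemmaB (hinj : Function.Injective O) (i₀ : Fin r) (N : ℕ) :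
    ∃ e : K, GE (O i₀) (e - 1) N ∧ ∀ j, j ≠ i₀ → GE (O j) e N := by
  classical
  obtain ⟨x, hx0, hxi, hxS⟩ := lemmaA O hinj i₀ (Finset.univ.erase i₀) (by simp)
  have hxj : ∀ j, j ≠ i₀ → 0 < nu (O j) x := fun j hj => hxS j (by simp [hj])
  have hu0 : x ^ (N + 1) ≠ 0 := pow_ne_zero _ hx0
  have hu_i : nu (O i₀) (x ^ (N + 1)) ≤ -((N : ℤ) + 1) := by
    rw [nu_pow _ hx0]
    have : ((N + 1 : ℕ) : ℤ) * nu (O i₀) x ≤ ((N + 1 : ℕ) : ℤ) * (-1) :=
      mul_le_mul_of_nonneg_left (by omega) (by positivity)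
    push_cast at this ⊢; omega
  obtain ⟨h10, h1i⟩ := nu_one_add_of_neg (O i₀) hu0 (by omega)
  refine ⟨x ^ (N + 1) * (1 + x ^ (N + 1))⁻¹, ?_, ?_⟩
  · right
    have : x ^ (N + 1) * (1 + x ^ (N + 1))⁻¹ - 1 = -(1 + x ^ (N + 1))⁻¹ := by
      field_simp; ring
    rw [this, nu_neg, nu_inv _ h10, h1i]
    omega
  · intro j hj
    right
    have hpos : 0 < nu (O j) (x ^ (N + 1)) := by
      rw [nu_pow _ hx0]; exact mul_pos (by positivity) (hxj j hj)
    obtain ⟨-, h1j⟩ := nu_one_add_of_pos (O j) hu0 hpos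
    rw [nu_mul _ hu0 (inv_ne_zero h10), nu_inv _ h10, h1j, nu_pow _ hx0]
    have : ((N + 1 : ℕ) : ℤ) * 1 ≤ ((N + 1 : ℕ) : ℤ) * nu (O j) x :=
      mul_le_mul_of_nonneg_left (by have := hxj j hj; omega) (by positivity)
    push_cast at this ⊢; omega

theorem weak_approx (hinj : Function.Injective O) (g : Fin r → K) (M : ℤ) :
    ∃ f : K, ∀ k, GE (O k) (f - g k) M := by
  classical
  set L : ℤ := ∑ k : Fin r, ∑ i : Fin r, |nu (O k) (g i)| with hL
  have hLk : ∀ k i, GE (O k) (g i) (-L) := by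
    intro k i
    right
    have h1 : |nu (O k) (g i)| ≤ ∑ i : Fin r, |nu (O k) (g i)| :=
      Finset.single_le_sum (f := fun i => |nu (O k) (g i)|) (fun _ _ => abs_nonneg _)
        (Finset.mem_univ i)
    have h2 : ∑ i : Fin r, |nu (O k) (g i)| ≤ L :=
      Finset.single_le_sum (f := fun k => ∑ i : Fin r, |nu (O k) (g i)|)
        (fun _ _ => Finset.sum_nonneg fun _ _ => abs_nonneg _) (Finset.mem_univ k)
    have h3 := neg_abs_le (nu (O k) (g i))
    omega
  set N : ℕ := (M + L).toNat with hN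
  have hNM : M + L ≤ (N : ℤ) := by rw [hN]; exact Int.self_le_toNat _
  choose e he1 he2 using fun i => lemmaB O hinj i N
  refine ⟨∑ i, e i * g i, fun k => ?_⟩
  have hsum : ∑ i, e i * g i - g k = ∑ i, (e i - if i = k then 1 else 0) * g i := by
    simp [sub_mul, Finset.sum_sub_distrib]
  rw [hsum]
  apply GE.sum
  intro i _
  have hc : GE (O k) (e i - if i = k then 1 else 0) N := by
    by_cases hik : i = k
    · rw [if_pos hik]; subst hik; exact he1 i
    · rw [if_neg hik, sub_zero]; exact he2 i k (fun h => hik h.symm)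
  exact (hc.mul (O k) (hLk k i)).mono (O k) (by omega)

theorem approx (hinj : Function.Injective O) (fs : Fin r → K) (n : Fin r → ℤ) :
    ∃ f : K, ∀ i, Ord (O i) (f - fs i) (n i) := by
  classical
  set M : ℤ := 1 + ∑ i : Fin r, |n i| with hM
  have hMi : ∀ i, n i + 1 ≤ M := by
    intro i
    have h1 : |n i| ≤ ∑ i : Fin r, |n i| :=
      Finset.single_le_sum (f := fun i => |n i|) (fun _ _ => abs_nonneg _) (Finset.mem_univ i)
    have := le_abs_self (n i)
    omega
  obtain ⟨f, hf⟩ := weak_approx O hinj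
    (fun i => fs i + (((unif (O i) : O i) : K)) ^ (n i)) M
  refine ⟨f, fun i => ?_⟩
  have hsplit : f - fs i = (((unif (O i) : O i) : K)) ^ (n i) +
      (f - (fs i + (((unif (O i) : O i) : K)) ^ (n i))) := by ring
  have hx0 : (((unif (O i) : O i) : K)) ^ (n i) ≠ 0 := zpow_ne_zero _ (unif_ne _)
  rcases hf i with h0 | hge
  · rw [hsplit, h0, add_zero]
    exact ⟨1, by simp⟩
  · by_cases hy0 : f - (fs i + (((unif (O i) : O i) : K)) ^ (n i)) = 0
    · rw [hsplit, hy0, add_zero]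
      exact ⟨1, by simp⟩
    · have hlt : nu (O i) ((((unif (O i) : O i) : K)) ^ (n i)) <
          nu (O i) (f - (fs i + (((unif (O i) : O i) : K)) ^ (n i))) := by
        rw [nu_unif_zpow]
        have := hMi i
        omega
      obtain ⟨hne, hnu⟩ := nu_add_of_lt (O i) hx0 hy0 hlt
      rw [← hsplit] at hne hnu
      have := ord_nu (O i) hne
      rwa [hnu, nu_unif_zpow] at this

end Groth.Agent.H14Lib.Apx
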