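import Mathlib
import Groth.Agent.H14Lib.Apx2

universe u

open AlgebraicGeometry CategoryTheory CategoryTheory.Limits

namespace Groth.Agent.H14Lib.Apx

theorem dvr_of_normal_dim_one (R : Type u) [CommRing R] [IsDomain R] [IsNoetherianRing R]
    [IsLocalRing R] [IsIntegrallyClosed R] (h : ringKrullDim R = 1) :
    IsDiscreteValuationRing R := by
  have hm : (IsLocalRing.maximalIdeal R).height = 1 := by
    have := IsLocalRing.maximalIdeal_height_eq_ringKrullDim (R := R)
    rw [h] at this
    exact_mod_cast this
  have huniq : ∀ P : Ideal R, P ≠ ⊥ → P.IsPrime → P = IsLocalRing.maximalIdeal R := by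
    intro P hP0 hPp
    by_contra hne
    have hlt : P < IsLocalRing.maximalIdeal R :=
      lt_of_le_of_ne (IsLocalRing.le_maximalIdeal hPp.ne_top) hne
    have h1 : P.height < (IsLocalRing.maximalIdeal R).height :=
      Ideal.height_strict_mono_of_isPrime hlt
    have hb : (⊥ : Ideal R) < P := bot_lt_iff_ne_bot.mpr hP0
    haveI : (⊥ : Ideal R).IsPrime := Ideal.isPrime_bot
    have h2 : (⊥ : Ideal R).height < P.height := Ideal.height_strict_mono_of_isPrime hb
    rw [hm] at h1
    have h3 : P.height = 0 := by
      have := Order.lt_one_iff_nonpos.mp h1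
      exact le_antisymm this zero_le
    rw [h3] at h2
    exact not_lt_zero h2
  have htfae := (tfae_of_isNoetherianRing_of_isLocalRing_of_isDomain (R := R)).out 3 0
  have h3 : IsIntegrallyClosed R ∧
      ∀ P : Ideal R, P ≠ ⊥ → P.IsPrime → P = IsLocalRing.maximalIdeal R :=
    ⟨inferInstance, huniq⟩
  have hpir : IsPrincipalIdealRing R := htfae.mp h3
  have hnf : IsLocalRing.maximalIdeal R ≠ ⊥ := by
    intro hbot
    rw [hbot, Ideal.height_bot] at hm
    exact zero_ne_one hm
  exact { toIsPrincipalIdealRing := hpir, toIsLocalRing := inferInstance, not_a_field' := hnf }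

/-- the valuation subring of `K` given by a valuation ring with fraction field `K`. -/
noncomputable def toVS (R K : Type u) [CommRing R] [IsDomain R] [ValuationRing R] [Field K]
    [Algebra R K] [IsFractionRing R K] : ValuationSubring K :=
  { (algebraMap R K).range with
    mem_or_inv_mem' := fun x => by
      rcases ValuationRing.isInteger_or_isInteger R x with h | h
      · left; obtain ⟨y, hy⟩ := h; exact ⟨y, hy⟩
      · right; obtain ⟨y, hy⟩ := h; exact ⟨y, hy⟩ }

theorem mem_toVS {R K : Type u} [CommRing R] [IsDomain R] [ValuationRing R] [Field K]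
    [Algebra R K] [IsFractionRing R K] (x : K) : x ∈ toVS R K ↔ ∃ y : R, algebraMap R K y = x :=
  Iff.rfl

/-- `R ≃ toVS R K`. -/
noncomputable def equivVS (R K : Type u) [CommRing R] [IsDomain R] [ValuationRing R] [Field K]
    [Algebra R K] [IsFractionRing R K] : R ≃+* toVS R K :=
  RingEquiv.ofBijective
    (RingHom.codRestrict (algebraMap R K) (toVS R K) (fun x => ⟨x, rfl⟩))
    ⟨fun x y hxy => IsFractionRing.injective R K (congrArg Subtype.val hxy),
     fun ⟨x, y, hy⟩ => ⟨y, Subtype.ext hy⟩⟩

theorem equivVS_coe {R K : Type u} [CommRing R] [IsDomain R] [ValuationRing R] [Field K]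
    [Algebra R K] [IsFractionRing R K] (x : R) : ((equivVS R K x : toVS R K) : K) = algebraMap R K x :=
  rfl

theorem algebraMap_equivVS_symm {R K : Type u} [CommRing R] [IsDomain R] [ValuationRing R] [Field K]
    [Algebra R K] [IsFractionRing R K] (y : toVS R K) :
    algebraMap R K ((equivVS R K).symm y) = (y : K) := by
  rw [← equivVS_coe, RingEquiv.apply_symm_apply]

end Groth.Agent.H14Lib.Apx
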