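import Mathlib
import Groth.Agent.H14Lib.Apx3

universe u

open AlgebraicGeometry CategoryTheory CategoryTheory.Limits

namespace Groth.Agent.H14Lib.Apx

theorem point_eq_of_range_le (X : Scheme.{u}) [IsIntegral X] [X.IsSeparated] (x y : X)
    [ValuationRing (X.presheaf.stalk y)]
    (h1 : (algebraMap (X.presheaf.stalk x) X.functionField).range ≤
      (algebraMap (X.presheaf.stalk y) X.functionField).range)
    (h2 : (algebraMap (X.presheaf.stalk y) X.functionField).range ≤
      (algebraMap (X.presheaf.stalk x) X.functionField).range) : x = y := by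
  have hinjx : Function.Injective (algebraMap (X.presheaf.stalk x) X.functionField) :=
    IsFractionRing.injective _ _
  have hinjy : Function.Injective (algebraMap (X.presheaf.stalk y) X.functionField) :=
    IsFractionRing.injective _ _
  let ey : (X.presheaf.stalk y) ≃+* (algebraMap (X.presheaf.stalk y) X.functionField).range :=
    RingEquiv.ofBijective (algebraMap (X.presheaf.stalk y) X.functionField).rangeRestrict
      ⟨fun a b hab => hinjy (congrArg Subtype.val hab),
        (algebraMap (X.presheaf.stalk y) X.functionField).rangeRestrict_surjective⟩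
  let φ : (X.presheaf.stalk x) →+* (X.presheaf.stalk y) :=
    ey.symm.toRingHom.comp ((Subring.inclusion h1).comp
      (algebraMap (X.presheaf.stalk x) X.functionField).rangeRestrict)
  have hφ : ∀ a, algebraMap (X.presheaf.stalk y) X.functionField (φ a) =
      algebraMap (X.presheaf.stalk x) X.functionField a := by
    intro a
    have : ((ey (φ a) : (algebraMap (X.presheaf.stalk y) X.functionField).range) :
        X.functionField) = algebraMap (X.presheaf.stalk x) X.functionField a := by
      simp [φ]
    exact this
  have hloc : IsLocalHom φ := by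
    constructor
    intro a ha
    obtain ⟨b, hb⟩ := ha.exists_right_inv
    obtain ⟨c, hc⟩ := h2 ⟨b, rfl⟩
    refine IsUnit.of_mul_eq_one c ?_
    apply hinjx
    rw [map_mul, map_one, hc, ← hφ a, ← map_mul, hb, map_one]
  have hcomp : (algebraMap (X.presheaf.stalk y) X.functionField).comp φ =
      algebraMap (X.presheaf.stalk x) X.functionField := RingHom.ext hφ
  -- the valuative square
  let S : ValuativeCommSq (terminal.from X) :=
    { R := X.presheaf.stalk y
      K := X.functionField
      i₁ := X.fromSpecStalk (genericPoint X)
      i₂ := terminal.from _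
      commSq := ⟨terminal.hom_ext _ _⟩ }
  have hx' : Spec.map (CommRingCat.ofHom (algebraMap (X.presheaf.stalk x) X.functionField)) ≫
      X.fromSpecStalk x = X.fromSpecStalk (genericPoint X) :=
    Scheme.SpecMap_stalkSpecializes_fromSpecStalk ((genericPoint_spec X).specializes trivial)
  have hy' : Spec.map (CommRingCat.ofHom (algebraMap (X.presheaf.stalk y) X.functionField)) ≫
      X.fromSpecStalk y = X.fromSpecStalk (genericPoint X) :=
    Scheme.SpecMap_stalkSpecializes_fromSpecStalk ((genericPoint_spec X).specializes trivial)
  let l₁ : S.commSq.LiftStruct :=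
    { l := X.fromSpecStalk y
      fac_left := hy'
      fac_right := terminal.hom_ext _ _ }
  let l₂ : S.commSq.LiftStruct :=
    { l := Spec.map (CommRingCat.ofHom φ) ≫ X.fromSpecStalk x
      fac_left := by
        change Spec.map (CommRingCat.ofHom (algebraMap (X.presheaf.stalk y) X.functionField)) ≫
          Spec.map (CommRingCat.ofHom φ) ≫ X.fromSpecStalk x = X.fromSpecStalk (genericPoint X)
        rw [← Category.assoc, ← Spec.map_comp, ← CommRingCat.ofHom_comp, hcomp]
        exact hx'
      fac_right := terminal.hom_ext _ _ }
  have huniq := IsSeparated.valuativeCriterion (terminal.from X) S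
  have hl : l₁ = l₂ := huniq.elim l₁ l₂
  have hl' : X.fromSpecStalk y = Spec.map (CommRingCat.ofHom φ) ≫ X.fromSpecStalk x :=
    congrArg CommSq.LiftStruct.l hl
  have h3 : (X.fromSpecStalk y) (IsLocalRing.closedPoint (X.presheaf.stalk y)) = y :=
    Scheme.fromSpecStalk_closedPoint
  haveI : IsLocalHom (CommRingCat.ofHom φ).hom := hloc
  have h4 : (X.fromSpecStalk x) ((Spec.map (CommRingCat.ofHom φ))
      (IsLocalRing.closedPoint (X.presheaf.stalk y))) = x := by
    rw [AlgebraicGeometry.Spec_closedPoint (f := CommRingCat.ofHom φ)]
    exact Scheme.fromSpecStalk_closedPoint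
  have h5 : (X.fromSpecStalk y) (IsLocalRing.closedPoint (X.presheaf.stalk y)) =
      (X.fromSpecStalk x) ((Spec.map (CommRingCat.ofHom φ))
        (IsLocalRing.closedPoint (X.presheaf.stalk y))) := by
    have := congrArg (fun g : Spec (X.presheaf.stalk y) ⟶ X =>
      g (IsLocalRing.closedPoint (X.presheaf.stalk y))) hl'
    exact this
  rw [← h4, ← h5, h3]

end Groth.Agent.H14Lib.Apx
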