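import Mathlib
import Groth.Prelude.Def_PolLaw
import Groth.Prelude.Def_PolLaw2

/-!
# Coefficient theory of homogeneous polynomial laws on free modules; the linear form on the
tensor power of a polynomial ring attached to a homogeneous law (towards Cayley–Hamilton for
multiplicative laws).
-/

set_option autoImplicit false
universe u
open scoped TensorProduct

namespace Groth.Agent.H14Lib.CH

open MvPolynomial

section Coeff

variable {A : Type u} [CommRing A] {M : Type u} [AddCommGroup M] [Module A M]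
  {I : Type u}

/-- generic element over the finite set `Λ` of indices -/
noncomputable def gen (e : I → M) (Λ : Finset I) : MvPolynomial I A ⊗[A] M :=
  ∑ i ∈ Λ, (X i : MvPolynomial I A) ⊗ₜ[A] e i

/-- value of the law at the generic element, as a polynomial -/
noncomputable def gpoly (G : M →ₚₗ[A] A) (e : I → M) (Λ : Finset I) : MvPolynomial I A :=
  TensorProduct.rid A (MvPolynomial I A) (G.toFun' (MvPolynomial I A) (gen e Λ))

theorem eq_rid_tmul_one {S : Type u} [CommSemiring S] [Algebra A S] (z : S ⊗[A] A) :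
    z = (TensorProduct.rid A S z) ⊗ₜ[A] (1 : A) := by
  conv_lhs => rw [← (TensorProduct.rid A S).symm_apply_apply z]
  rw [TensorProduct.rid_symm_apply]

theorem spade (G : M →ₚₗ[A] A) (e : I → M) (Λ : Finset I)
    {S : Type u} [CommSemiring S] [Algebra A S] (a : I → S) :
    G.toFun' S (∑ i ∈ Λ, a i ⊗ₜ[A] e i) = (aeval a (gpoly G e Λ)) ⊗ₜ[A] (1 : A) := by
  have h := PolynomialLaw.isCompat_apply' (f := G) (aeval a : MvPolynomial I A →ₐ[A] S) (gen e Λ)
  have h2 : (aeval a : MvPolynomial I A →ₐ[A] S).toLinearMap.rTensor M (gen e Λ) =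
      ∑ i ∈ Λ, a i ⊗ₜ[A] e i := by
    simp [gen, map_sum, LinearMap.rTensor_tmul]
  rw [h2] at h
  rw [← h, eq_rid_tmul_one (G.toFun' (MvPolynomial I A) (gen e Λ)), LinearMap.rTensor_tmul]
  rfl

theorem tmul_one_inj {S : Type u} [CommSemiring S] [Algebra A S] {s s' : S}
    (h : s ⊗ₜ[A] (1 : A) = s' ⊗ₜ[A] (1 : A)) : s = s' := by
  have := congrArg (TensorProduct.rid A S) h
  simpa using this

open Classical in
noncomputable def ind (Λ : Finset I) (i : I) : MvPolynomial I A := if i ∈ Λ then X i else 0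

open Classical in
theorem aeval_ind_monomial (Λ : Finset I) (μ : I →₀ ℕ) (c : A) :
    aeval (ind (A := A) Λ) (monomial μ c) = if μ.support ⊆ Λ then monomial μ c else 0 := by
  rw [aeval_monomial]
  split_ifs with h
  · have : (μ.prod fun i k => ind (A := A) Λ i ^ k) = μ.prod fun i k => (X i : MvPolynomial I A) ^ k := by
      refine Finset.prod_congr rfl fun i hi => ?_
      simp only [ind, if_pos (h hi)]
    rw [this, MvPolynomial.monomial_eq]
    rfl
  · obtain ⟨i, hi, hiΛ⟩ := Finset.not_subset.mp h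
    have : (μ.prod fun i k => ind (A := A) Λ i ^ k) = 0 := by
      refine Finset.prod_eq_zero hi ?_
      simp only [ind, if_neg hiΛ]
      exact zero_pow (Finsupp.mem_support_iff.mp hi)
    rw [this, mul_zero]

open Classical in
theorem coeff_aeval_ind (Λ : Finset I) (h : MvPolynomial I A) (ν : I →₀ ℕ) :
    coeff ν (aeval (ind (A := A) Λ) h) = if ν.support ⊆ Λ then coeff ν h else 0 := by
  induction h using MvPolynomial.induction_on' with
  | monomial μ c =>
    rw [aeval_ind_monomial]
    by_cases hμ : μ.support ⊆ Λ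
    · rw [if_pos hμ]
      by_cases hν : ν.support ⊆ Λ
      · rw [if_pos hν]
      · rw [if_neg hν, coeff_monomial, if_neg]
        rintro rfl
        exact hν hμ
    · rw [if_neg hμ, coeff_zero]
      split_ifs with hν
      · rw [coeff_monomial, if_neg]
        rintro rfl
        exact hμ hν
      · rfl
  | add p q hp hq =>
    rw [map_add, coeff_add, hp, hq, coeff_add]
    split_ifs <;> simp

theorem coeff_scale (h : MvPolynomial I A) (ν : I →₀ ℕ) (k : ℕ) :
    coeff ν (Polynomial.coeff (aeval (R := A) (fun i => Polynomial.C (X i : MvPolynomial I A) * Polynomial.X) h) k) =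
      if ν.degree = k then coeff ν h else 0 := by
  classical
  induction h using MvPolynomial.induction_on' with
  | monomial μ c =>
    have h1 : aeval (R := A) (fun i => Polynomial.C (X i : MvPolynomial I A) * Polynomial.X) (monomial μ c) =
        Polynomial.C (monomial μ c) * Polynomial.X ^ μ.degree := by
      rw [aeval_monomial]
      simp only [mul_pow, Finsupp.prod_mul, ← map_pow]
      rw [Finsupp.prod, ← map_prod, Finsupp.prod, Finset.prod_pow_eq_pow_sum, ← mul_assoc]
      congr 1
      rw [Polynomial.algebraMap_apply, ← Polynomial.C_mul]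
      congr 1
      rw [MvPolynomial.monomial_eq, Finsupp.prod]
      rfl
    rw [h1, Polynomial.coeff_C_mul, Polynomial.coeff_X_pow]
    by_cases hk : k = μ.degree
    · subst hk
      simp only [if_true, mul_one, coeff_monomial]
      by_cases hμν : μ = ν
      · subst hμν; simp
      · rw [if_neg hμν]; split_ifs <;> rfl
    · rw [if_neg hk, mul_zero, coeff_zero, coeff_monomial]
      by_cases hμν : μ = ν
      · subst hμν; rw [if_neg (fun h => hk h.symm)]
      · rw [if_neg hμν]; split_ifs <;> rfl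
  | add p q hp hq =>
    rw [map_add, Polynomial.coeff_add, coeff_add, hp, hq, coeff_add]
    split_ifs <;> simp

theorem gpoly_homog (G : M →ₚₗ[A] A) {d : ℕ} (hG : PolLaw.IsHomog G d) (e : I → M) (Λ : Finset I) :
    (gpoly G e Λ).IsHomogeneous d := by
  classical
  set g := gpoly G e Λ with hg
  have h1 := spade G e Λ (S := Polynomial (MvPolynomial I A))
    (fun i => Polynomial.C (X i : MvPolynomial I A) * Polynomial.X)
  have h2 : (∑ i ∈ Λ, (Polynomial.C (X i : MvPolynomial I A) * Polynomial.X) ⊗ₜ[A] e i) =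
      (Polynomial.X : Polynomial (MvPolynomial I A)) •
        ∑ i ∈ Λ, (Polynomial.C (X i : MvPolynomial I A)) ⊗ₜ[A] e i := by
    rw [Finset.smul_sum]
    refine Finset.sum_congr rfl fun i _ => ?_
    rw [TensorProduct.smul_tmul', smul_eq_mul, mul_comm]
  have h3 := spade G e Λ (S := Polynomial (MvPolynomial I A))
    (fun i => Polynomial.C (X i : MvPolynomial I A))
  have h4 : aeval (R := A) (fun i => Polynomial.C (X i : MvPolynomial I A)) g = Polynomial.C g := by
    have := MvPolynomial.comp_aeval_apply (R := A) (fun i => (X i : MvPolynomial I A))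
      (Polynomial.CAlgHom (R := A) (A := MvPolynomial I A)) g
    rw [aeval_X_left, AlgHom.id_apply] at this
    exact this.symm
  rw [h2, hG, h3, ← hg, h4, TensorProduct.smul_tmul', smul_eq_mul] at h1
  have h5 := tmul_one_inj h1
  intro ν hν
  have hw : Finsupp.weight (1 : I → ℕ) ν = ν.degree := by
    rw [Finsupp.degree_eq_weight_one]; rfl
  rw [hw]
  by_contra hne
  have h6 := coeff_scale g ν ν.degree
  rw [if_pos rfl, ← h5, Polynomial.coeff_X_pow_mul', Polynomial.coeff_C] at h6
  apply hν
  rw [← h6]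
  split_ifs with h7 h8
  · exfalso; apply hne; omega
  · simp
  · simp

theorem aeval_ind_gpoly (G : M →ₚₗ[A] A) (e : I → M) {Λ Λ' : Finset I} (hΛ : Λ ⊆ Λ') :
    aeval (ind (A := A) Λ) (gpoly G e Λ') = gpoly G e Λ := by
  classical
  have h1 := spade G e Λ' (S := MvPolynomial I A) (ind (A := A) Λ)
  have h2 : (∑ i ∈ Λ', ind (A := A) Λ i ⊗ₜ[A] e i) = gen e Λ := by
    rw [gen, ← Finset.sum_subset hΛ]
    · refine Finset.sum_congr rfl fun i hi => ?_
      rw [ind, if_pos hi]
    · intro i _ hi
      rw [ind, if_neg hi, TensorProduct.zero_tmul]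
  rw [h2, eq_rid_tmul_one (G.toFun' (MvPolynomial I A) (gen e Λ))] at h1
  exact (tmul_one_inj h1).symm

theorem gpoly_support (G : M →ₚₗ[A] A) (e : I → M) (Λ : Finset I) {ν : I →₀ ℕ}
    (hν : coeff ν (gpoly G e Λ) ≠ 0) : ν.support ⊆ Λ := by
  classical
  by_contra h
  apply hν
  rw [← aeval_ind_gpoly G e (subset_refl Λ), coeff_aeval_ind, if_neg h]

theorem gpoly_coeff_mono (G : M →ₚₗ[A] A) (e : I → M) {Λ Λ' : Finset I} (hΛ : Λ ⊆ Λ')
    {ν : I →₀ ℕ} (hν : ν.support ⊆ Λ) :
    coeff ν (gpoly G e Λ') = coeff ν (gpoly G e Λ) := by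
  classical
  rw [← aeval_ind_gpoly G e hΛ, coeff_aeval_ind, if_pos hν]

noncomputable def mult {d : ℕ} (τ : Fin d → I) : I →₀ ℕ := ∑ k, Finsupp.single (τ k) 1

theorem mult_apply {d : ℕ} (τ : Fin d → I) (i : I) [DecidableEq I] :
    mult τ i = ∑ k, if τ k = i then 1 else 0 := by
  rw [mult, Finsupp.finsetSum_apply]
  refine Finset.sum_congr rfl fun k _ => ?_
  rw [Finsupp.single_apply]

theorem mem_support_mult {d : ℕ} (τ : Fin d → I) (i : I) :
    i ∈ (mult τ).support ↔ ∃ k, τ k = i := by
  classical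
  rw [Finsupp.mem_support_iff, mult_apply, Ne, Finset.sum_eq_zero_iff]
  constructor
  · intro h
    by_contra h'
    apply h
    intro k _
    rw [if_neg]
    intro hk
    exact h' ⟨k, hk⟩
  · rintro ⟨k, hk⟩ h
    have := h k (Finset.mem_univ k)
    rw [if_pos hk] at this
    exact one_ne_zero this

theorem prod_mult {S : Type*} [CommSemiring S] {d : ℕ} (τ : Fin d → I) (a : I → S) :
    ∏ k, a (τ k) = (mult τ).prod (fun i n => a i ^ n) := by
  rw [mult, ← Finsupp.prod_finsetSum_index]
  · refine Finset.prod_congr rfl fun k _ => ?_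
    rw [Finsupp.prod_single_index (h := fun i n => a i ^ n) (pow_zero _), pow_one]
  · intro i; exact pow_zero _
  · intro i m n; exact pow_add _ _ _

theorem exists_mult : ∀ (d : ℕ) (ν : I →₀ ℕ), ν.degree = d → ∃ τ : Fin d → I, mult τ = ν := by
  classical
  intro d
  induction d with
  | zero =>
    intro ν hν
    refine ⟨Fin.elim0, ?_⟩
    rw [Finsupp.degree_eq_zero_iff] at hν
    rw [hν, mult]
    simp
  | succ d ih =>
    intro ν hν
    have hne : ν ≠ 0 := by
      rintro rfl
      simp at hν
    obtain ⟨i, hi⟩ : ∃ i, ν i ≠ 0 := by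
      by_contra h
      apply hne
      ext i
      by_contra h'
      exact h ⟨i, h'⟩
    have hle : Finsupp.single i 1 ≤ ν := by
      rw [Finsupp.single_le_iff]
      omega
    have hν' : ν = (ν - Finsupp.single i 1) + Finsupp.single i 1 := (tsub_add_cancel_of_le hle).symm
    have hdeg : (ν - Finsupp.single i 1).degree = d := by
      have := congrArg Finsupp.degree hν'
      rw [map_add, hν, Finsupp.degree_single] at this
      omega
    obtain ⟨τ', hτ'⟩ := ih _ hdeg
    refine ⟨Fin.cons i τ', ?_⟩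
    rw [mult, Fin.sum_univ_succ]
    simp only [Fin.cons_zero, Fin.cons_succ]
    rw [hν', ← hτ', mult, add_comm]

noncomputable def rep {d : ℕ} (τ : Fin d → I) : Fin d → I :=
  @Classical.epsilon _ ⟨τ⟩ (fun τ' => mult τ' = mult τ)

theorem rep_spec {d : ℕ} (τ : Fin d → I) : mult (rep τ) = mult τ :=
  @Classical.epsilon_spec _ (fun τ' => mult τ' = mult τ) ⟨τ, rfl⟩

theorem rep_congr {d : ℕ} {τ₁ τ₂ : Fin d → I} (h : mult τ₁ = mult τ₂) : rep τ₁ = rep τ₂ := by
  unfold rep
  simp only [h]

/-- the coefficient attached to a multi-index -/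
noncomputable def cnu (G : M →ₚₗ[A] A) (e : I → M) (ν : I →₀ ℕ) : A :=
  coeff ν (gpoly G e ν.support)

open Classical in
/-- the coefficient attached to a `d`-tuple of indices: the coefficient of the multi-index for one
chosen ordering, zero for the others -/
noncomputable def cp (G : M →ₚₗ[A] A) (e : I → M) {d : ℕ} (τ : Fin d → I) : A :=
  if rep τ = τ then cnu G e (mult τ) else 0

theorem star (G : M →ₚₗ[A] A) {d : ℕ} (hG : PolLaw.IsHomog G d) (e : I → M) (Λ : Finset I)
    {S : Type u} [CommSemiring S] [Algebra A S] (a : I → S) :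
    ∑ τ ∈ Fintype.piFinset (fun _ : Fin d => Λ), cp G e τ • ∏ k, a (τ k) =
      aeval a (gpoly G e Λ) := by
  classical
  set g := gpoly G e Λ with hg
  set T := Fintype.piFinset (fun _ : Fin d => Λ) with hT
  let h : (I →₀ ℕ) → S := fun ν => coeff ν g • ν.prod (fun i n => a i ^ n)
  have hmem : ∀ τ ∈ T, (mult τ).support ⊆ Λ := by
    intro τ hτ i hi
    obtain ⟨k, rfl⟩ := (mem_support_mult τ i).mp hi
    exact Fintype.mem_piFinset.mp hτ k
  have h1 : ∑ τ ∈ T, cp G e τ • ∏ k, a (τ k) =
      ∑ τ ∈ T.filter (fun τ => rep τ = τ), h (mult τ) := by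
    rw [Finset.sum_filter]
    refine Finset.sum_congr rfl fun τ hτ => ?_
    rw [cp]
    split_ifs with hr
    · simp only [h]
      rw [prod_mult, cnu, hg, gpoly_coeff_mono G e (hmem τ hτ) (subset_refl _)]
    · rw [zero_smul]
  have hinj : Set.InjOn (mult (I := I) (d := d)) (T.filter (fun τ => rep τ = τ) : Set (Fin d → I)) := by
    intro τ₁ h₁ τ₂ h₂ h12
    have e₁ : rep τ₁ = τ₁ := (Finset.mem_filter.mp h₁).2
    have e₂ : rep τ₂ = τ₂ := (Finset.mem_filter.mp h₂).2
    rw [← e₁, ← e₂]
    exact rep_congr h12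
  rw [h1, ← Finset.sum_image (f := h) hinj]
  have h2 : aeval a g = ∑ ν ∈ g.support, h ν := by
    rw [aeval_def, eval₂_eq]
    refine Finset.sum_congr rfl fun ν _ => ?_
    simp only [h, Algebra.smul_def]
    rfl
  rw [h2]
  symm
  apply Finset.sum_subset
  · intro ν hν
    have hc : coeff ν g ≠ 0 := MvPolynomial.mem_support_iff.mp hν
    have hs := gpoly_support G e Λ hc
    have hd : ν.degree = d := by
      have := gpoly_homog G hG e Λ hc
      rw [← this, Finsupp.degree_eq_weight_one]; rfl
    obtain ⟨τ0, hτ0⟩ := exists_mult d ν hd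
    refine Finset.mem_image.mpr ⟨rep τ0, Finset.mem_filter.mpr ⟨?_, ?_⟩, ?_⟩
    · refine Fintype.mem_piFinset.mpr fun k => hs ?_
      rw [← hτ0, ← rep_spec τ0]
      exact (mem_support_mult _ _).mpr ⟨k, rfl⟩
    · exact rep_congr (rep_spec τ0)
    · rw [rep_spec, hτ0]
  · intro ν _ hν
    simp only [h]
    rw [MvPolynomial.notMem_support_iff.mp hν, zero_smul]

end Coeff

section Poly

variable {A : Type u} [CommRing A] {σ : Type u} {d : ℕ}

theorem prod_tmul' {R : Type*} [CommSemiring R] {S B : Type*} [CommSemiring S] [Algebra R S]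
    [CommSemiring B] [Algebra R B] {κ : Type*} (s : Finset κ) (x : κ → S) (y : κ → B) :
    ∏ k ∈ s, (x k ⊗ₜ[R] y k) = (∏ k ∈ s, x k) ⊗ₜ[R] (∏ k ∈ s, y k) := by
  classical
  induction s using Finset.induction_on with
  | empty => simp [Algebra.TensorProduct.one_def]
  | insert j s hj ih =>
    rw [Finset.prod_insert hj, Finset.prod_insert hj, Finset.prod_insert hj, ih,
      Algebra.TensorProduct.tmul_mul_tmul]

/-- the `k`-th coordinate inclusion of the polynomial ring into its `d`-fold tensor power -/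
noncomputable def iota (A : Type u) [CommRing A] (σ : Type u) (d : ℕ) (k : Fin d) :
    MvPolynomial σ A →ₐ[A] MvPolynomial (Fin d × σ) A :=
  rename (Prod.mk k)

/-- the diagonal law `p ↦ p ⊗ p ⊗ ⋯ ⊗ p` -/
noncomputable def Delta (A : Type u) [CommRing A] (σ : Type u) (d : ℕ) :
    PolLaw.MulLaw A (MvPolynomial σ A) (MvPolynomial (Fin d × σ) A) d :=
  PolLaw.MulLaw.prodMap (fun k => iota A σ d k) d (Fintype.card_fin d)

noncomputable def enc (τ : Fin d → (σ →₀ ℕ)) : (Fin d × σ) →₀ ℕ :=
  ∑ k, (τ k).mapDomain (Prod.mk k)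

noncomputable def dec (μ : (Fin d × σ) →₀ ℕ) (k : Fin d) : σ →₀ ℕ :=
  μ.comapDomain (Prod.mk k) (Prod.mk_right_injective k).injOn

theorem dec_enc (τ : Fin d → (σ →₀ ℕ)) : dec (enc τ) = τ := by
  classical
  funext k
  ext j
  rw [dec, Finsupp.comapDomain_apply, enc, Finsupp.finsetSum_apply]
  rw [Finset.sum_eq_single k]
  · exact Finsupp.mapDomain_apply (Prod.mk_right_injective k) _ _
  · intro k' _ hk'
    apply Finsupp.mapDomain_of_notMem_range
    rintro ⟨j', hj'⟩
    exact hk' (congrArg Prod.fst hj')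
  · intro h; exact absurd (Finset.mem_univ k) h

theorem prod_iota_monomial (τ : Fin d → (σ →₀ ℕ)) :
    ∏ k, iota A σ d k (monomial (τ k) 1) = monomial (enc τ) 1 := by
  simp only [iota, rename_monomial]
  rw [enc, MvPolynomial.monomial_sum_index, map_one, one_mul]

theorem exists_repr {S : Type u} [CommSemiring S] [Algebra A S] (p : S ⊗[A] MvPolynomial σ A) :
    ∃ a : (σ →₀ ℕ) →₀ S, p = ∑ i ∈ a.support, a i ⊗ₜ[A] (monomial i (1 : A)) := by
  classical
  induction p using TensorProduct.induction_on with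
  | zero => exact ⟨0, by simp⟩
  | tmul s q =>
    induction q using MvPolynomial.induction_on' with
    | monomial i c =>
      refine ⟨Finsupp.single i (c • s), ?_⟩
      have h1 : (monomial i c : MvPolynomial σ A) = c • monomial i 1 := by
        rw [smul_monomial, smul_eq_mul, mul_one]
      rw [h1, TensorProduct.tmul_smul, TensorProduct.smul_tmul']
      by_cases h0 : c • s = 0
      · rw [h0]; simp
      · rw [Finsupp.support_single_ne_zero _ h0, Finset.sum_singleton, Finsupp.single_eq_same]
    | add q₁ q₂ h₁ h₂ =>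
      obtain ⟨a₁, e₁⟩ := h₁
      obtain ⟨a₂, e₂⟩ := h₂
      refine ⟨a₁ + a₂, ?_⟩
      rw [TensorProduct.tmul_add, e₁, e₂]
      have := Finsupp.sum_add_index' (f := a₁) (g := a₂)
        (h := fun i (s : S) => s ⊗ₜ[A] (monomial i (1 : A) : MvPolynomial σ A))
        (fun i => TensorProduct.zero_tmul _ _) (fun i s s' => TensorProduct.add_tmul _ _ _)
      simp only [Finsupp.sum] at this
      exact this.symm
  | add p₁ p₂ h₁ h₂ =>
    obtain ⟨a₁, e₁⟩ := h₁
    obtain ⟨a₂, e₂⟩ := h₂
    refine ⟨a₁ + a₂, ?_⟩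
    rw [e₁, e₂]
    have := Finsupp.sum_add_index' (f := a₁) (g := a₂)
      (h := fun i (s : S) => s ⊗ₜ[A] (monomial i (1 : A) : MvPolynomial σ A))
      (fun i => TensorProduct.zero_tmul _ _) (fun i s s' => TensorProduct.add_tmul _ _ _)
    simp only [Finsupp.sum] at this
    exact this.symm

theorem Delta_sum {S : Type u} [CommSemiring S] [Algebra A S] (Λ : Finset (σ →₀ ℕ))
    (a : (σ →₀ ℕ) → S) :
    (Delta A σ d).law.toFun' S (∑ i ∈ Λ, a i ⊗ₜ[A] (monomial i (1 : A))) =
      ∑ τ ∈ Fintype.piFinset (fun _ : Fin d => Λ),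
        (∏ k, a (τ k)) ⊗ₜ[A] (monomial (enc τ) (1 : A)) := by
  classical
  rw [Delta, PolLaw.MulLaw.prodMap_toFun']
  simp only [map_sum, Algebra.TensorProduct.map_tmul, AlgHom.id_apply]
  rw [Finset.prod_univ_sum]
  refine Finset.sum_congr rfl fun τ _ => ?_
  rw [prod_tmul', prod_iota_monomial]

/-- the monomial family of the polynomial ring -/
noncomputable def emon (A : Type u) [CommRing A] (σ : Type u) (i : σ →₀ ℕ) : MvPolynomial σ A :=
  monomial i (1 : A)

/-- the linear form on the `d`-fold tensor power of the polynomial ring attached to a law of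
degree `d` (it depends on choices; only its values on symmetric tensors matter) -/
noncomputable def fhat (F : MvPolynomial σ A →ₚₗ[A] A) (d : ℕ) :
    MvPolynomial (Fin d × σ) A →ₗ[A] A :=
  (basisMonomials (Fin d × σ) A).constr A (fun μ => cp F (emon A σ) (dec μ))

theorem fhat_monomial (F : MvPolynomial σ A →ₚₗ[A] A) (μ : (Fin d × σ) →₀ ℕ) :
    fhat F d (monomial μ 1) = cp F (emon A σ) (dec μ) := by
  have := (basisMonomials (Fin d × σ) A).constr_basis A (fun μ => cp F (emon A σ) (dec μ)) μ
  rw [coe_basisMonomials] at this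
  exact this

theorem tmul_eq_smul_tmul_one {S : Type u} [CommSemiring S] [Algebra A S] (s : S) (c : A) :
    s ⊗ₜ[A] c = (c • s) ⊗ₜ[A] (1 : A) := by
  rw [TensorProduct.smul_tmul, smul_eq_mul, mul_one]

/-- the law is the composite of the diagonal law and the linear form -/
theorem R1 (F : MvPolynomial σ A →ₚₗ[A] A) (hF : PolLaw.IsHomog F d)
    (S : Type u) [CommSemiring S] [Algebra A S] (p : S ⊗[A] MvPolynomial σ A) :
    (fhat F d).lTensor S ((Delta A σ d).law.toFun' S p) = F.toFun' S p := by
  obtain ⟨a, rfl⟩ := exists_repr p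
  rw [Delta_sum, map_sum]
  have h1 := spade F (emon A σ) a.support (S := S) (fun i => a i)
  simp only [emon] at h1
  rw [h1, ← star F hF (emon A σ) a.support (fun i => a i), TensorProduct.sum_tmul]
  refine Finset.sum_congr rfl fun τ _ => ?_
  rw [LinearMap.lTensor_tmul, fhat_monomial, dec_enc, tmul_eq_smul_tmul_one]

end Poly

end Groth.Agent.H14Lib.CH
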