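import Mathlib
import Groth.Agent.H14Lib.CH1

/-!
# Coefficient extraction in `S[v] ⊗ N` and the polynomial `∏ₖ (tₖ - X)` over a tensor power
-/

set_option autoImplicit false
universe u
open scoped TensorProduct

namespace Groth.Agent.H14Lib.CH

open MvPolynomial

section Kappa

variable {A : Type u} [CommRing A] (S : Type u) [CommRing S] [Algebra A S] (ρ : Type*)
  (N : Type u) [AddCommGroup N] [Module A N]

/-- the constant inclusion `S → S[v]` as an `A`-algebra map -/
noncomputable def Cv : S →ₐ[A] MvPolynomial ρ S := IsScalarTower.toAlgHom A S (MvPolynomial ρ S)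

theorem Cv_apply (s : S) : Cv (A := A) S ρ s = C s := rfl

/-- `S ⊗ N → S[v] ⊗ N` -/
noncomputable def incl : S ⊗[A] N →ₗ[A] MvPolynomial ρ S ⊗[A] N :=
  (Cv (A := A) S ρ).toLinearMap.rTensor N

/-- coefficient extraction `S[v] ⊗ N → S ⊗ N` -/
noncomputable def kap (μ : ρ →₀ ℕ) : MvPolynomial ρ S ⊗[A] N →ₗ[A] S ⊗[A] N :=
  ((lcoeff S μ).restrictScalars A).rTensor N

variable {S ρ N}

theorem incl_tmul (s : S) (n : N) : incl (A := A) S ρ N (s ⊗ₜ n) = (C s) ⊗ₜ n := rfl

theorem kap_tmul (μ : ρ →₀ ℕ) (g : MvPolynomial ρ S) (n : N) :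
    kap (A := A) S ρ N μ (g ⊗ₜ n) = (coeff μ g) ⊗ₜ n := rfl

open Classical in
theorem kap_monomial_smul_incl (μ μ' : ρ →₀ ℕ) (η : S ⊗[A] N) :
    kap (A := A) S ρ N μ ((monomial μ' (1 : S)) • incl (A := A) S ρ N η) =
      if μ' = μ then η else 0 := by
  induction η using TensorProduct.induction_on with
  | zero => simp
  | tmul s n =>
    rw [incl_tmul, TensorProduct.smul_tmul', smul_eq_mul, kap_tmul, mul_comm, C_mul_monomial,
      mul_one, coeff_monomial]
    split_ifs
    · rfl
    · rw [TensorProduct.zero_tmul]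
  | add x y hx hy =>
    rw [map_add, smul_add, map_add, hx, hy]
    split_ifs <;> simp

/-- decomposition of an element of `S[v] ⊗ N` into its coefficients -/
theorem exists_decomp (ξ : MvPolynomial ρ S ⊗[A] N) :
    ∃ T : Finset (ρ →₀ ℕ), (∀ μ ∉ T, kap (A := A) S ρ N μ ξ = 0) ∧
      ξ = ∑ μ ∈ T, (monomial μ (1 : S)) • incl (A := A) S ρ N (kap (A := A) S ρ N μ ξ) := by
  classical
  induction ξ using TensorProduct.induction_on with
  | zero => exact ⟨∅, by simp, by simp⟩
  | tmul g n =>
    refine ⟨g.support, ?_, ?_⟩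
    · intro μ hμ
      rw [kap_tmul, MvPolynomial.notMem_support_iff.mp hμ, TensorProduct.zero_tmul]
    · conv_lhs => rw [← MvPolynomial.support_sum_monomial_coeff g]
      rw [TensorProduct.sum_tmul]
      refine Finset.sum_congr rfl fun μ _ => ?_
      rw [kap_tmul, incl_tmul, TensorProduct.smul_tmul', smul_eq_mul, mul_comm, C_mul_monomial,
        mul_one]
  | add x y hx hy =>
    obtain ⟨T₁, h₁, e₁⟩ := hx
    obtain ⟨T₂, h₂, e₂⟩ := hy
    refine ⟨T₁ ∪ T₂, ?_, ?_⟩
    · intro μ hμ
      rw [Finset.mem_union, not_or] at hμ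
      rw [map_add, h₁ μ hμ.1, h₂ μ hμ.2, add_zero]
    · simp only [map_add, smul_add, Finset.sum_add_distrib]
      congr 1
      · conv_lhs => rw [e₁]
        apply Finset.sum_subset Finset.subset_union_left
        intro μ _ hμ
        rw [h₁ μ hμ, map_zero, smul_zero]
      · conv_lhs => rw [e₂]
        apply Finset.sum_subset Finset.subset_union_right
        intro μ _ hμ
        rw [h₂ μ hμ, map_zero, smul_zero]

variable {N' : Type u} [AddCommGroup N'] [Module A N']

theorem kap_lTensor (f : N →ₗ[A] N') (μ : ρ →₀ ℕ) (ξ : MvPolynomial ρ S ⊗[A] N) :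
    kap (A := A) S ρ N' μ (f.lTensor _ ξ) = f.lTensor S (kap (A := A) S ρ N μ ξ) := by
  induction ξ using TensorProduct.induction_on with
  | zero => simp
  | tmul g n => simp [kap_tmul]
  | add x y hx hy => simp only [map_add, hx, hy]

theorem incl_lTensor (f : N →ₗ[A] N') (η : S ⊗[A] N) :
    incl (A := A) S ρ N' (f.lTensor S η) = f.lTensor _ (incl (A := A) S ρ N η) := by
  induction η using TensorProduct.induction_on with
  | zero => simp
  | tmul g n => simp [incl_tmul]
  | add x y hx hy => simp only [map_add, hx, hy]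

theorem lTensor_smul' {R : Type u} [CommRing R] [Algebra A R] (f : N →ₗ[A] N') (g : R)
    (ξ : R ⊗[A] N) : f.lTensor R (g • ξ) = g • f.lTensor R ξ := by
  induction ξ using TensorProduct.induction_on with
  | zero => simp
  | tmul g' n => simp [TensorProduct.smul_tmul']
  | add x y hx hy => simp only [map_add, smul_add, hx, hy]

end Kappa

section KappaAlg

variable {A : Type u} [CommRing A] {S : Type u} [CommRing S] [Algebra A S] {ρ : Type*}
  {Q : Type u} [CommRing Q] [Algebra A Q]

theorem kap_one_tmul_mul (μ : ρ →₀ ℕ) (q : Q) (ξ : MvPolynomial ρ S ⊗[A] Q) :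
    kap (A := A) S ρ Q μ ((1 ⊗ₜ q) * ξ) = (1 ⊗ₜ q) * kap (A := A) S ρ Q μ ξ := by
  induction ξ using TensorProduct.induction_on with
  | zero => simp
  | tmul g n => simp [kap_tmul, Algebra.TensorProduct.tmul_mul_tmul]
  | add x y hx hy => simp only [map_add, mul_add, hx, hy]

theorem incl_eq_map (η : S ⊗[A] Q) :
    incl (A := A) S ρ Q η = Algebra.TensorProduct.map (Cv (A := A) S ρ) (AlgHom.id A Q) η := by
  induction η using TensorProduct.induction_on with
  | zero => simp
  | tmul g n => rfl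
  | add x y hx hy => simp only [map_add, hx, hy]

end KappaAlg

section Ehat
variable {A : Type u} [CommRing A] {σ : Type u} {d : ℕ}

/-- `∏ₖ (tₖ - X)` over the tensor power, where `tₖ` is the `k`-th copy of the variable `j0` -/
noncomputable def Ehat (A : Type u) [CommRing A] {σ : Type u} (d : ℕ) (j0 : σ) :
    Polynomial (MvPolynomial (Fin d × σ) A) :=
  ∏ k : Fin d, (Polynomial.C (X (k, j0)) - Polynomial.X)

noncomputable def Ecoef (A : Type u) [CommRing A] {σ : Type u} (d : ℕ) (j0 : σ) (j : ℕ) :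
    MvPolynomial (Fin d × σ) A := (Ehat A d j0).coeff j

theorem natDegree_Ehat_le (j0 : σ) : (Ehat A d j0).natDegree ≤ d := by
  unfold Ehat
  refine (Polynomial.natDegree_prod_le _ _).trans ?_
  calc ∑ k : Fin d, (Polynomial.C (X (k, j0) : MvPolynomial (Fin d × σ) A) - Polynomial.X).natDegree
      ≤ ∑ _k : Fin d, 1 := by
        refine Finset.sum_le_sum fun k _ => ?_
        refine (Polynomial.natDegree_sub_le _ _).trans ?_
        rw [Polynomial.natDegree_C]
        exact max_le (Nat.zero_le _) Polynomial.natDegree_X_le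
    _ = d := by simp

theorem prod_sub_eq {R : Type*} [CommRing R] (φ : MvPolynomial (Fin d × σ) A →+* R) (x : R)
    (j0 : σ) :
    ∏ k : Fin d, (φ (X (k, j0)) - x) = ∑ j ∈ Finset.range (d + 1), φ (Ecoef A d j0 j) * x ^ j := by
  have h1 : Polynomial.eval₂ φ x (Ehat A d j0) = ∏ k : Fin d, (φ (X (k, j0)) - x) := by
    unfold Ehat
    rw [Polynomial.eval₂_finsetProd]
    refine Finset.prod_congr rfl fun k _ => ?_
    rw [Polynomial.eval₂_sub, Polynomial.eval₂_C, Polynomial.eval₂_X]
  rw [← h1, Polynomial.eval₂_eq_sum_range' φ (Nat.lt_succ_of_le (natDegree_Ehat_le j0))]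
  rfl

theorem Ehat_eval_self (j0 : σ) (k : Fin d) :
    ∑ j ∈ Finset.range (d + 1), Ecoef A d j0 j * (X (k, j0)) ^ j = 0 := by
  have := prod_sub_eq (A := A) (RingHom.id (MvPolynomial (Fin d × σ) A)) (X (k, j0)) j0
  simp only [RingHom.id_apply] at this
  rw [← this]
  exact Finset.prod_eq_zero (Finset.mem_univ k) (sub_self _)

end Ehat

end Groth.Agent.H14Lib.CH
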