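import Mathlib
import Groth.Agent.H14Lib.CH2

/-!
# Multiplicativity of the linear form against the coefficients of `∏ₖ (tₖ - X)`
-/
set_option autoImplicit false
universe u
open scoped TensorProduct
open MvPolynomial
namespace Groth.Agent.H14Lib.CH

section C1

variable {A : Type u} [CommRing A] {σ : Type u} {d : ℕ}

/-- the coefficients of the characteristic polynomial of the variable `j0` -/
noncomputable def ccoef (F : PolLaw.MulLaw A (MvPolynomial σ A) A d) (j0 : σ) (j : ℕ) : A :=
  fhat F.law d (Ecoef A d j0 j)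

theorem Delta_yel (R : Type u) [CommRing R] [Algebra A R] (x : R) (j0 : σ) :
    (Delta A σ d).law.toFun' R ((1 : R) ⊗ₜ[A] (X j0 : MvPolynomial σ A) - x ⊗ₜ[A] 1) =
      ∑ j ∈ Finset.range (d + 1), (x ^ j) ⊗ₜ[A] Ecoef A d j0 j := by
  rw [Delta, PolLaw.MulLaw.prodMap_toFun']
  have h := prod_sub_eq (A := A) (d := d)
    (Algebra.TensorProduct.includeRight (R := A) (A := R) (B := MvPolynomial (Fin d × σ) A)).toRingHom
    (x ⊗ₜ[A] (1 : MvPolynomial (Fin d × σ) A)) j0
  simp only [AlgHom.toRingHom_eq_coe, RingHom.coe_coe, Algebra.TensorProduct.includeRight_apply,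
    Algebra.TensorProduct.tmul_pow, one_pow, Algebra.TensorProduct.tmul_mul_tmul, one_mul,
    mul_one] at h
  rw [← h]
  refine Finset.prod_congr rfl fun k _ => ?_
  rw [map_sub, Algebra.TensorProduct.map_tmul, Algebra.TensorProduct.map_tmul, map_one,
    iota, rename_X, map_one, AlgHom.id_apply]

theorem club {S : Type u} [CommRing S] [Algebra A S] {ρ : Type} {Q : Type u} [CommRing Q]
    [Algebra A Q] (f : Q →ₗ[A] A) (g : MvPolynomial ρ S) (q' : Q) (ξ : S ⊗[A] Q) :
    f.lTensor _ ((g ⊗ₜ[A] q') * incl (A := A) S ρ Q ξ) =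
      g • incl (A := A) S ρ A (f.lTensor S ((1 ⊗ₜ[A] q') * ξ)) := by
  induction ξ using TensorProduct.induction_on with
  | zero => simp
  | tmul s n =>
    simp [incl_tmul, Algebra.TensorProduct.tmul_mul_tmul, TensorProduct.smul_tmul']
  | add x y hx hy => simp only [map_add, mul_add, smul_add, hx, hy]

theorem club' {S : Type u} [CommRing S] [Algebra A S] {ρ : Type} (g : MvPolynomial ρ S) (a : A)
    (y : S ⊗[A] A) :
    (g ⊗ₜ[A] a) * incl (A := A) S ρ A y = g • incl (A := A) S ρ A (a • y) := by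
  induction y using TensorProduct.induction_on with
  | zero => simp
  | tmul s n =>
    rw [incl_tmul, Algebra.TensorProduct.tmul_mul_tmul, TensorProduct.smul_tmul', TensorProduct.smul_tmul,
      incl_tmul, TensorProduct.smul_tmul', smul_eq_mul, smul_eq_mul]
  | add x y hx hy => simp only [map_add, mul_add, smul_add, hx, hy]

theorem diamond {S : Type u} [CommRing S] [Algebra A S] {N : Type u} [AddCommGroup N] [Module A N]
    (n : ℕ) (y y' : ℕ → S ⊗[A] N)
    (h : ∑ i ∈ Finset.range n, (monomial (Finsupp.single () i) (1 : S)) • incl (A := A) S Unit N (y i) =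
      ∑ i ∈ Finset.range n, (monomial (Finsupp.single () i) (1 : S)) • incl (A := A) S Unit N (y' i))
    (j : ℕ) (hj : j < n) : y j = y' j := by
  classical
  have := congrArg (kap (A := A) S Unit N (Finsupp.single () j)) h
  simp only [map_sum, kap_monomial_smul_incl, (Finsupp.single_injective ()).eq_iff] at this
  rw [Finset.sum_ite_eq' , Finset.sum_ite_eq', if_pos (Finset.mem_range.mpr hj),
    if_pos (Finset.mem_range.mpr hj)] at this
  exact this

/-- the element `1 ⊗ T - X ⊗ 1` over `S[X]` (one variable, indexed by `Unit`) -/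
noncomputable def yel (S : Type u) [CommRing S] [Algebra A S] (j0 : σ) :
    MvPolynomial Unit S ⊗[A] MvPolynomial σ A :=
  (1 : MvPolynomial Unit S) ⊗ₜ[A] (X j0 : MvPolynomial σ A) - (X () : MvPolynomial Unit S) ⊗ₜ[A] 1

theorem expansion (f : MvPolynomial (Fin d × σ) A →ₗ[A] A) (S : Type u) [CommRing S] [Algebra A S]
    (j0 : σ) (p : S ⊗[A] MvPolynomial σ A) (q : MvPolynomial (Fin d × σ) A) :
    f.lTensor _ ((1 ⊗ₜ[A] q) * (Delta A σ d).law.toFun' (MvPolynomial Unit S)
        (yel S j0 * incl (A := A) S Unit _ p)) =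
      ∑ i ∈ Finset.range (d + 1), (monomial (Finsupp.single () i) (1 : S)) •
        incl (A := A) S Unit A (f.lTensor S ((1 ⊗ₜ[A] (q * Ecoef A d j0 i)) *
          (Delta A σ d).law.toFun' S p)) := by
  rw [((Delta A σ d).mult (MvPolynomial Unit S)).2, yel, Delta_yel]
  have h1 : (Delta A σ d).law.toFun' (MvPolynomial Unit S) (incl (A := A) S Unit _ p) =
      incl (A := A) S Unit _ ((Delta A σ d).law.toFun' S p) :=
    (PolynomialLaw.isCompat_apply' (f := (Delta A σ d).law) (Cv (A := A) S Unit) p).symm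
  rw [h1, Finset.sum_mul, Finset.mul_sum, map_sum]
  refine Finset.sum_congr rfl fun i _ => ?_
  rw [← mul_assoc, Algebra.TensorProduct.tmul_mul_tmul, one_mul, club, X_pow_eq_monomial]

theorem C1a (F : PolLaw.MulLaw A (MvPolynomial σ A) A d) (j0 : σ) (S : Type u) [CommRing S]
    [Algebra A S] (p : S ⊗[A] MvPolynomial σ A) (j : ℕ) (hj : j < d + 1) :
    (fhat F.law d).lTensor S ((1 ⊗ₜ[A] (Ecoef A d j0 j)) * (Delta A σ d).law.toFun' S p) =
      ccoef F j0 j • (fhat F.law d).lTensor S ((Delta A σ d).law.toFun' S p) := by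
  have h1 := expansion (fhat F.law d) S j0 p 1
  rw [← Algebra.TensorProduct.one_def, one_mul, R1 F.law F.homog, (F.mult _).2,
    ← R1 F.law F.homog _ (yel S j0), yel, Delta_yel, map_sum] at h1
  have h2 : F.law.toFun' (MvPolynomial Unit S) (incl (A := A) S Unit _ p) =
      incl (A := A) S Unit _ (F.law.toFun' S p) :=
    (PolynomialLaw.isCompat_apply' (f := F.law) (Cv (A := A) S Unit) p).symm
  rw [h2, Finset.sum_mul] at h1
  have h3 : ∀ i ∈ Finset.range (d + 1),
      (fhat F.law d).lTensor (MvPolynomial Unit S) ((X () ^ i) ⊗ₜ[A] Ecoef A d j0 i) *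
        incl (A := A) S Unit A (F.law.toFun' S p) =
      (monomial (Finsupp.single () i) (1 : S)) •
        incl (A := A) S Unit A (ccoef F j0 i • F.law.toFun' S p) := by
    intro i _
    rw [LinearMap.lTensor_tmul, club', X_pow_eq_monomial]
    rfl
  rw [Finset.sum_congr rfl h3] at h1
  have h4 := diamond (d + 1) _ _ h1 j hj
  simp only [one_mul] at h4
  rw [← h4, R1 F.law F.homog]

/-- pairs (monomial in the `E_j`, the matching monomial in the `c_j`) -/
inductive EC (F : PolLaw.MulLaw A (MvPolynomial σ A) A d) (j0 : σ) :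
    MvPolynomial (Fin d × σ) A → A → Prop
  | one : EC F j0 1 1
  | mul (j : ℕ) (hj : j < d + 1) {m : MvPolynomial (Fin d × σ) A} {c : A} :
      EC F j0 m c → EC F j0 (Ecoef A d j0 j * m) (ccoef F j0 j * c)

theorem C1 (F : PolLaw.MulLaw A (MvPolynomial σ A) A d) (j0 : σ)
    {m : MvPolynomial (Fin d × σ) A} {c : A} (h : EC F j0 m c) :
    ∀ (S : Type u) [CommRing S] [Algebra A S] (p : S ⊗[A] MvPolynomial σ A),
      (fhat F.law d).lTensor S ((1 ⊗ₜ[A] m) * (Delta A σ d).law.toFun' S p) =
        c • (fhat F.law d).lTensor S ((Delta A σ d).law.toFun' S p) := by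
  induction h with
  | one =>
    intro S _ _ p
    rw [← Algebra.TensorProduct.one_def, one_mul, one_smul]
  | mul j hj hmc ih =>
    rename_i m c
    intro S _ _ p
    have h1 := expansion (fhat F.law d) S j0 p m
    have h0 := expansion (fhat F.law d) S j0 p 1
    rw [← Algebra.TensorProduct.one_def, one_mul] at h0
    rw [ih (MvPolynomial Unit S) (yel S j0 * incl (A := A) S Unit _ p), h0, Finset.smul_sum] at h1
    have h3 : ∀ i ∈ Finset.range (d + 1),
        c • ((monomial (Finsupp.single () i) (1 : S)) •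
          incl (A := A) S Unit A ((fhat F.law d).lTensor S ((1 ⊗ₜ[A] (1 * Ecoef A d j0 i)) *
            (Delta A σ d).law.toFun' S p))) =
        (monomial (Finsupp.single () i) (1 : S)) •
          incl (A := A) S Unit A (c • (fhat F.law d).lTensor S ((1 ⊗ₜ[A] (1 * Ecoef A d j0 i)) *
            (Delta A σ d).law.toFun' S p)) := by
      intro i _
      rw [smul_comm, map_smul]
    rw [Finset.sum_congr rfl h3] at h1
    have h4 := diamond (d + 1) _ _ h1 j hj
    simp only [one_mul] at h4
    rw [mul_comm (Ecoef A d j0 j) m, ← h4, C1a F j0 S p j hj, smul_smul, mul_comm]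

end C1
end Groth.Agent.H14Lib.CH
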