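import Mathlib
import Groth.Agent.H14Lib.CH3
import Groth.Agent.S13722

/-!
# Cayley–Hamilton for multiplicative laws on polynomial rings
-/
set_option autoImplicit false
universe u
open scoped TensorProduct
open MvPolynomial
namespace Groth.Agent.H14Lib.CH

section D

variable {A : Type u} [CommRing A] {σ : Type u} {d : ℕ}

theorem EC_pow (F : PolLaw.MulLaw A (MvPolynomial σ A) A d) (j0 : σ) (j : ℕ) (hj : j < d + 1)
    {m : MvPolynomial (Fin d × σ) A} {c : A} (h : EC F j0 m c) (n : ℕ) :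
    EC F j0 (Ecoef A d j0 j ^ n * m) (ccoef F j0 j ^ n * c) := by
  induction n with
  | zero => simpa using h
  | succ n ih =>
    rw [pow_succ', pow_succ', mul_assoc, mul_assoc]
    exact EC.mul j hj ih

theorem EC_prod (F : PolLaw.MulLaw A (MvPolynomial σ A) A d) (j0 : σ) (μ : Fin (d + 1) →₀ ℕ) :
    EC F j0 (μ.prod fun j n => Ecoef A d j0 j ^ n) (μ.prod fun j n => ccoef F j0 j ^ n) := by
  classical
  unfold Finsupp.prod
  induction μ.support using Finset.induction_on with
  | empty => simpa using EC.one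
  | insert j T hj ih =>
    rw [Finset.prod_insert hj, Finset.prod_insert hj]
    exact EC_pow F j0 j j.isLt ih _

variable (S : Type u) [CommRing S] [Algebra A S]

/-- substitution `v_j ↦ c_j` -/
noncomputable def epsc (F : PolLaw.MulLaw A (MvPolynomial σ A) A d) (j0 : σ) :
    MvPolynomial (Fin (d + 1)) S →ₐ[A] S :=
  (aeval (R := S) (fun j : Fin (d + 1) => algebraMap A S (ccoef F j0 j))).restrictScalars A

/-- substitution `v_j ↦ E_j` on the polynomial ring -/
noncomputable def aevE (j0 : σ) :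
    MvPolynomial (Fin (d + 1)) S →ₐ[A] S ⊗[A] MvPolynomial (Fin d × σ) A :=
  (aeval (R := S) (fun j : Fin (d + 1) => (1 : S) ⊗ₜ[A] Ecoef A d j0 j)).restrictScalars A

/-- substitution `v_j ↦ E_j` -/
noncomputable def epsE (j0 : σ) :
    MvPolynomial (Fin (d + 1)) S ⊗[A] MvPolynomial (Fin d × σ) A →ₐ[A]
      S ⊗[A] MvPolynomial (Fin d × σ) A :=
  Algebra.TensorProduct.lift (aevE (A := A) (d := d) S j0) Algebra.TensorProduct.includeRight
    (fun _ _ => Commute.all _ _)

variable {S}

theorem epsE_tmul (j0 : σ) (g : MvPolynomial (Fin (d + 1)) S) (q : MvPolynomial (Fin d × σ) A) :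
    epsE (A := A) (d := d) S j0 (g ⊗ₜ q) = aevE (A := A) (d := d) S j0 g * (1 ⊗ₜ q) := by
  rw [epsE, Algebra.TensorProduct.lift_tmul]
  rfl

theorem aevE_C (j0 : σ) (s : S) : aevE (A := A) (d := d) S j0 (C s) = s ⊗ₜ 1 := by
  rw [aevE, AlgHom.restrictScalars_apply, aeval_C]
  rfl

theorem aevE_X (j0 : σ) (j : Fin (d + 1)) :
    aevE (A := A) (d := d) S j0 (X j) = 1 ⊗ₜ Ecoef A d j0 j := by
  rw [aevE, AlgHom.restrictScalars_apply, aeval_X]

theorem aevE_monomial (j0 : σ) (μ : Fin (d + 1) →₀ ℕ) :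
    aevE (A := A) (d := d) S j0 (monomial μ 1) =
      1 ⊗ₜ (μ.prod fun j n => Ecoef A d j0 j ^ n) := by
  rw [aevE, AlgHom.restrictScalars_apply, aeval_monomial, map_one, one_mul]
  have := map_finsuppProd (Algebra.TensorProduct.includeRight (R := A) (A := S)
    (B := MvPolynomial (Fin d × σ) A)) μ (fun j n => Ecoef A d j0 j ^ n)
  simp only [Algebra.TensorProduct.includeRight_apply, map_pow] at this
  rw [this]

theorem epsE_incl (j0 : σ) (η : S ⊗[A] MvPolynomial (Fin d × σ) A) :
    epsE (A := A) (d := d) S j0 (incl (A := A) S _ _ η) = η := by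
  induction η using TensorProduct.induction_on with
  | zero => simp
  | tmul s q =>
    rw [incl_tmul, epsE_tmul, aevE_C, Algebra.TensorProduct.tmul_mul_tmul, one_mul, mul_one]
  | add x y hx hy => simp only [map_add, hx, hy]

theorem smul_eq_tmul_one_mul {R : Type u} [CommRing R] [Algebra A R] {Q : Type u} [CommRing Q]
    [Algebra A Q] (g : R) (ζ : R ⊗[A] Q) : g • ζ = (g ⊗ₜ 1) * ζ := by
  induction ζ using TensorProduct.induction_on with
  | zero => simp
  | tmul s q => rw [TensorProduct.smul_tmul', Algebra.TensorProduct.tmul_mul_tmul, one_mul, smul_eq_mul]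
  | add x y hx hy => simp only [smul_add, mul_add, hx, hy]

theorem epsE_monomial_smul_incl (j0 : σ) (μ : Fin (d + 1) →₀ ℕ)
    (η : S ⊗[A] MvPolynomial (Fin d × σ) A) :
    epsE (A := A) (d := d) S j0 ((monomial μ (1 : S)) • incl (A := A) S _ _ η) =
      (1 ⊗ₜ (μ.prod fun j n => Ecoef A d j0 j ^ n)) * η := by
  rw [smul_eq_tmul_one_mul, map_mul, epsE_incl, epsE_tmul, aevE_monomial,
    ← Algebra.TensorProduct.one_def, mul_one]

/-- the value of the characteristic polynomial of the variable `j0` at that variable -/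
noncomputable def zel (F : PolLaw.MulLaw A (MvPolynomial σ A) A d) (j0 : σ) : MvPolynomial σ A :=
  ∑ j : Fin (d + 1), ccoef F j0 j • (X j0 : MvPolynomial σ A) ^ (j : ℕ)

/-- the generic perturbation of `x` -/
noncomputable def pv (j0 : σ) (x w : S ⊗[A] MvPolynomial σ A) :
    MvPolynomial (Fin (d + 1)) S ⊗[A] MvPolynomial σ A :=
  incl (A := A) S _ _ x + incl (A := A) S _ _ w *
    ∑ j : Fin (d + 1), (X j : MvPolynomial (Fin (d + 1)) S) ⊗ₜ[A] ((X j0 : MvPolynomial σ A) ^ (j : ℕ))

theorem map_incl {Q Q' : Type u} [CommRing Q] [Algebra A Q] [CommRing Q'] [Algebra A Q']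
    {ρ : Type} (g : Q →ₐ[A] Q') (η : S ⊗[A] Q) :
    Algebra.TensorProduct.map (AlgHom.id (MvPolynomial ρ S) (MvPolynomial ρ S)) g
        (incl (A := A) S ρ Q η) =
      incl (A := A) S ρ Q' (Algebra.TensorProduct.map (AlgHom.id S S) g η) := by
  induction η using TensorProduct.induction_on with
  | zero => simp
  | tmul s q => simp [incl_tmul]
  | add x y hx hy => simp only [map_add, hx, hy]

theorem incl_mul {Q : Type u} [CommRing Q] [Algebra A Q] {ρ : Type} (η η' : S ⊗[A] Q) :
    incl (A := A) S ρ Q (η * η') = incl (A := A) S ρ Q η * incl (A := A) S ρ Q η' := by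
  rw [incl_eq_map, incl_eq_map, incl_eq_map, map_mul]

theorem epsE_Delta_pv (j0 : σ) (x w : S ⊗[A] MvPolynomial σ A) :
    epsE (A := A) (d := d) S j0 ((Delta A σ d).law.toFun' _ (pv (d := d) j0 x w)) =
      (Delta A σ d).law.toFun' S x := by
  rw [Delta, PolLaw.MulLaw.prodMap_toFun', PolLaw.MulLaw.prodMap_toFun', map_prod]
  refine Finset.prod_congr rfl fun k _ => ?_
  rw [pv, map_add, map_mul, map_incl, map_incl, map_add, map_mul, epsE_incl, epsE_incl, map_sum,
    map_sum]
  have h : ∀ j ∈ (Finset.univ : Finset (Fin (d + 1))),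
      epsE (A := A) (d := d) S j0
        (Algebra.TensorProduct.map (AlgHom.id (MvPolynomial (Fin (d + 1)) S) _) (iota A σ d k)
          ((X j : MvPolynomial (Fin (d + 1)) S) ⊗ₜ[A] ((X j0 : MvPolynomial σ A) ^ (j : ℕ)))) =
      (1 : S) ⊗ₜ[A] (Ecoef A d j0 j * (X (k, j0)) ^ (j : ℕ)) := by
    intro j _
    rw [Algebra.TensorProduct.map_tmul, AlgHom.id_apply, epsE_tmul, aevE_X,
      Algebra.TensorProduct.tmul_mul_tmul, one_mul, map_pow, iota, rename_X]
  rw [Finset.sum_congr rfl h, ← TensorProduct.tmul_sum,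
    Fin.sum_univ_eq_sum_range (fun j => Ecoef A d j0 j * (X (k, j0)) ^ j) (d + 1),
    Ehat_eval_self, TensorProduct.tmul_zero, mul_zero, add_zero]

theorem epsc_C (F : PolLaw.MulLaw A (MvPolynomial σ A) A d) (j0 : σ) (s : S) :
    epsc S F j0 (C s) = s := by
  rw [epsc, AlgHom.restrictScalars_apply, aeval_C]
  rfl

theorem epsc_X (F : PolLaw.MulLaw A (MvPolynomial σ A) A d) (j0 : σ) (j : Fin (d + 1)) :
    epsc S F j0 (X j) = algebraMap A S (ccoef F j0 j) := by
  rw [epsc, AlgHom.restrictScalars_apply, aeval_X]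

theorem epsc_monomial (F : PolLaw.MulLaw A (MvPolynomial σ A) A d) (j0 : σ)
    (μ : Fin (d + 1) →₀ ℕ) :
    epsc S F j0 (monomial μ 1) = algebraMap A S (μ.prod fun j n => ccoef F j0 j ^ n) := by
  rw [epsc, AlgHom.restrictScalars_apply, aeval_monomial, map_one, one_mul, map_finsuppProd]
  simp only [map_pow]

theorem map_epsc_incl (F : PolLaw.MulLaw A (MvPolynomial σ A) A d) (j0 : σ)
    {N : Type u} [CommRing N] [Algebra A N] (η : S ⊗[A] N) :
    Algebra.TensorProduct.map (epsc S F j0) (AlgHom.id A N) (incl (A := A) S _ _ η) = η := by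
  induction η using TensorProduct.induction_on with
  | zero => simp
  | tmul s q => rw [incl_tmul, Algebra.TensorProduct.map_tmul, epsc_C, AlgHom.id_apply]
  | add x y hx hy => simp only [map_add, hx, hy]

theorem map_epsc_pv (F : PolLaw.MulLaw A (MvPolynomial σ A) A d) (j0 : σ)
    (x w : S ⊗[A] MvPolynomial σ A) :
    Algebra.TensorProduct.map (epsc S F j0) (AlgHom.id A (MvPolynomial σ A)) (pv (d := d) j0 x w) =
      x + w * (1 ⊗ₜ[A] zel F j0) := by
  rw [pv, map_add, map_mul, map_epsc_incl, map_epsc_incl, map_sum, zel, TensorProduct.tmul_sum]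
  congr 2
  refine Finset.sum_congr rfl fun j _ => ?_
  rw [Algebra.TensorProduct.map_tmul, epsc_X, AlgHom.id_apply, Algebra.algebraMap_eq_smul_one,
    TensorProduct.smul_tmul]

theorem map_epsc_monomial_smul_incl (F : PolLaw.MulLaw A (MvPolynomial σ A) A d) (j0 : σ)
    (μ : Fin (d + 1) →₀ ℕ) (y : S ⊗[A] A) :
    Algebra.TensorProduct.map (epsc S F j0) (AlgHom.id A A)
        ((monomial μ (1 : S)) • incl (A := A) S _ _ y) =
      (μ.prod fun j n => ccoef F j0 j ^ n) • y := by
  rw [smul_eq_tmul_one_mul, map_mul, map_epsc_incl, Algebra.TensorProduct.map_tmul, epsc_monomial,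
    map_one, Algebra.algebraMap_eq_smul_one, ← TensorProduct.smul_tmul', smul_mul_assoc,
    ← Algebra.TensorProduct.one_def, one_mul]

/-- Cayley–Hamilton for a multiplicative law on a polynomial ring: the value of the
characteristic polynomial of a variable at that variable lies in the kernel of the law. -/
theorem CH_poly (F : PolLaw.MulLaw A (MvPolynomial σ A) A d) (j0 : σ)
    (x w : S ⊗[A] MvPolynomial σ A) :
    F.law.toFun' S (x + w * (1 ⊗ₜ[A] zel F j0)) = F.law.toFun' S x := by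
  set ξ := (Delta A σ d).law.toFun' _ (pv (d := d) j0 x w) with hξ
  obtain ⟨T, -, hT⟩ := exists_decomp ξ
  -- the coefficients of `ξ` are "good"
  have hgood : ∀ (μ : Fin (d + 1) →₀ ℕ) {m : MvPolynomial (Fin d × σ) A} {c : A},
      EC F j0 m c →
      (fhat F.law d).lTensor S ((1 ⊗ₜ[A] m) * kap (A := A) S _ _ μ ξ) =
        c • (fhat F.law d).lTensor S (kap (A := A) S _ _ μ ξ) := by
    intro μ m c hmc
    rw [← kap_one_tmul_mul, ← kap_lTensor, ← kap_lTensor, hξ, C1 F j0 hmc, map_smul]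
  -- left side
  have hL : F.law.toFun' S (x + w * (1 ⊗ₜ[A] zel F j0)) =
      ∑ μ ∈ T, (μ.prod fun j n => ccoef F j0 j ^ n) •
        (fhat F.law d).lTensor S (kap (A := A) S _ _ μ ξ) := by
    rw [← map_epsc_pv F j0 x w, ← Groth.Agent.S13722.compat, ← R1 F.law F.homog, ← hξ]
    conv_lhs => rw [hT]
    rw [map_sum, map_sum]
    refine Finset.sum_congr rfl fun μ _ => ?_
    rw [lTensor_smul', ← incl_lTensor, map_epsc_monomial_smul_incl]
  -- right side
  have hR : F.law.toFun' S x =
      ∑ μ ∈ T, (μ.prod fun j n => ccoef F j0 j ^ n) •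
        (fhat F.law d).lTensor S (kap (A := A) S _ _ μ ξ) := by
    rw [← R1 F.law F.homog, ← epsE_Delta_pv j0 x w, ← hξ]
    conv_lhs => rw [hT]
    rw [map_sum, map_sum]
    refine Finset.sum_congr rfl fun μ _ => ?_
    rw [epsE_monomial_smul_incl, hgood μ (EC_prod F j0 μ)]
  rw [hL, hR]

end D
end Groth.Agent.H14Lib.CH
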