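import Mathlib
import Groth.Agent.H14Lib.CH4
import Groth.Agent.S13720

/-!
# Cayley–Hamilton for multiplicative polynomial laws on arbitrary commutative algebras
-/

set_option autoImplicit false
universe u
open scoped TensorProduct

namespace Groth.Agent.H14Lib.CH

open MvPolynomial

section General

variable {A : Type u} [CommRing A]

/-- the characteristic polynomial of a variable, computed through the linear form -/
theorem chi_eq {σ : Type u} {d : ℕ} (F : PolLaw.MulLaw A (MvPolynomial σ A) A d) (j0 : σ) :
    TensorProduct.rid A (Polynomial A)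
      (F.law.toFun' (Polynomial A)
        ((1 : Polynomial A) ⊗ₜ[A] (X j0 : MvPolynomial σ A) - Polynomial.X ⊗ₜ[A] 1)) =
      ∑ j ∈ Finset.range (d + 1), ccoef F j0 j • (Polynomial.X : Polynomial A) ^ j := by
  rw [← R1 F.law F.homog, Delta_yel, map_sum, map_sum]
  refine Finset.sum_congr rfl fun j _ => ?_
  rw [LinearMap.lTensor_tmul, TensorProduct.rid_tmul]
  rfl

variable {B : Type u} [CommRing B] [Algebra A B] {d : ℕ}

/-- the characteristic polynomial of `b` with respect to `F` -/
noncomputable def charpolyLaw (F : PolLaw.MulLaw A B A d) (b : B) : Polynomial A :=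
  TensorProduct.rid A (Polynomial A)
    (F.law.toFun' (Polynomial A) ((1 : Polynomial A) ⊗ₜ[A] b - Polynomial.X ⊗ₜ[A] (1 : B)))

/-- the canonical presentation of `B` -/
noncomputable def pres (A : Type u) [CommRing A] (B : Type u) [CommRing B] [Algebra A B] :
    MvPolynomial B A →ₐ[A] B := aeval (fun b => b)

theorem pres_surjective : Function.Surjective (pres A B) := fun b => ⟨X b, by simp [pres]⟩

theorem charpolyLaw_eq (F : PolLaw.MulLaw A B A d) (b : B) :
    charpolyLaw F b =
      ∑ j ∈ Finset.range (d + 1), ccoef (F.precomp (pres A B)) b j • (Polynomial.X : Polynomial A) ^ j := by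
  rw [← chi_eq, Groth.Agent.S13720.precomp_apply, charpolyLaw]
  congr 2
  simp [pres]

theorem pres_zel (F : PolLaw.MulLaw A B A d) (b : B) :
    pres A B (zel (F.precomp (pres A B)) b) = Polynomial.aeval b (charpolyLaw F b) := by
  rw [charpolyLaw_eq, zel, map_sum, map_sum, Fin.sum_univ_eq_sum_range
    (fun j => (pres A B) (ccoef (F.precomp (pres A B)) b j • (X b : MvPolynomial B A) ^ j)) (d + 1)]
  refine Finset.sum_congr rfl fun j _ => ?_
  rw [map_smul, map_smul, map_pow, map_pow, Polynomial.aeval_X]
  simp [pres]

/-- **Cayley–Hamilton** for multiplicative laws: `χ_b(b)` lies in the kernel of `F`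
(pointwise form over ring test algebras). -/
theorem CH_apply (F : PolLaw.MulLaw A B A d) (b : B) (S : Type u) [CommRing S] [Algebra A S]
    (x w : S ⊗[A] B) :
    F.law.toFun' S (x + w * (1 ⊗ₜ[A] Polynomial.aeval b (charpolyLaw F b))) = F.law.toFun' S x := by
  have hs : Function.Surjective
      (Algebra.TensorProduct.map (AlgHom.id S S) (pres A B)) := by
    have := LinearMap.lTensor_surjective S (g := (pres A B).toLinearMap)
      (pres_surjective (A := A) (B := B))
    intro y
    obtain ⟨y', hy'⟩ := this y
    refine ⟨y', ?_⟩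
    rw [← hy', PolLaw.lTensor_algHom_apply]
  obtain ⟨x', rfl⟩ := hs x
  obtain ⟨w', rfl⟩ := hs w
  have h := CH_poly (F.precomp (pres A B)) b x' w'
  rw [Groth.Agent.S13720.precomp_apply, Groth.Agent.S13720.precomp_apply, map_add, map_mul,
    Algebra.TensorProduct.map_tmul, map_one, pres_zel] at h
  exact h

/-- **Cayley–Hamilton** for multiplicative laws: `χ_b(b)` lies in the kernel of `F`. -/
theorem CH_mem_ker (F : PolLaw.MulLaw A B A d) (b : B) :
    Polynomial.aeval b (charpolyLaw F b) ∈ PolLaw.ker F.law := by
  apply Groth.Agent.S13722.mem_ker_of_poly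
  intro n x w
  exact CH_apply F b _ x w

end General

end Groth.Agent.H14Lib.CH
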