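import Mathlib
import Groth.Agent.H14Lib.CH5

/-!
# The characteristic polynomial of a multiplicative law is monic up to sign; integrality
-/

set_option autoImplicit false
universe u
open scoped TensorProduct

namespace Groth.Agent.H14Lib.CH

open MvPolynomial

section Monic

variable {A : Type u} [CommRing A]

theorem Ecoef_top {σ : Type u} (d : ℕ) (j0 : σ) :
    Ecoef A d j0 d = (-1 : MvPolynomial (Fin d × σ) A) ^ d := by
  nontriviality (MvPolynomial (Fin d × σ) A)
  have h1 : Ehat A d j0 = Polynomial.C ((-1 : MvPolynomial (Fin d × σ) A) ^ d) *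
      ∏ k : Fin d, (Polynomial.X - Polynomial.C (X (k, j0) : MvPolynomial (Fin d × σ) A)) := by
    have : ∀ k : Fin d, (Polynomial.C (X (k, j0) : MvPolynomial (Fin d × σ) A) - Polynomial.X) =
        Polynomial.C (-1 : MvPolynomial (Fin d × σ) A) *
          (Polynomial.X - Polynomial.C (X (k, j0) : MvPolynomial (Fin d × σ) A)) := by
      intro k
      rw [map_neg, map_one]; ring
    rw [Ehat, Finset.prod_congr rfl (fun k _ => this k), Finset.prod_mul_distrib, Finset.prod_const,
      Finset.card_univ, Fintype.card_fin, map_pow]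
  have hm : (∏ k : Fin d, (Polynomial.X -
      Polynomial.C (X (k, j0) : MvPolynomial (Fin d × σ) A))).Monic :=
    Polynomial.monic_prod_of_monic _ _ fun k _ => Polynomial.monic_X_sub_C _
  have hd : (∏ k : Fin d, (Polynomial.X -
      Polynomial.C (X (k, j0) : MvPolynomial (Fin d × σ) A))).natDegree = d := by
    rw [Polynomial.natDegree_prod_of_monic _ _ fun k _ => Polynomial.monic_X_sub_C _]
    simp
  rw [Ecoef, h1, Polynomial.coeff_C_mul]
  have : (∏ k : Fin d, (Polynomial.X -
      Polynomial.C (X (k, j0) : MvPolynomial (Fin d × σ) A))).coeff d = 1 := by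
    have h2 := hm.coeff_natDegree
    rwa [hd] at h2
  rw [this, mul_one]

theorem fhat_one {σ : Type u} {d : ℕ} (F : PolLaw.MulLaw A (MvPolynomial σ A) A d) :
    fhat F.law d 1 = 1 := by
  have h := R1 F.law F.homog A (1 : A ⊗[A] MvPolynomial σ A)
  rw [((Delta A σ d).mult A).1, (F.mult A).1, Algebra.TensorProduct.one_def,
    LinearMap.lTensor_tmul] at h
  have := congrArg (TensorProduct.lid A A) h
  rw [TensorProduct.lid_tmul, one_smul, Algebra.TensorProduct.one_def, TensorProduct.lid_tmul,
    one_smul] at this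
  exact this

theorem ccoef_top {σ : Type u} {d : ℕ} (F : PolLaw.MulLaw A (MvPolynomial σ A) A d) (j0 : σ) :
    ccoef F j0 d = (-1) ^ d := by
  rw [ccoef, Ecoef_top]
  have : ((-1 : MvPolynomial (Fin d × σ) A) ^ d) = ((-1 : A) ^ d) • (1 : MvPolynomial (Fin d × σ) A) := by
    rw [← Algebra.algebraMap_eq_smul_one, map_pow, map_neg, map_one]
  rw [this, map_smul, fhat_one, smul_eq_mul, mul_one]

variable {B : Type u} [CommRing B] [Algebra A B] {d : ℕ}

theorem charpolyLaw_natDegree_le (F : PolLaw.MulLaw A B A d) (b : B) :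
    (charpolyLaw F b).natDegree ≤ d := by
  rw [charpolyLaw_eq]
  refine Polynomial.natDegree_sum_le_of_forall_le _ _ fun j hj => ?_
  refine (Polynomial.natDegree_smul_le _ _).trans ((Polynomial.natDegree_X_pow_le j).trans ?_)
  exact Nat.lt_succ_iff.mp (Finset.mem_range.mp hj)

theorem charpolyLaw_coeff_top (F : PolLaw.MulLaw A B A d) (b : B) :
    (charpolyLaw F b).coeff d = (-1) ^ d := by
  classical
  rw [charpolyLaw_eq, Polynomial.finsetSum_coeff]
  simp only [Polynomial.coeff_smul, Polynomial.coeff_X_pow, smul_eq_mul, mul_ite, mul_one, mul_zero]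
  rw [Finset.sum_ite_eq, if_pos (Finset.mem_range.mpr (Nat.lt_succ_self d)), ccoef_top]

/-- the signed characteristic polynomial is monic -/
theorem monic_signed_charpolyLaw (F : PolLaw.MulLaw A B A d) (b : B) :
    (Polynomial.C ((-1 : A) ^ d) * charpolyLaw F b).Monic := by
  apply Polynomial.monic_of_natDegree_le_of_coeff_eq_one d
  · exact (Polynomial.natDegree_C_mul_le _ _).trans (charpolyLaw_natDegree_le F b)
  · rw [Polynomial.coeff_C_mul, charpolyLaw_coeff_top, ← mul_pow]
    simp

theorem aeval_signed_charpolyLaw_mem_ker (F : PolLaw.MulLaw A B A d) (b : B) :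
    Polynomial.aeval b (Polynomial.C ((-1 : A) ^ d) * charpolyLaw F b) ∈ PolLaw.ker F.law := by
  rw [map_mul]
  exact Ideal.mul_mem_left _ _ (CH_mem_ker F b)

/-- every quotient of `B` through which a multiplicative law factors is integral over the base -/
theorem isIntegral_quotient (F : PolLaw.MulLaw A B A d) (J : Ideal B)
    (hJ : PolLaw.ker F.law ≤ J) : Algebra.IsIntegral A (B ⧸ J) := by
  constructor
  intro x
  obtain ⟨b, rfl⟩ := Ideal.Quotient.mk_surjective x
  refine ⟨_, monic_signed_charpolyLaw F b, ?_⟩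
  have h := hJ (aeval_signed_charpolyLaw_mem_ker F b)
  rw [← Ideal.Quotient.eq_zero_iff_mem, ← Ideal.Quotient.mkₐ_eq_mk A,
    ← Polynomial.aeval_algHom_apply] at h
  exact h

/-- the image algebra `B ⧸ ker F` of a multiplicative law is integral over the base -/
theorem isIntegral_image (F : PolLaw.MulLaw A B A d) :
    Algebra.IsIntegral A (B ⧸ PolLaw.ker F.law) := by
  constructor
  intro x
  obtain ⟨b, rfl⟩ := Ideal.Quotient.mk_surjective x
  refine ⟨_, monic_signed_charpolyLaw F b, ?_⟩
  have h := aeval_signed_charpolyLaw_mem_ker F b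
  rw [← Ideal.Quotient.eq_zero_iff_mem, ← Ideal.Quotient.mkₐ_eq_mk A,
    ← Polynomial.aeval_algHom_apply] at h
  exact h

end Monic

end Groth.Agent.H14Lib.CH
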