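import Mathlib
import Groth.Agent.H14Lib.CH6
import Groth.Agent.S13699

/-!
# Base change of multiplicative polynomial laws
-/

set_option autoImplicit false
universe u
open scoped TensorProduct

namespace Groth.Agent.H14Lib.BC

open Groth.Agent.H14Lib.CH

section Tower

variable {A : Type u} [CommRing A] {B : Type u} [CommRing B] [Algebra A B]
variable (A' : Type u) [CommRing A'] [Algebra A A']

section Fun
variable (R : Type u) [CommSemiring R] [Algebra A R] [Algebra A' R] [IsScalarTower A A' R]
variable (R' : Type u) [CommSemiring R'] [Algebra A R'] [Algebra A' R'] [IsScalarTower A A' R']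

/-- `R ⊗[A'] (A' ⊗[A] B) ≃ R ⊗[A] B` -/
noncomputable abbrev cB : R ⊗[A'] (A' ⊗[A] B) ≃ₐ[R] R ⊗[A] B :=
  Algebra.TensorProduct.cancelBaseChange A A' R R B

/-- `R ⊗[A] A ≃ R ⊗[A'] A'` -/
noncomputable abbrev eB : R ⊗[A] A ≃ₐ[R] R ⊗[A'] A' :=
  (Algebra.TensorProduct.rid A R R).trans (Algebra.TensorProduct.rid A' R R).symm

/-- the member over `R` of the base-changed law -/
noncomputable def bcFun (F : B →ₚₗ[A] A) : R ⊗[A'] (A' ⊗[A] B) → R ⊗[A'] A' :=
  fun z => eB (A := A) A' R (F.toFun' R (cB (A := A) (B := B) A' R z))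

variable {R R'}

theorem cB_nat (φ : R →ₐ[A'] R') (z : R ⊗[A'] (A' ⊗[A] B)) :
    cB (A := A) (B := B) A' R' (φ.toLinearMap.rTensor (A' ⊗[A] B) z) =
      (φ.restrictScalars A).toLinearMap.rTensor B (cB (A := A) (B := B) A' R z) := by
  induction z using TensorProduct.induction_on with
  | zero => simp
  | add x y hx hy => simp only [map_add, hx, hy]
  | tmul r y =>
    induction y using TensorProduct.induction_on with
    | zero => simp
    | add x y hx hy => simp only [TensorProduct.tmul_add, map_add, hx, hy]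
    | tmul a' b =>
      simp only [LinearMap.rTensor_tmul, AlgHom.toLinearMap_apply,
        Algebra.TensorProduct.cancelBaseChange_tmul, AlgHom.coe_restrictScalars', map_smul]

theorem eB_nat (φ : R →ₐ[A'] R') (w : R ⊗[A] A) :
    φ.toLinearMap.rTensor A' (eB (A := A) A' R w) =
      eB (A := A) A' R' ((φ.restrictScalars A).toLinearMap.rTensor A w) := by
  induction w using TensorProduct.induction_on with
  | zero => simp
  | add x y hx hy => simp only [map_add, hx, hy]
  | tmul r a =>
    simp only [AlgEquiv.trans_apply, Algebra.TensorProduct.rid_tmul,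
      Algebra.TensorProduct.rid_symm_apply, LinearMap.rTensor_tmul, AlgHom.toLinearMap_apply,
      AlgHom.coe_restrictScalars']
    rw [← algebraMap_smul A' a r, map_smul, algebraMap_smul]

theorem bcFun_compat (F : B →ₚₗ[A] A) (φ : R →ₐ[A'] R') (z : R ⊗[A'] (A' ⊗[A] B)) :
    φ.toLinearMap.rTensor A' (bcFun A' R F z) =
      bcFun A' R' F (φ.toLinearMap.rTensor (A' ⊗[A] B) z) := by
  unfold bcFun
  rw [eB_nat, cB_nat]
  congr 1
  exact PolynomialLaw.isCompat_apply' (φ.restrictScalars A) _

theorem cB_one_tmul (b' : A' ⊗[A] B) :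
    cB (A := A) (B := B) A' R ((1 : R) ⊗ₜ[A'] b') =
      Algebra.TensorProduct.map (IsScalarTower.toAlgHom A A' R) (AlgHom.id A B) b' := by
  induction b' using TensorProduct.induction_on with
  | zero => simp
  | add x y hx hy => simp only [TensorProduct.tmul_add, map_add, hx, hy]
  | tmul a' b =>
    simp only [Algebra.TensorProduct.cancelBaseChange_tmul, Algebra.TensorProduct.map_tmul,
      IsScalarTower.coe_toAlgHom', AlgHom.coe_id, id_eq, Algebra.smul_def, mul_one]

end Fun

/-- the base change of a polynomial law `B → A` to `A'` -/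
noncomputable def bcLaw0 (F : B →ₚₗ[A] A) : (A' ⊗[A] B) →ₚₗ[A'] A' where
  toFun' R _ _ :=
    letI : Algebra A R := Algebra.compHom R (algebraMap A A')
    haveI : IsScalarTower A A' R := IsScalarTower.of_algebraMap_eq (fun _ => rfl)
    bcFun A' R F
  isCompat' {R} _ _ {R'} _ _ φ := by
    letI : Algebra A R := Algebra.compHom R (algebraMap A A')
    haveI : IsScalarTower A A' R := IsScalarTower.of_algebraMap_eq (fun _ => rfl)
    letI : Algebra A R' := Algebra.compHom R' (algebraMap A A')
    haveI : IsScalarTower A A' R' := IsScalarTower.of_algebraMap_eq (fun _ => rfl)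
    funext z
    exact bcFun_compat A' F φ z

theorem bcLaw0_apply (F : B →ₚₗ[A] A) (R : Type u) [CommSemiring R] [inst : Algebra A R]
    [Algebra A' R] [tow : IsScalarTower A A' R] (z : R ⊗[A'] (A' ⊗[A] B)) :
    (bcLaw0 A' F).toFun' R z = bcFun A' R F z := by
  have h : (Algebra.compHom R (algebraMap A A') : Algebra A R) = inst :=
    Algebra.algebra_ext _ _ (fun a => (IsScalarTower.algebraMap_apply A A' R a).symm)
  subst h
  rfl

variable {d : ℕ}

/-- the base change of a multiplicative law `B → A` to `A'` -/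
noncomputable def bcLaw (F : PolLaw.MulLaw A B A d) : PolLaw.MulLaw A' (A' ⊗[A] B) A' d where
  law := bcLaw0 A' F.law
  homog S _ _ s x := by
    letI : Algebra A S := Algebra.compHom S (algebraMap A A')
    haveI : IsScalarTower A A' S := IsScalarTower.of_algebraMap_eq (fun _ => rfl)
    show bcFun A' S F.law (s • x) = s ^ d • bcFun A' S F.law x
    unfold bcFun
    rw [map_smul, F.homog S s, map_smul]
  mult S _ _ := by
    letI : Algebra A S := Algebra.compHom S (algebraMap A A')
    haveI : IsScalarTower A A' S := IsScalarTower.of_algebraMap_eq (fun _ => rfl)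
    refine ⟨?_, fun x y => ?_⟩
    · show bcFun A' S F.law 1 = 1
      unfold bcFun
      rw [map_one, (F.mult S).1, map_one]
    · show bcFun A' S F.law (x * y) = bcFun A' S F.law x * bcFun A' S F.law y
      unfold bcFun
      rw [map_mul, (F.mult S).2, map_mul]

theorem bcLaw_apply (F : PolLaw.MulLaw A B A d) (R : Type u) [CommSemiring R] [Algebra A R]
    [Algebra A' R] [IsScalarTower A A' R] (z : R ⊗[A'] (A' ⊗[A] B)) :
    (bcLaw A' F).law.toFun' R z = bcFun A' R F.law z := bcLaw0_apply A' F.law R z

theorem ker_bcLaw (F : PolLaw.MulLaw A B A d) :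
    PolLaw.ker (bcLaw A' F).law = PolLaw.kerBC F.law A' := by
  ext b'
  constructor
  · intro hb'
    rw [Groth.Agent.S13699.mem_kerBC_iff]
    intro R _ _ _ _ x w
    have h := hb' R ((cB (A := A) (B := B) A' R).symm x) ((cB (A := A) (B := B) A' R).symm w)
    rw [bcLaw_apply, bcLaw_apply] at h
    unfold bcFun at h
    have h' := (eB (A := A) A' R).injective h
    rw [map_add, map_mul, AlgEquiv.apply_symm_apply, AlgEquiv.apply_symm_apply, cB_one_tmul] at h'
    exact h'
  · intro hb'
    change ∀ (S : Type u) [CommSemiring S] [Algebra A' S] (x w : S ⊗[A'] (A' ⊗[A] B)),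
      (bcLaw A' F).law.toFun' S (x + w * (1 ⊗ₜ[A'] b')) = (bcLaw A' F).law.toFun' S x
    intro S _ _ x w
    letI : Algebra A S := Algebra.compHom S (algebraMap A A')
    haveI : IsScalarTower A A' S := IsScalarTower.of_algebraMap_eq (fun _ => rfl)
    rw [bcLaw_apply, bcLaw_apply]
    unfold bcFun
    rw [map_add, map_mul, cB_one_tmul, hb' S]

end Tower

end Groth.Agent.H14Lib.BC
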