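import Mathlib
import Groth.Agent.H14Lib.BC

/-!
# The kernel of the base change of a multiplicative law to a polynomial ring
-/

set_option autoImplicit false
set_option linter.style.haveILetI false
universe u
open scoped TensorProduct

namespace Groth.Agent.H14Lib.BC

open Groth.Agent.H14Lib.CH Polynomial

section KerBC

variable {A : Type u} [CommRing A] {B : Type u} [CommRing B] [Algebra A B]

/-- functoriality of `kerBC` in the base -/
theorem kerBC_map (F : B →ₚₗ[A] A) {A' A'' : Type u} [CommRing A'] [Algebra A A'] [CommRing A'']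
    [Algebra A A''] (ρ : A' →ₐ[A] A'') {b' : A' ⊗[A] B} (hb' : b' ∈ PolLaw.kerBC F A') :
    Algebra.TensorProduct.map ρ (AlgHom.id A B) b' ∈ PolLaw.kerBC F A'' := by
  rw [Groth.Agent.S13699.mem_kerBC_iff]
  intro R _ _ _ _ x w
  letI : Algebra A' R := ((algebraMap A'' R).comp ρ.toRingHom).toAlgebra
  haveI : IsScalarTower A A' R := IsScalarTower.of_algebraMap_eq (fun a => by
    show algebraMap A R a = algebraMap A'' R (ρ (algebraMap A A' a))
    rw [ρ.commutes, ← IsScalarTower.algebraMap_apply])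
  have h := hb' R x w
  have e : (IsScalarTower.toAlgHom A A'' R).comp ρ = IsScalarTower.toAlgHom A A' R :=
    AlgHom.ext (fun _ => rfl)
  rw [← AlgHom.comp_apply, ← Algebra.TensorProduct.map_comp, e]
  exact h

/-- functoriality of the extension of an ideal -/
theorem map_mem_mapIdeal (I : Ideal B) {A' A'' : Type u} [CommRing A'] [Algebra A A'] [CommRing A'']
    [Algebra A A''] (ρ : A' →ₐ[A] A'') {z : A' ⊗[A] B}
    (hz : z ∈ I.map (Algebra.TensorProduct.includeRight : B →ₐ[A] A' ⊗[A] B)) :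
    Algebra.TensorProduct.map ρ (AlgHom.id A B) z ∈
      I.map (Algebra.TensorProduct.includeRight : B →ₐ[A] A'' ⊗[A] B) := by
  have : I.map (Algebra.TensorProduct.includeRight : B →ₐ[A] A' ⊗[A] B) ≤
      (I.map (Algebra.TensorProduct.includeRight : B →ₐ[A] A'' ⊗[A] B)).comap
        (Algebra.TensorProduct.map ρ (AlgHom.id A B)) := by
    rw [Ideal.map_le_iff_le_comap]
    intro b hb
    rw [Ideal.mem_comap, Ideal.mem_comap, Algebra.TensorProduct.includeRight_apply,
      Algebra.TensorProduct.map_tmul, map_one]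
    exact Ideal.mem_map_of_mem _ hb
  exact this hz

theorem cancel_X' {S : Type u} [CommSemiring S] [Algebra A S] (d : ℕ) (z z' : S[X] ⊗[A] A)
    (h : ((X : S[X]) ^ d) • z = ((X : S[X]) ^ d) • z') : z = z' := by
  have h1 := congrArg (Algebra.TensorProduct.rid A S[X] S[X]) h
  rw [map_smul, map_smul, smul_eq_mul, smul_eq_mul] at h1
  exact (Algebra.TensorProduct.rid A S[X] S[X]).injective ((isRegular_X_pow d).left h1)

theorem map_id_id {S : Type u} [CommSemiring S] [Algebra A S] (x : S ⊗[A] B) :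
    Algebra.TensorProduct.map (AlgHom.id A S) ((AlgHom.id A B).comp (AlgHom.id A B)) x = x := by
  rw [AlgHom.id_comp, Algebra.TensorProduct.map_id]
  rfl

/-- relative division by `X` -/
theorem div_X_rel {d : ℕ} (F : PolLaw.MulLaw A B A d) (A' : Type u) [CommRing A'] [Algebra A A']
    (y : A'[X] ⊗[A] B)
    (h : ((X : A'[X]) ⊗ₜ[A] (1 : B)) * y ∈ PolLaw.kerBC F.law A'[X]) :
    y ∈ PolLaw.kerBC F.law A'[X] := by
  rw [Groth.Agent.S13699.mem_kerBC_iff]
  intro R _ _ _ _ x w
  let r : R := algebraMap A'[X] R X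
  let θ : A'[X] →+* R[X] :=
    Polynomial.eval₂RingHom ((C : R →+* R[X]).comp ((algebraMap A'[X] R).comp C)) X
  have hθC : ∀ a, θ (C a) = C (algebraMap A'[X] R (C a)) := fun a => by
    show Polynomial.eval₂ _ X (C a) = _
    rw [Polynomial.eval₂_C]; rfl
  have hθX : θ X = X := by
    show Polynomial.eval₂ _ X X = _
    rw [Polynomial.eval₂_X]
  letI : Algebra A'[X] R[X] := θ.toAlgebra
  haveI : IsScalarTower A A'[X] R[X] := IsScalarTower.of_algebraMap_eq (fun a => by
    show algebraMap A R[X] a = θ (algebraMap A A'[X] a)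
    rw [Polynomial.algebraMap_apply (R := A) (A := A'), hθC,
      ← Polynomial.algebraMap_apply (R := A) (A := A'), ← IsScalarTower.algebraMap_apply A A'[X] R,
      Polynomial.algebraMap_apply])
  let Ψ : R[X] →ₐ[A] R := (Polynomial.aeval r).restrictScalars A
  let cR : R →ₐ[A] R[X] := IsScalarTower.toAlgHom A R R[X]
  have hΨc : Ψ.comp cR = AlgHom.id A R := AlgHom.ext (fun s => by
    show Polynomial.aeval r (algebraMap R R[X] s) = s
    rw [Polynomial.algebraMap_apply, Polynomial.aeval_C]; rfl)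
  have hθ : ∀ p, Polynomial.aeval r (θ p) = algebraMap A'[X] R p := by
    intro p
    have : ((Polynomial.aeval r : R[X] →ₐ[R] R) : R[X] →+* R).comp θ = algebraMap A'[X] R := by
      apply Polynomial.ringHom_ext
      · intro a
        simp only [RingHom.comp_apply, hθC]
        simp
      · simp only [RingHom.comp_apply, hθX]
        simp [r]
    exact RingHom.congr_fun this p
  have hΨX : Ψ.comp (IsScalarTower.toAlgHom A A'[X] R[X]) = IsScalarTower.toAlgHom A A'[X] R :=
    AlgHom.ext (fun p => hθ p)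
  set x' := Algebra.TensorProduct.map cR (AlgHom.id A B) x with hx'
  set w' := Algebra.TensorProduct.map cR (AlgHom.id A B) w with hw'
  set yS := Algebra.TensorProduct.map (IsScalarTower.toAlgHom A A'[X] R[X]) (AlgHom.id A B) y
    with hyS
  have core : F.law.toFun' R[X] (x' + w' * yS) = F.law.toFun' R[X] x' := by
    have h1 := h R[X] (((X : R[X]) ⊗ₜ[A] (1 : B)) * x') w'
    rw [map_mul, Algebra.TensorProduct.map_tmul, map_one] at h1
    have hX : (IsScalarTower.toAlgHom A A'[X] R[X]) X = X := hθX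
    rw [hX, ← hyS] at h1
    have e1 : ((X : R[X]) ⊗ₜ[A] (1 : B)) * x' + w' * (((X : R[X]) ⊗ₜ[A] (1 : B)) * yS) =
        (X : R[X]) • (x' + w' * yS) := by
      rw [← Groth.Agent.S13699.tmul_one_mul]; ring
    rw [e1, Groth.Agent.S13699.tmul_one_mul, F.homog, F.homog] at h1
    exact cancel_X' d _ _ h1
  have h2 := congrArg (Algebra.TensorProduct.map Ψ (AlgHom.id A A)) core
  rw [Groth.Agent.S13722.compat, Groth.Agent.S13722.compat, map_add, map_mul] at h2
  have e2 : Algebra.TensorProduct.map Ψ (AlgHom.id A B) x' = x := by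
    rw [hx', ← AlgHom.comp_apply, ← Algebra.TensorProduct.map_comp, hΨc]
    exact map_id_id x
  have e3 : Algebra.TensorProduct.map Ψ (AlgHom.id A B) w' = w := by
    rw [hw', ← AlgHom.comp_apply, ← Algebra.TensorProduct.map_comp, hΨc]
    exact map_id_id w
  have e4 : Algebra.TensorProduct.map Ψ (AlgHom.id A B) yS =
      Algebra.TensorProduct.map (IsScalarTower.toAlgHom A A'[X] R) (AlgHom.id A B) y := by
    rw [hyS, ← AlgHom.comp_apply, ← Algebra.TensorProduct.map_comp, hΨX]
    rfl
  rw [e2, e3, e4] at h2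
  exact h2

/-- inclusion of the constants -/
noncomputable abbrev iotaC (A' : Type u) [CommRing A'] [Algebra A A'] :
    A' ⊗[A] B →ₐ[A] A'[X] ⊗[A] B :=
  Algebra.TensorProduct.map (IsScalarTower.toAlgHom A A' A'[X]) (AlgHom.id A B)

/-- evaluation at zero -/
noncomputable abbrev ev0 (A' : Type u) [CommRing A'] [Algebra A A'] : A'[X] →ₐ[A] A' :=
  (Polynomial.aeval (0 : A')).restrictScalars A

theorem ev0_iotaC (A' : Type u) [CommRing A'] [Algebra A A'] (z : A' ⊗[A] B) :
    Algebra.TensorProduct.map (ev0 (A := A) A') (AlgHom.id A B) (iotaC A' z) = z := by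
  rw [← AlgHom.comp_apply, ← Algebra.TensorProduct.map_comp]
  have : (ev0 (A := A) A').comp (IsScalarTower.toAlgHom A A' A'[X]) = AlgHom.id A A' :=
    AlgHom.ext (fun s => by
      show Polynomial.aeval (0 : A') (algebraMap A' A'[X] s) = s
      rw [Polynomial.algebraMap_apply, Polynomial.aeval_C]; rfl)
  rw [this]
  exact map_id_id z

theorem ev0_sum (A' : Type u) [CommRing A'] [Algebra A A'] (N : ℕ) (c : ℕ → A' ⊗[A] B) :
    Algebra.TensorProduct.map (ev0 (A := A) A') (AlgHom.id A B)
      (∑ k ∈ Finset.range (N + 1), (((X : A'[X]) ^ k) ⊗ₜ[A] (1 : B)) * iotaC A' (c k)) = c 0 := by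
  rw [map_sum, Finset.sum_range_succ']
  have h0 : ∀ k ∈ Finset.range N, Algebra.TensorProduct.map (ev0 (A := A) A') (AlgHom.id A B)
      ((((X : A'[X]) ^ (k + 1)) ⊗ₜ[A] (1 : B)) * iotaC A' (c (k + 1))) = 0 := by
    intro k _
    rw [map_mul, Algebra.TensorProduct.map_tmul]
    have : (ev0 (A := A) A') (X ^ (k + 1)) = 0 := by
      show Polynomial.aeval (0 : A') (X ^ (k + 1)) = 0
      simp
    rw [this, TensorProduct.zero_tmul, zero_mul]
  rw [Finset.sum_eq_zero h0, zero_add, map_mul, Algebra.TensorProduct.map_tmul, ev0_iotaC]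
  have : (ev0 (A := A) A') (X ^ 0) = 1 := by simp
  rw [this, map_one]
  exact one_mul _

theorem exists_repr_rel (A' : Type u) [CommRing A'] [Algebra A A'] (y : A'[X] ⊗[A] B) :
    ∃ c : ℕ →₀ A' ⊗[A] B, y = Finsupp.lsum A (fun k =>
      (LinearMap.mulLeft A (((X : A'[X]) ^ k) ⊗ₜ[A] (1 : B))).comp (iotaC A').toLinearMap) c := by
  suffices h : y ∈ LinearMap.range (Finsupp.lsum A (fun k =>
      (LinearMap.mulLeft A (((X : A'[X]) ^ k) ⊗ₜ[A] (1 : B))).comp
        (iotaC (A := A) (B := B) A').toLinearMap)) by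
    obtain ⟨f, hf⟩ := h
    exact ⟨f, hf.symm⟩
  induction y using TensorProduct.induction_on with
  | zero => exact zero_mem _
  | add x y hx hy => exact add_mem hx hy
  | tmul p b =>
    induction p using Polynomial.induction_on' with
    | add p q hp hq => rw [TensorProduct.add_tmul]; exact add_mem hp hq
    | monomial i a =>
      refine ⟨Finsupp.single i (a ⊗ₜ b), ?_⟩
      rw [Finsupp.lsum_single, LinearMap.comp_apply, LinearMap.mulLeft_apply,
        AlgHom.toLinearMap_apply, Algebra.TensorProduct.map_tmul,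
        Algebra.TensorProduct.tmul_mul_tmul, one_mul, ← Polynomial.C_mul_X_pow_eq_monomial]
      congr 1
      show X ^ i * algebraMap A' A'[X] a = _
      rw [Polynomial.algebraMap_apply, mul_comm]; rfl

/-- the polynomial step -/
theorem sum_mem_of_kerBC {d : ℕ} (F : PolLaw.MulLaw A B A d) (A' : Type u) [CommRing A']
    [Algebra A A']
    (hP : PolLaw.kerBC F.law A' ≤
      (PolLaw.ker F.law).map (Algebra.TensorProduct.includeRight : B →ₐ[A] A' ⊗[A] B)) :
    ∀ (N : ℕ) (c : ℕ → A' ⊗[A] B),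
      (∑ k ∈ Finset.range (N + 1), (((X : A'[X]) ^ k) ⊗ₜ[A] (1 : B)) * iotaC A' (c k)) ∈
        PolLaw.kerBC F.law A'[X] →
      (∑ k ∈ Finset.range (N + 1), (((X : A'[X]) ^ k) ⊗ₜ[A] (1 : B)) * iotaC A' (c k)) ∈
        (PolLaw.ker F.law).map (Algebra.TensorProduct.includeRight : B →ₐ[A] A'[X] ⊗[A] B) := by
  intro N
  induction N with
  | zero =>
    intro c h
    have h0 := kerBC_map F.law (ev0 (A := A) A') h
    rw [ev0_sum] at h0
    have h1 := map_mem_mapIdeal _ (IsScalarTower.toAlgHom A A' A'[X]) (hP h0)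
    simp only [zero_add, Finset.sum_range_one, pow_zero]
    rw [← Algebra.TensorProduct.one_def, one_mul]
    exact h1
  | succ N ih =>
    intro c h
    have h0 := kerBC_map F.law (ev0 (A := A) A') h
    rw [ev0_sum] at h0
    have h1 : iotaC A' (c 0) ∈
        (PolLaw.ker F.law).map (Algebra.TensorProduct.includeRight : B →ₐ[A] A'[X] ⊗[A] B) :=
      map_mem_mapIdeal _ (IsScalarTower.toAlgHom A A' A'[X]) (hP h0)
    have e : ∑ k ∈ Finset.range (N + 1 + 1), (((X : A'[X]) ^ k) ⊗ₜ[A] (1 : B)) * iotaC A' (c k) =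
        ((X : A'[X]) ⊗ₜ[A] (1 : B)) *
          (∑ k ∈ Finset.range (N + 1), (((X : A'[X]) ^ k) ⊗ₜ[A] (1 : B)) * iotaC A' (c (k + 1)))
          + iotaC A' (c 0) := by
      rw [Finset.sum_range_succ', Finset.mul_sum]
      congr 1
      · refine Finset.sum_congr rfl fun k _ => ?_
        rw [← mul_assoc, Algebra.TensorProduct.tmul_mul_tmul, one_mul, pow_succ']
      · rw [pow_zero, ← Algebra.TensorProduct.one_def, one_mul]
    rw [e] at h ⊢
    have h2 : ((X : A'[X]) ⊗ₜ[A] (1 : B)) *
        (∑ k ∈ Finset.range (N + 1), (((X : A'[X]) ^ k) ⊗ₜ[A] (1 : B)) * iotaC A' (c (k + 1))) ∈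
        PolLaw.kerBC F.law A'[X] :=
      (Ideal.add_mem_iff_left _ (Groth.Agent.S13699.map_ker_le _ _ h1)).mp h
    have h3 := ih (fun k => c (k + 1)) (div_X_rel F A' _ h2)
    exact Ideal.add_mem _ (Ideal.mul_mem_left _ _ h3) h1

theorem poly_step {d : ℕ} (F : PolLaw.MulLaw A B A d) (A' : Type u) [CommRing A']
    [Algebra A A']
    (hP : PolLaw.kerBC F.law A' ≤
      (PolLaw.ker F.law).map (Algebra.TensorProduct.includeRight : B →ₐ[A] A' ⊗[A] B)) :
    PolLaw.kerBC F.law A'[X] ≤
      (PolLaw.ker F.law).map (Algebra.TensorProduct.includeRight : B →ₐ[A] A'[X] ⊗[A] B) := by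
  intro y hy
  obtain ⟨c, hc⟩ := exists_repr_rel A' y
  have hsum : y = ∑ k ∈ Finset.range (c.support.sup id + 1),
      (((X : A'[X]) ^ k) ⊗ₜ[A] (1 : B)) * iotaC A' (c k) := by
    rw [hc, Finsupp.lsum_apply,
      Finsupp.sum_of_support_subset c (s := Finset.range (c.support.sup id + 1))]
    · rfl
    · intro i hi
      rw [Finset.mem_range]
      have := Finset.le_sup (f := id) hi
      simp only [id_eq] at this
      omega
    · intro i _
      simp
  rw [hsum] at hy ⊢
  exact sum_mem_of_kerBC F A' hP _ _ hy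

theorem le_of_equiv (F : B →ₚₗ[A] A) {A' A'' : Type u} [CommRing A'] [Algebra A A'] [CommRing A'']
    [Algebra A A''] (e : A' ≃ₐ[A] A'')
    (hP : PolLaw.kerBC F A' ≤
      (PolLaw.ker F).map (Algebra.TensorProduct.includeRight : B →ₐ[A] A' ⊗[A] B)) :
    PolLaw.kerBC F A'' ≤
      (PolLaw.ker F).map (Algebra.TensorProduct.includeRight : B →ₐ[A] A'' ⊗[A] B) := by
  intro y hy
  have h1 := hP (kerBC_map F (e.symm : A'' →ₐ[A] A') hy)
  have h2 := map_mem_mapIdeal _ (e : A' →ₐ[A] A'') h1
  have h3 : Algebra.TensorProduct.map (e : A' →ₐ[A] A'') (AlgHom.id A B)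
      (Algebra.TensorProduct.map (e.symm : A'' →ₐ[A] A') (AlgHom.id A B) y) = y := by
    rw [← AlgHom.comp_apply, ← Algebra.TensorProduct.map_comp]
    have : (e : A' →ₐ[A] A'').comp (e.symm : A'' →ₐ[A] A') = AlgHom.id A A'' := by
      ext; simp
    rw [this]
    exact map_id_id y
  rwa [h3] at h2

theorem kerBC_self_le (F : B →ₚₗ[A] A) :
    PolLaw.kerBC F A ≤
      (PolLaw.ker F).map (Algebra.TensorProduct.includeRight : B →ₐ[A] A ⊗[A] B) := by
  intro y hy
  have key : ∀ z : A ⊗[A] B, z = (1 : A) ⊗ₜ[A] TensorProduct.lid A B z := by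
    intro z
    induction z using TensorProduct.induction_on with
    | zero => simp
    | tmul a b =>
      rw [TensorProduct.lid_tmul, TensorProduct.tmul_smul, TensorProduct.smul_tmul', smul_eq_mul,
        mul_one]
    | add x y hx hy => rw [map_add, TensorProduct.tmul_add, ← hx, ← hy]
  obtain ⟨b, rfl⟩ : ∃ b, y = (1 : A) ⊗ₜ[A] b := ⟨_, key y⟩
  have hb : b ∈ PolLaw.ker F := by
    change ∀ (S : Type u) [CommSemiring S] [Algebra A S] (x w : S ⊗[A] B),
      F.toFun' S (x + w * (1 ⊗ₜ[A] b)) = F.toFun' S x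
    intro S _ _ x w
    have := hy S x w
    rw [Algebra.TensorProduct.map_tmul, map_one] at this
    exact this
  exact Ideal.mem_map_of_mem _ hb

/-- the kernel of the base change to a polynomial ring in finitely many variables is the
extension of the kernel -/
theorem kerBC_mvPolynomial_le {d : ℕ} (F : PolLaw.MulLaw A B A d) : ∀ n : ℕ,
    PolLaw.kerBC F.law (MvPolynomial (Fin n) A) ≤
      (PolLaw.ker F.law).map
        (Algebra.TensorProduct.includeRight : B →ₐ[A] MvPolynomial (Fin n) A ⊗[A] B)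
  | 0 => le_of_equiv F.law (MvPolynomial.isEmptyAlgEquiv A (Fin 0)).symm (kerBC_self_le F.law)
  | n + 1 => le_of_equiv F.law (MvPolynomial.finSuccEquiv A n).symm
      (poly_step F _ (kerBC_mvPolynomial_le F n))

end KerBC

end Groth.Agent.H14Lib.BC
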