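import Mathlib
import Groth.Agent.H14Lib.BCKer

/-!
# Relative Cayley–Hamilton: the characteristic polynomial of an element of `A' ⊗ B`
-/

set_option autoImplicit false
set_option linter.style.haveILetI false
universe u
open scoped TensorProduct

namespace Groth.Agent.H14Lib.BC

open Groth.Agent.H14Lib.CH Polynomial

section RelCH

variable {A : Type u} [CommRing A] {B : Type u} [CommRing B] [Algebra A B] {d : ℕ}

/-- the characteristic polynomial of an element of `A' ⊗ B` -/
noncomputable def chiBC (A' : Type u) [CommRing A'] [Algebra A A'] (F : PolLaw.MulLaw A B A d)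
    (b' : A' ⊗[A] B) : A'[X] :=
  Algebra.TensorProduct.rid A A'[X] A'[X]
    (F.law.toFun' A'[X]
      (Algebra.TensorProduct.map (IsScalarTower.toAlgHom A A' A'[X]) (AlgHom.id A B) b' -
        (X : A'[X]) ⊗ₜ[A] (1 : B)))

theorem charpolyLaw_bcLaw (A' : Type u) [CommRing A'] [Algebra A A'] (F : PolLaw.MulLaw A B A d)
    (b' : A' ⊗[A] B) : charpolyLaw (bcLaw A' F) b' = chiBC A' F b' := by
  unfold charpolyLaw chiBC
  rw [bcLaw_apply]
  unfold bcFun
  rw [map_sub, cB_one_tmul]
  have e1 : cB (A := A) (B := B) A' A'[X] ((X : A'[X]) ⊗ₜ[A'] (1 : A' ⊗[A] B)) =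
      (X : A'[X]) ⊗ₜ[A] (1 : B) := by
    rw [Algebra.TensorProduct.one_def, Algebra.TensorProduct.cancelBaseChange_tmul, one_smul]
  rw [e1]
  simp only [AlgEquiv.trans_apply, Algebra.TensorProduct.rid_symm_apply, TensorProduct.rid_tmul,
    one_smul]

theorem rid_nat {S S' : Type u} [CommSemiring S] [Algebra A S] [CommSemiring S'] [Algebra A S']
    (φ : S →ₐ[A] S') (w : S ⊗[A] A) :
    φ (Algebra.TensorProduct.rid A S S w) =
      Algebra.TensorProduct.rid A S' S' (Algebra.TensorProduct.map φ (AlgHom.id A A) w) := by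
  induction w using TensorProduct.induction_on with
  | zero => simp
  | add x y hx hy => simp only [map_add, hx, hy]
  | tmul s a =>
    simp only [Algebra.TensorProduct.rid_tmul, Algebra.TensorProduct.map_tmul, AlgHom.coe_id,
      id_eq, map_smul]

/-- naturality of the characteristic polynomial in the base -/
theorem chiBC_map {A' A'' : Type u} [CommRing A'] [Algebra A A'] [CommRing A''] [Algebra A A'']
    (F : PolLaw.MulLaw A B A d) (ρ : A' →ₐ[A] A'') (b' : A' ⊗[A] B) :
    (chiBC A' F b').map (ρ : A' →+* A'') =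
      chiBC A'' F (Algebra.TensorProduct.map ρ (AlgHom.id A B) b') := by
  unfold chiBC
  have h1 : ∀ p : A'[X], p.map (ρ : A' →+* A'') = Polynomial.mapAlgHom ρ p := fun p => rfl
  rw [h1, rid_nat, Groth.Agent.S13722.compat, map_sub, Algebra.TensorProduct.map_tmul, map_one]
  have h2 : Polynomial.mapAlgHom ρ (X : A'[X]) = X := by
    rw [← h1, Polynomial.map_X]
  rw [h2, ← AlgHom.comp_apply, ← Algebra.TensorProduct.map_comp,
    ← AlgHom.comp_apply (Algebra.TensorProduct.map (IsScalarTower.toAlgHom A A'' A''[X])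
      (AlgHom.id A B)), ← Algebra.TensorProduct.map_comp]
  have h3 : (Polynomial.mapAlgHom ρ).comp (IsScalarTower.toAlgHom A A' A'[X]) =
      (IsScalarTower.toAlgHom A A'' A''[X]).comp ρ := by
    refine AlgHom.ext fun a => ?_
    show Polynomial.map (ρ : A' →+* A'') (algebraMap A' A'[X] a) = algebraMap A'' A''[X] (ρ a)
    rw [Polynomial.algebraMap_apply, Polynomial.algebraMap_apply, Polynomial.map_C]
    rfl
  rw [h3]

theorem chiBC_of_mem_kerBC (A' : Type u) [CommRing A'] [Algebra A A'] (F : PolLaw.MulLaw A B A d)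
    {b' : A' ⊗[A] B} (hb' : b' ∈ PolLaw.kerBC F.law A') : chiBC A' F b' = (-X) ^ d := by
  unfold chiBC
  have h := hb' A'[X] (-((X : A'[X]) ⊗ₜ[A] (1 : B))) 1
  rw [one_mul, neg_add_eq_sub] at h
  rw [h]
  have e : -((X : A'[X]) ⊗ₜ[A] (1 : B)) = (-X : A'[X]) • (1 : A'[X] ⊗[A] B) := by
    rw [Algebra.TensorProduct.one_def, TensorProduct.smul_tmul', smul_eq_mul, mul_one,
      TensorProduct.neg_tmul]
  rw [e, F.homog, (F.mult A'[X]).1, map_smul, map_one, smul_eq_mul, mul_one]

theorem exists_fin_repr (A' : Type u) [CommRing A'] [Algebra A A'] (b' : A' ⊗[A] B) :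
    ∃ (n : ℕ) (a' : Fin n → A') (b : Fin n → B), b' = ∑ i, a' i ⊗ₜ[A] b i := by
  induction b' using TensorProduct.induction_on with
  | zero => exact ⟨0, Fin.elim0, Fin.elim0, by simp⟩
  | tmul a b => exact ⟨1, fun _ => a, fun _ => b, by simp⟩
  | add x y hx hy =>
    obtain ⟨n, a1, b1, rfl⟩ := hx
    obtain ⟨m, a2, b2, rfl⟩ := hy
    refine ⟨n + m, Fin.append a1 a2, Fin.append b1 b2, ?_⟩
    rw [Fin.sum_univ_add]
    simp only [Fin.append_left, Fin.append_right]

theorem aeval_map_comm {A' A'' : Type u} [CommRing A'] [Algebra A A'] [CommRing A''] [Algebra A A'']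
    (ρ : A' →ₐ[A] A'') (g : A' ⊗[A] B) (p : A'[X]) :
    Algebra.TensorProduct.map ρ (AlgHom.id A B) (Polynomial.aeval g p) =
      Polynomial.aeval (Algebra.TensorProduct.map ρ (AlgHom.id A B) g)
        (p.map (ρ : A' →+* A'')) := by
  induction p using Polynomial.induction_on' with
  | add p q hp hq => rw [map_add, map_add, Polynomial.map_add, map_add, hp, hq]
  | monomial n a =>
    rw [Polynomial.map_monomial, ← Polynomial.C_mul_X_pow_eq_monomial,
      ← Polynomial.C_mul_X_pow_eq_monomial, map_mul, map_mul, map_mul, map_pow, map_pow, map_pow,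
      Polynomial.aeval_X, Polynomial.aeval_X, Polynomial.aeval_C, Polynomial.aeval_C]
    congr 1

/-- **relative Cayley–Hamilton**: for `b' ∈ A' ⊗ B`, the element `χ_{b'}(b')` lies in the
extension of the kernel of `F` -/
theorem CH_BC (A' : Type u) [CommRing A'] [Algebra A A'] (F : PolLaw.MulLaw A B A d)
    (b' : A' ⊗[A] B) :
    Polynomial.aeval b' (chiBC A' F b') ∈
      (PolLaw.ker F.law).map (Algebra.TensorProduct.includeRight : B →ₐ[A] A' ⊗[A] B) := by
  obtain ⟨n, a', b, rfl⟩ := exists_fin_repr A' b'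
  let ρ : MvPolynomial (Fin n) A →ₐ[A] A' := MvPolynomial.aeval a'
  let g : MvPolynomial (Fin n) A ⊗[A] B := ∑ i, (MvPolynomial.X i) ⊗ₜ[A] b i
  have hg : Algebra.TensorProduct.map ρ (AlgHom.id A B) g = ∑ i, a' i ⊗ₜ[A] b i := by
    simp only [g, map_sum, Algebra.TensorProduct.map_tmul, AlgHom.coe_id, id_eq]
    refine Finset.sum_congr rfl fun i _ => ?_
    simp [ρ]
  have h1 := CH_mem_ker (bcLaw (MvPolynomial (Fin n) A) F) g
  rw [ker_bcLaw, charpolyLaw_bcLaw] at h1
  have h2 := kerBC_mvPolynomial_le F n h1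
  have h3 := map_mem_mapIdeal _ ρ h2
  rw [aeval_map_comm, chiBC_map, hg] at h3
  exact h3

end RelCH

end Groth.Agent.H14Lib.BC
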