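import Mathlib
import Groth.Prelude.Def_PolLaw

/-!
# Base change of a polynomial law `M → N` over `A` along `A → k`, as a law `k ⊗ M → N` over `k`
-/

open scoped TensorProduct

namespace Groth.Agent.H14Lib.BCk

universe u

section Def

variable (A : Type u) [CommRing A] (k : Type u) [CommRing k] [Algebra A k]

/-- the `A`-algebra structure on a `k`-algebra -/
@[reducible] noncomputable def algA (S : Type u) [CommSemiring S] [Algebra k S] : Algebra A S :=
  Algebra.compHom S (algebraMap A k)

theorem tower_algA (S : Type u) [CommSemiring S] [Algebra k S] :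
    letI := algA A k S
    IsScalarTower A k S :=
  letI := algA A k S
  IsScalarTower.of_algebraMap_eq fun _ => rfl

variable {A k}
variable {M : Type u} [AddCommGroup M] [Module A M] {N : Type u} [AddCommGroup N] [Module A N]
  [Module k N] [IsScalarTower A k N]

/-- the component of the base-changed law -/
noncomputable def bcFun (G : M →ₚₗ[A] N) (S : Type u) [CommSemiring S] [Algebra k S] :
    S ⊗[k] (k ⊗[A] M) → S ⊗[k] N :=
  letI := algA A k S
  haveI := tower_algA A k S
  fun z => TensorProduct.mapOfCompatibleSMul k A S S N
    (G.toFun' S (TensorProduct.AlgebraTensorModule.cancelBaseChange A k S S M z))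

/-- an algebra map of `k`-algebras is an `A`-algebra map -/
noncomputable def algHomA {S S' : Type u} [CommSemiring S] [Algebra k S] [CommSemiring S']
    [Algebra k S'] (φ : S →ₐ[k] S') :
    letI := algA A k S
    letI := algA A k S'
    S →ₐ[A] S' :=
  letI := algA A k S
  letI := algA A k S'
  { φ.toRingHom with
    commutes' := fun a => φ.commutes (algebraMap A k a) }

theorem bcFun_compat (G : M →ₚₗ[A] N) {S S' : Type u} [CommSemiring S] [Algebra k S]
    [CommSemiring S'] [Algebra k S'] (φ : S →ₐ[k] S') (z : S ⊗[k] (k ⊗[A] M)) :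
    φ.toLinearMap.rTensor N (bcFun G S z) = bcFun G S' (φ.toLinearMap.rTensor (k ⊗[A] M) z) := by
  letI := algA A k S
  letI := algA A k S'
  haveI := tower_algA A k S
  haveI := tower_algA A k S'
  have h1 : ∀ z : S ⊗[k] (k ⊗[A] M),
      TensorProduct.AlgebraTensorModule.cancelBaseChange A k S' S' M
        (φ.toLinearMap.rTensor (k ⊗[A] M) z) =
      (algHomA (A := A) φ).toLinearMap.rTensor M
        (TensorProduct.AlgebraTensorModule.cancelBaseChange A k S S M z) := by
    intro z
    induction z using TensorProduct.induction_on with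
    | zero => simp
    | tmul s y =>
      induction y using TensorProduct.induction_on with
      | zero => simp
      | tmul c m =>
        simp only [LinearMap.rTensor_tmul, AlgHom.toLinearMap_apply,
          TensorProduct.AlgebraTensorModule.cancelBaseChange_tmul]
        congr 1
        exact (map_smul φ c s).symm
      | add x y hx hy => simp only [TensorProduct.tmul_add, map_add, hx, hy]
    | add x y hx hy => simp only [map_add, hx, hy]
  have h3 : ∀ w : S ⊗[A] N,
      φ.toLinearMap.rTensor N (TensorProduct.mapOfCompatibleSMul k A S S N w) =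
      TensorProduct.mapOfCompatibleSMul k A S' S' N
        ((algHomA (A := A) φ).toLinearMap.rTensor N w) := by
    intro w
    induction w using TensorProduct.induction_on with
    | zero => simp
    | tmul s n => rfl
    | add x y hx hy => simp only [map_add, hx, hy]
  have h2 := congrFun (G.isCompat' (algHomA (A := A) φ))
    (TensorProduct.AlgebraTensorModule.cancelBaseChange A k S S M z)
  simp only [Function.comp_apply] at h2
  show φ.toLinearMap.rTensor N (TensorProduct.mapOfCompatibleSMul k A S S N _) =
    TensorProduct.mapOfCompatibleSMul k A S' S' N _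
  rw [h3, h2, h1]

/-- the base change of the law `G` to `k` -/
noncomputable def bcLaw (G : M →ₚₗ[A] N) : (k ⊗[A] M) →ₚₗ[k] N where
  toFun' S _ _ := bcFun G S
  isCompat' φ := by
    funext z
    exact bcFun_compat G φ z

theorem bcLaw_toFun' (G : M →ₚₗ[A] N) (S : Type u) [CommSemiring S] [Algebra k S]
    (z : S ⊗[k] (k ⊗[A] M)) : (bcLaw G).toFun' S z = bcFun G S z := rfl

theorem bcLaw_symm (G : M →ₚₗ[A] N) (S : Type u) [CommSemiring S] [Algebra k S] :
    letI := algA A k S
    haveI := tower_algA A k S
    ∀ w : S ⊗[A] M,
      (bcLaw G).toFun' S ((TensorProduct.AlgebraTensorModule.cancelBaseChange A k S S M).symm w) =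
        TensorProduct.mapOfCompatibleSMul k A S S N (G.toFun' S w) := by
  letI := algA A k S
  haveI := tower_algA A k S
  intro w
  show TensorProduct.mapOfCompatibleSMul k A S S N (G.toFun' S _) = _
  rw [LinearEquiv.apply_symm_apply]

theorem bcLaw_homog (G : M →ₚₗ[A] N) {d : ℕ} (hG : PolLaw.IsHomog G d) :
    PolLaw.IsHomog (bcLaw (k := k) G) d := by
  intro S _ _ s z
  letI := algA A k S
  haveI := tower_algA A k S
  show TensorProduct.mapOfCompatibleSMul k A S S N (G.toFun' S _) =
    s ^ d • TensorProduct.mapOfCompatibleSMul k A S S N (G.toFun' S _)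
  rw [map_smul, hG S s, map_smul]

end Def

section Mul

variable {A : Type u} [CommRing A] {k : Type u} [CommRing k] [Algebra A k]
  {B : Type u} [CommRing B] [Algebra A B] {C' : Type u} [CommRing C'] [Algebra A C']
  [Algebra k C'] [IsScalarTower A k C']

theorem bcLaw_mult (G : B →ₚₗ[A] C') (hG : PolLaw.IsMult G) :
    PolLaw.IsMult (bcLaw (k := k) G) := by
  intro S _ _
  letI := algA A k S
  haveI := tower_algA A k S
  have e1 : ∀ z : S ⊗[k] (k ⊗[A] B),
      TensorProduct.AlgebraTensorModule.cancelBaseChange A k S S B z =
        Algebra.TensorProduct.cancelBaseChange A k S S B z := fun _ => rfl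
  have e2 : ∀ w : S ⊗[A] C', TensorProduct.mapOfCompatibleSMul k A S S C' w =
      Algebra.TensorProduct.mapOfCompatibleSMul k A S S C' w := fun _ => rfl
  refine ⟨?_, fun x y => ?_⟩
  · show TensorProduct.mapOfCompatibleSMul k A S S C' (G.toFun' S _) = 1
    rw [e1, map_one, (hG S).1, e2, map_one]
  · show TensorProduct.mapOfCompatibleSMul k A S S C' (G.toFun' S _) =
      TensorProduct.mapOfCompatibleSMul k A S S C' (G.toFun' S _) *
        TensorProduct.mapOfCompatibleSMul k A S S C' (G.toFun' S _)
    rw [e1, map_mul, (hG S).2, e2, map_mul]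
    rfl

/-- the base change of a multiplicative law -/
noncomputable def bcMulLaw {d : ℕ} (G : PolLaw.MulLaw A B C' d) :
    PolLaw.MulLaw k (k ⊗[A] B) C' d where
  law := bcLaw G.law
  homog := bcLaw_homog G.law G.homog
  mult := bcLaw_mult G.law G.mult

end Mul

end Groth.Agent.H14Lib.BCk
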