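import Mathlib
import Groth.Prelude.Def_PolLaw
import Groth.Prelude.Def_SymTen

/-!
# Change of base ring for tensor powers: `T^d_A(B) → T^d_k(B')`
-/

open scoped TensorProduct

namespace Groth.Agent.H14Lib.BCk

universe u

section Iota

variable {A : Type u} [CommRing A] {k : Type u} [CommRing k] [Algebra A k]
  {B : Type u} [CommRing B] [Algebra A B] {B' : Type u} [CommRing B'] [Algebra A B']
  [Algebra k B'] [IsScalarTower A k B'] (d : ℕ)

/-- the canonical map `T^d_A(B) → T^d_k(B')` attached to `f : B → B'` -/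
noncomputable def iotaT (f : B →ₐ[A] B') : (⨂[A] _ : Fin d, B) →ₐ[A] (⨂[k] _ : Fin d, B') :=
  PiTensorProduct.liftAlgHom
    (((PiTensorProduct.tprod k).restrictScalars A).compLinearMap fun _ => f.toLinearMap)
    (by simp [PiTensorProduct.one_def]; rfl)
    (by intro x y; simp [PiTensorProduct.tprod_mul_tprod]; rfl)

@[simp]
theorem iotaT_tprod (f : B →ₐ[A] B') (g : Fin d → B) :
    iotaT (k := k) d f (PiTensorProduct.tprod A g) = PiTensorProduct.tprod k (fun i => f (g i)) := by
  simp [iotaT]

theorem iotaT_reindex (f : B →ₐ[A] B') (σ : Equiv.Perm (Fin d)) (t : ⨂[A] _ : Fin d, B) :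
    iotaT (k := k) d f (PiTensorProduct.reindex A (fun _ : Fin d => B) σ t) =
      PiTensorProduct.reindex k (fun _ : Fin d => B') σ (iotaT (k := k) d f t) := by
  induction t using PiTensorProduct.induction_on with
  | smul_tprod r g =>
    have e1 : iotaT (k := k) d f (r • PiTensorProduct.tprod A g) =
        (algebraMap A k r) • PiTensorProduct.tprod k (fun i => f (g i)) := by
      rw [map_smul, iotaT_tprod, algebraMap_smul]
    rw [e1, LinearEquiv.map_smul (PiTensorProduct.reindex A (fun _ : Fin d => B) σ),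
      PiTensorProduct.reindex_tprod, map_smul, iotaT_tprod,
      LinearEquiv.map_smul (PiTensorProduct.reindex k (fun _ : Fin d => B') σ),
      PiTensorProduct.reindex_tprod, algebraMap_smul]
  | add x y hx hy => simp [hx, hy]

theorem iotaT_mem_TS (f : B →ₐ[A] B') {t : ⨂[A] _ : Fin d, B} (ht : t ∈ SymTen.TS A B d) :
    iotaT (k := k) d f t ∈ SymTen.TS k B' d := by
  intro σ
  rw [← iotaT_reindex, ht σ]

end Iota

end Groth.Agent.H14Lib.BCk
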