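import Mathlib
import Groth.Agent.H14Lib.CH2

/-!
# Coefficients of a polynomial law with values in an arbitrary module
-/

set_option autoImplicit false
universe u
open scoped TensorProduct

namespace Groth.Agent.H14Lib.CH

open MvPolynomial

section CoefN

variable {A : Type u} [CommRing A] {M : Type u} [AddCommGroup M] [Module A M]
  {N : Type u} [AddCommGroup N] [Module A N] {I : Type u}

/-- value of the law at the generic element -/
noncomputable def gval (G : M →ₚₗ[A] N) (e : I → M) (Λ : Finset I) : MvPolynomial I A ⊗[A] N :=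
  G.toFun' (MvPolynomial I A) (gen e Λ)

/-- the coefficients of a law along a family -/
noncomputable def cf (G : M →ₚₗ[A] N) (e : I → M) (Λ : Finset I) (ν : I →₀ ℕ) : N :=
  TensorProduct.lid A N (kap (A := A) A I N ν (gval G e Λ))

theorem eq_one_tmul_lid (z : A ⊗[A] N) : z = (1 : A) ⊗ₜ[A] TensorProduct.lid A N z := by
  conv_lhs => rw [← (TensorProduct.lid A N).symm_apply_apply z]
  rw [TensorProduct.lid_symm_apply]

/-- a finite set of exponents outside of which the coefficients vanish -/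
noncomputable def cfsupp (G : M →ₚₗ[A] N) (e : I → M) (Λ : Finset I) : Finset (I →₀ ℕ) :=
  (exists_decomp (A := A) (S := A) (gval G e Λ)).choose

theorem cf_eq_zero (G : M →ₚₗ[A] N) (e : I → M) (Λ : Finset I) {ν : I →₀ ℕ}
    (hν : ν ∉ cfsupp G e Λ) : cf G e Λ ν = 0 := by
  rw [cf, (exists_decomp (A := A) (S := A) (gval G e Λ)).choose_spec.1 ν hν, map_zero]

theorem gval_eq (G : M →ₚₗ[A] N) (e : I → M) (Λ : Finset I) :
    gval G e Λ = ∑ ν ∈ cfsupp G e Λ, (monomial ν (1 : A)) ⊗ₜ[A] cf G e Λ ν := by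
  have h := (exists_decomp (A := A) (S := A) (gval G e Λ)).choose_spec.2
  conv_lhs => rw [h]
  refine Finset.sum_congr rfl fun ν _ => ?_
  rw [eq_one_tmul_lid (kap (A := A) A I N ν (gval G e Λ)), incl_tmul, TensorProduct.smul_tmul',
    smul_eq_mul, C_1, mul_one]
  rfl

/-- the general coefficient formula -/
theorem spadeN (G : M →ₚₗ[A] N) (e : I → M) (Λ : Finset I)
    {S : Type u} [CommSemiring S] [Algebra A S] (a : I → S) :
    G.toFun' S (∑ i ∈ Λ, a i ⊗ₜ[A] e i) =
      ∑ ν ∈ cfsupp G e Λ, (ν.prod fun i n => a i ^ n) ⊗ₜ[A] cf G e Λ ν := by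
  have h := PolynomialLaw.isCompat_apply' (f := G) (aeval a : MvPolynomial I A →ₐ[A] S) (gen e Λ)
  have h2 : (aeval a : MvPolynomial I A →ₐ[A] S).toLinearMap.rTensor M (gen e Λ) =
      ∑ i ∈ Λ, a i ⊗ₜ[A] e i := by
    simp [gen, map_sum, LinearMap.rTensor_tmul]
  rw [h2] at h
  rw [← h]
  change (aeval a : MvPolynomial I A →ₐ[A] S).toLinearMap.rTensor N (gval G e Λ) = _
  rw [gval_eq, map_sum]
  refine Finset.sum_congr rfl fun ν _ => ?_
  rw [LinearMap.rTensor_tmul, AlgHom.toLinearMap_apply, aeval_monomial, map_one, one_mul]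

/-- the formula holds over any larger finite set of exponents -/
theorem spadeN' (G : M →ₚₗ[A] N) (e : I → M) (Λ : Finset I)
    {S : Type u} [CommSemiring S] [Algebra A S] (a : I → S) {T : Finset (I →₀ ℕ)}
    (hT : cfsupp G e Λ ⊆ T) :
    G.toFun' S (∑ i ∈ Λ, a i ⊗ₜ[A] e i) =
      ∑ ν ∈ T, (ν.prod fun i n => a i ^ n) ⊗ₜ[A] cf G e Λ ν := by
  rw [spadeN]
  apply Finset.sum_subset hT
  intro ν _ hν
  rw [cf_eq_zero G e Λ hν, TensorProduct.tmul_zero]

/-- every element of `S ⊗ M` is a finite sum `∑ a_m ⊗ m` -/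
theorem exists_repr_id {S : Type u} [CommSemiring S] [Algebra A S] (x : S ⊗[A] M) :
    ∃ a : M →₀ S, x = ∑ m ∈ a.support, a m ⊗ₜ[A] m := by
  classical
  induction x using TensorProduct.induction_on with
  | zero => exact ⟨0, by simp⟩
  | tmul s m =>
    refine ⟨Finsupp.single m s, ?_⟩
    by_cases h0 : s = 0
    · rw [h0]; simp
    · rw [Finsupp.support_single_ne_zero _ h0, Finset.sum_singleton, Finsupp.single_eq_same]
  | add p₁ p₂ h₁ h₂ =>
    obtain ⟨a₁, e₁⟩ := h₁
    obtain ⟨a₂, e₂⟩ := h₂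
    refine ⟨a₁ + a₂, ?_⟩
    rw [e₁, e₂]
    have := Finsupp.sum_add_index' (f := a₁) (g := a₂)
      (h := fun (m : M) (s : S) => s ⊗ₜ[A] m)
      (fun i => TensorProduct.zero_tmul _ _) (fun i s s' => TensorProduct.add_tmul _ _ _)
    simp only [Finsupp.sum] at this
    exact this.symm

end CoefN

end Groth.Agent.H14Lib.CH
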