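import Mathlib
import Groth.Agent.H14Lib.Coef

/-!
# Coefficients of homogeneous laws with values in a module: degree, support, the `d`-tuple formula
-/

set_option autoImplicit false
universe u
open scoped TensorProduct

namespace Groth.Agent.H14Lib.CH

open MvPolynomial

section CoefN2

variable {A : Type u} [CommRing A] {M : Type u} [AddCommGroup M] [Module A M]
  {N : Type u} [AddCommGroup N] [Module A N] {I : Type u}

open Classical in
theorem cf_ind (G : M →ₚₗ[A] N) (e : I → M) {Λ Λ' : Finset I} (hΛ : Λ ⊆ Λ') (μ : I →₀ ℕ) :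
    cf G e Λ μ = if μ.support ⊆ Λ then cf G e Λ' μ else 0 := by
  classical
  have h1 := spadeN G e Λ' (S := MvPolynomial I A) (ind (A := A) Λ)
  have h2 : (∑ i ∈ Λ', ind (A := A) Λ i ⊗ₜ[A] e i) = gen e Λ := by
    rw [gen, ← Finset.sum_subset hΛ]
    · refine Finset.sum_congr rfl fun i hi => ?_
      rw [ind, if_pos hi]
    · intro i _ hi
      rw [ind, if_neg hi, TensorProduct.zero_tmul]
  rw [h2] at h1
  have h3 : ∀ ν : I →₀ ℕ, (ν.prod fun i n => ind (A := A) Λ i ^ n) =
      if ν.support ⊆ Λ then monomial ν (1 : A) else 0 := by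
    intro ν
    have := aeval_ind_monomial (A := A) Λ ν 1
    rw [aeval_monomial, map_one, one_mul] at this
    exact this
  rw [cf, gval, h1, map_sum, map_sum]
  simp only [h3, kap_tmul]
  by_cases hμ : μ.support ⊆ Λ
  · rw [if_pos hμ]
    rw [Finset.sum_eq_single μ]
    · rw [if_pos hμ, coeff_monomial, if_pos rfl, TensorProduct.lid_tmul, one_smul]
    · intro ν _ hν
      split_ifs
      · rw [coeff_monomial, if_neg hν, TensorProduct.zero_tmul, map_zero]
      · rw [coeff_zero, TensorProduct.zero_tmul, map_zero]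
    · intro hμ'
      rw [cf_eq_zero G e Λ' hμ', TensorProduct.tmul_zero, map_zero]
  · rw [if_neg hμ]
    apply Finset.sum_eq_zero
    intro ν _
    split_ifs with hν
    · rw [coeff_monomial, if_neg, TensorProduct.zero_tmul, map_zero]
      rintro rfl
      exact hμ hν
    · rw [coeff_zero, TensorProduct.zero_tmul, map_zero]

theorem cf_support (G : M →ₚₗ[A] N) (e : I → M) (Λ : Finset I) {μ : I →₀ ℕ}
    (hμ : ¬ μ.support ⊆ Λ) : cf G e Λ μ = 0 := by
  rw [cf_ind G e (subset_refl Λ) μ, if_neg hμ]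

theorem cf_mono (G : M →ₚₗ[A] N) (e : I → M) {Λ Λ' : Finset I} (hΛ : Λ ⊆ Λ') {μ : I →₀ ℕ}
    (hμ : μ.support ⊆ Λ) : cf G e Λ μ = cf G e Λ' μ := by
  rw [cf_ind G e hΛ μ, if_pos hμ]

theorem prod_option (ν : I →₀ ℕ) :
    (ν.prod fun i n => ((X none : MvPolynomial (Option I) A) * X (some i)) ^ n) =
      monomial (Finsupp.single none ν.degree + ν.mapDomain some) (1 : A) := by
  classical
  have h1 : (ν.prod fun i n => ((X (some i) : MvPolynomial (Option I) A)) ^ n) =
      monomial (ν.mapDomain some) (1 : A) := by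
    rw [monomial_eq, C_1, one_mul,
      Finsupp.prod_mapDomain_index_inj (Option.some_injective I)]
  rw [Finsupp.prod]
  simp only [mul_pow]
  rw [Finset.prod_mul_distrib, Finset.prod_pow_eq_pow_sum]
  have h2 : (∑ i ∈ ν.support, ν i) = ν.degree := rfl
  rw [h2, X_pow_eq_monomial]
  rw [Finsupp.prod] at h1
  rw [h1, monomial_mul, one_mul]

theorem prod_some (ν : I →₀ ℕ) :
    (ν.prod fun i n => ((X (some i) : MvPolynomial (Option I) A)) ^ n) =
      monomial (ν.mapDomain some) (1 : A) := by
  rw [monomial_eq, C_1, one_mul,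
    Finsupp.prod_mapDomain_index_inj (Option.some_injective I)]

theorem cf_homog (G : M →ₚₗ[A] N) {d : ℕ} (hG : PolLaw.IsHomog G d) (e : I → M) (Λ : Finset I)
    {μ : I →₀ ℕ} (hμ : μ.degree ≠ d) : cf G e Λ μ = 0 := by
  classical
  have h1 := spadeN G e Λ (S := MvPolynomial (Option I) A)
    (fun i => (X none : MvPolynomial (Option I) A) * X (some i))
  have h3 := spadeN G e Λ (S := MvPolynomial (Option I) A)
    (fun i => (X (some i) : MvPolynomial (Option I) A))
  have h2 : (∑ i ∈ Λ, ((X none : MvPolynomial (Option I) A) * X (some i)) ⊗ₜ[A] e i) =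
      (X none : MvPolynomial (Option I) A) • ∑ i ∈ Λ, (X (some i) : MvPolynomial (Option I) A) ⊗ₜ[A] e i := by
    rw [Finset.smul_sum]
    refine Finset.sum_congr rfl fun i _ => ?_
    rw [TensorProduct.smul_tmul', smul_eq_mul]
  rw [h2, hG, h3] at h1
  simp only [prod_option, prod_some] at h1
  rw [Finset.smul_sum] at h1
  have h4 := congrArg (fun z => TensorProduct.lid A N
    (kap (A := A) A (Option I) N (Finsupp.single none μ.degree + μ.mapDomain some) z)) h1
  simp only [map_sum, TensorProduct.smul_tmul', smul_eq_mul, X_pow_eq_monomial, monomial_mul,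
    one_mul, kap_tmul, coeff_monomial, TensorProduct.lid_tmul] at h4
  have hinj : ∀ ν : I →₀ ℕ, (Finsupp.single none ν.degree + ν.mapDomain some : Option I →₀ ℕ) =
      Finsupp.single none μ.degree + μ.mapDomain some → ν = μ := by
    intro ν h
    ext i
    have := DFunLike.congr_fun h (some i)
    simpa [Finsupp.mapDomain_apply (Option.some_injective I)] using this
  have hne : ∀ ν : I →₀ ℕ, (Finsupp.single none d + ν.mapDomain some : Option I →₀ ℕ) ≠
      Finsupp.single none μ.degree + μ.mapDomain some := by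
    intro ν h
    have := DFunLike.congr_fun h none
    simp only [Finsupp.coe_add, Pi.add_apply, Finsupp.single_eq_same] at this
    rw [Finsupp.mapDomain_of_notMem_range, Finsupp.mapDomain_of_notMem_range] at this
    · exact hμ (by omega)
    · simp
    · simp
  rw [Finset.sum_eq_zero (fun ν _ => by rw [if_neg (hne ν), zero_smul])] at h4
  by_cases hm : μ ∈ cfsupp G e Λ
  · rw [Finset.sum_eq_single μ] at h4
    · rw [if_pos rfl, one_smul] at h4
      exact h4.symm
    · intro ν _ hν
      rw [if_neg (fun h => hν (hinj ν h)), zero_smul]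
    · intro h; exact absurd hm h
  · exact cf_eq_zero G e Λ hm

/-- the multiset of values of a tuple, as a finitely supported function -/
noncomputable def typ {d : ℕ} {O : Type*} (f : Fin d → O) : O →₀ ℕ := ∑ k, Finsupp.single (f k) 1

theorem mult_eq_typ {d : ℕ} (τ : Fin d → I) : mult τ = typ τ := rfl

theorem typ_apply {d : ℕ} {O : Type*} [DecidableEq O] (f : Fin d → O) (o : O) :
    typ f o = Fintype.card {k // f k = o} := by
  rw [typ, Finsupp.finsetSum_apply]
  simp only [Finsupp.single_apply]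
  rw [Finset.sum_boole, Fintype.card_subtype]
  simp

theorem exists_perm_of_typ_eq {d : ℕ} {O : Type*} (f g : Fin d → O) (h : typ f = typ g) :
    ∃ σ : Equiv.Perm (Fin d), f = g ∘ σ := by
  classical
  have hc : ∀ o, Fintype.card {k // f k = o} = Fintype.card {k // g k = o} := fun o => by
    have h1 := typ_apply f o
    have h2 := typ_apply g o
    rw [h] at h1
    convert h1.symm.trans h2
  let eo : ∀ o, {k // f k = o} ≃ {k // g k = o} := fun o => Fintype.equivOfCardEq (hc o)
  let σ : Fin d ≃ Fin d := (Equiv.sigmaFiberEquiv f).symm.trans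
    ((Equiv.sigmaCongrRight eo).trans (Equiv.sigmaFiberEquiv g))
  refine ⟨σ, ?_⟩
  funext k
  have : g (σ k) = f k := ((eo (f k)) ⟨k, rfl⟩).2
  exact this.symm

theorem typ_comp_perm {d : ℕ} {O : Type*} (f : Fin d → O) (σ : Equiv.Perm (Fin d)) :
    typ (f ∘ σ) = typ f := by
  rw [typ, typ]
  exact Equiv.sum_comp σ (fun k => Finsupp.single (f k) 1)

/-- the coefficient attached to a multi-index -/
noncomputable def cnuN (G : M →ₚₗ[A] N) (e : I → M) (ν : I →₀ ℕ) : N := cf G e ν.support ν

open Classical in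
/-- the coefficient attached to a `d`-tuple of indices -/
noncomputable def cpN (G : M →ₚₗ[A] N) (e : I → M) {d : ℕ} (τ : Fin d → I) : N :=
  if rep τ = τ then cnuN G e (mult τ) else 0

theorem starN (G : M →ₚₗ[A] N) {d : ℕ} (hG : PolLaw.IsHomog G d) (e : I → M) (Λ : Finset I)
    {S : Type u} [CommSemiring S] [Algebra A S] (a : I → S) :
    G.toFun' S (∑ i ∈ Λ, a i ⊗ₜ[A] e i) =
      ∑ τ ∈ Fintype.piFinset (fun _ : Fin d => Λ), (∏ k, a (τ k)) ⊗ₜ[A] cpN G e τ := by
  classical
  set T := Fintype.piFinset (fun _ : Fin d => Λ) with hT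
  let h : (I →₀ ℕ) → S ⊗[A] N := fun ν => (ν.prod fun i n => a i ^ n) ⊗ₜ[A] cf G e Λ ν
  have hmem : ∀ τ ∈ T, (mult τ).support ⊆ Λ := by
    intro τ hτ i hi
    obtain ⟨k, rfl⟩ := (mem_support_mult τ i).mp hi
    exact Fintype.mem_piFinset.mp hτ k
  have h1 : ∑ τ ∈ T, (∏ k, a (τ k)) ⊗ₜ[A] cpN G e τ =
      ∑ τ ∈ T.filter (fun τ => rep τ = τ), h (mult τ) := by
    rw [Finset.sum_filter]
    refine Finset.sum_congr rfl fun τ hτ => ?_
    rw [cpN]
    split_ifs with hr
    · simp only [h]
      rw [prod_mult, cnuN, cf_mono G e (hmem τ hτ) (subset_refl _)]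
    · rw [TensorProduct.tmul_zero]
  have hinj : Set.InjOn (mult (I := I) (d := d)) (T.filter (fun τ => rep τ = τ) : Set (Fin d → I)) := by
    intro τ₁ h₁ τ₂ h₂ h12
    have e₁ : rep τ₁ = τ₁ := (Finset.mem_filter.mp h₁).2
    have e₂ : rep τ₂ = τ₂ := (Finset.mem_filter.mp h₂).2
    rw [← e₁, ← e₂]
    exact rep_congr h12
  rw [h1, ← Finset.sum_image (f := h) hinj, spadeN]
  have hz : ∀ ν : I →₀ ℕ, ν ∉ (T.filter (fun τ => rep τ = τ)).image mult → h ν = 0 := by
    intro ν hν
    simp only [h]
    by_cases hs : ν.support ⊆ Λ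
    · by_cases hd : ν.degree = d
      · exfalso
        apply hν
        obtain ⟨τ0, hτ0⟩ := exists_mult d ν hd
        refine Finset.mem_image.mpr ⟨rep τ0, Finset.mem_filter.mpr ⟨?_, ?_⟩, ?_⟩
        · refine Fintype.mem_piFinset.mpr fun k => hs ?_
          rw [← hτ0, ← rep_spec τ0]
          exact (mem_support_mult _ _).mpr ⟨k, rfl⟩
        · exact rep_congr (rep_spec τ0)
        · rw [rep_spec, hτ0]
      · rw [cf_homog G hG e Λ hd, TensorProduct.tmul_zero]
    · rw [cf_support G e Λ hs, TensorProduct.tmul_zero]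
  have e1 : ∑ ν ∈ cfsupp G e Λ, h ν =
      ∑ ν ∈ cfsupp G e Λ ∪ (T.filter (fun τ => rep τ = τ)).image mult, h ν := by
    apply Finset.sum_subset Finset.subset_union_left
    intro ν _ hν
    simp only [h]
    rw [cf_eq_zero G e Λ hν, TensorProduct.tmul_zero]
  have e2 : ∑ ν ∈ (T.filter (fun τ => rep τ = τ)).image mult, h ν =
      ∑ ν ∈ cfsupp G e Λ ∪ (T.filter (fun τ => rep τ = τ)).image mult, h ν := by
    apply Finset.sum_subset Finset.subset_union_right
    intro ν _ hν
    exact hz ν hν
  exact e1.trans e2.symm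

end CoefN2

end Groth.Agent.H14Lib.CH
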