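import Mathlib
import Groth.Prelude.Def_SymTen
import Groth.Agent.H14Lib.GamN1

/-!
# The linear form on the tensor power of a free cover attached to a multiplicative law
-/

set_option autoImplicit false
universe u
open scoped TensorProduct

namespace Groth.Agent.H14Lib.GamN

open Groth.Agent.H14Lib.CH

section Expand

variable {A : Type u} [CommRing A] {P : Type u} [CommRing P] [Algebra A P] {d : ℕ}

theorem prod_singleAlgHom (y : Fin d → P) :
    ∏ k, PiTensorProduct.singleAlgHom (R := A) (A := fun _ : Fin d => P) k (y k) =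
      PiTensorProduct.tprod A y := by
  simp only [PiTensorProduct.singleAlgHom_apply, MonoidHom.mulSingle_apply]
  rw [← PiTensorProduct.tprod_prod]
  exact congrArg _ (Finset.univ_prod_mulSingle y)

theorem tpowLaw_sum {I : Type*} (S : Type u) [CommSemiring S] [Algebra A S] (Λ : Finset I)
    (u : I → S) (p : I → P) :
    (SymTen.tpowLaw A P d).law.toFun' S (∑ i ∈ Λ, u i ⊗ₜ[A] p i) =
      ∑ x ∈ Fintype.piFinset (fun _ : Fin d => Λ),
        (∏ k, u (x k)) ⊗ₜ[A] PiTensorProduct.tprod A (fun k => p (x k)) := by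
  classical
  rw [SymTen.tpowLaw, PolLaw.MulLaw.prodMap_toFun']
  simp only [map_sum, Algebra.TensorProduct.map_tmul, AlgHom.id_apply]
  rw [Finset.prod_univ_sum]
  refine Finset.sum_congr rfl fun x _ => ?_
  rw [prod_tmul', prod_singleAlgHom]

theorem symmLaw_sum {ι : Type} [Fintype ι] [DecidableEq ι] (S : Type u) [CommSemiring S]
    [Algebra A S] (s : ι → S) (c : ι → Fin d → P) :
    (SymTen.symmLaw A P d).law.toFun' S (∑ l, s l ⊗ₜ[A] PiTensorProduct.tprod A (c l)) =
      ∑ κ : Equiv.Perm (Fin d) → ι,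
        (∏ σ, s (κ σ)) ⊗ₜ[A] PiTensorProduct.tprod A (fun k => ∏ σ : Equiv.Perm (Fin d), c (κ σ) (σ.symm k)) := by
  classical
  rw [SymTen.symmLaw, PolLaw.MulLaw.prodMap_toFun']
  simp only [map_sum, Algebra.TensorProduct.map_tmul, AlgHom.id_apply, SymTen.perm_tprod]
  rw [Finset.prod_univ_sum, Fintype.piFinset_univ]
  refine Finset.sum_congr rfl fun κ _ => ?_
  rw [prod_tmul', ← PiTensorProduct.tprod_prod]
  congr 2
  funext k
  rw [Finset.prod_apply]

theorem exists_repr_basis {I : Type*} (bas : Module.Basis I A P) {S : Type u} [CommSemiring S]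
    [Algebra A S] (z : S ⊗[A] P) :
    ∃ (Λ : Finset I) (u : I → S), z = ∑ i ∈ Λ, u i ⊗ₜ[A] bas i := by
  classical
  induction z using TensorProduct.induction_on with
  | zero => exact ⟨∅, fun _ => 0, by simp⟩
  | tmul s p =>
    refine ⟨(bas.repr p).support, fun i => bas.repr p i • s, ?_⟩
    conv_lhs => rw [← bas.linearCombination_repr p, Finsupp.linearCombination_apply, Finsupp.sum,
      TensorProduct.tmul_sum]
    refine Finset.sum_congr rfl fun i _ => ?_
    rw [TensorProduct.tmul_smul, TensorProduct.smul_tmul']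
  | add z₁ z₂ h₁ h₂ =>
    obtain ⟨Λ₁, u₁, e₁⟩ := h₁
    obtain ⟨Λ₂, u₂, e₂⟩ := h₂
    refine ⟨Λ₁ ∪ Λ₂, fun i => (if i ∈ Λ₁ then u₁ i else 0) + (if i ∈ Λ₂ then u₂ i else 0), ?_⟩
    simp only [TensorProduct.add_tmul, Finset.sum_add_distrib]
    congr 1
    · rw [e₁]
      rw [← Finset.sum_subset (Finset.subset_union_left (s₂ := Λ₂))]
      · refine Finset.sum_congr rfl fun i hi => ?_
        rw [if_pos hi]
      · intro i _ hi
        rw [if_neg hi, TensorProduct.zero_tmul]
    · rw [e₂]
      rw [← Finset.sum_subset (Finset.subset_union_right (s₁ := Λ₁))]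
      · refine Finset.sum_congr rfl fun i hi => ?_
        rw [if_pos hi]
      · intro i _ hi
        rw [if_neg hi, TensorProduct.zero_tmul]

end Expand

section Pit

variable {A : Type u} [CommRing A] {B : Type u} [CommRing B] [Algebra A B]
  {C : Type u} [CommRing C] [Algebra A C] {d : ℕ}
  {P : Type u} [CommRing P] [Algebra A P] {I : Type u}

/-- the basis of pure tensors of basis elements -/
noncomputable def basT (bas : Module.Basis I A P) (d : ℕ) :
    Module.Basis (Fin d → I) A (⨂[A] _ : Fin d, P) :=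
  Basis.piTensorProduct (fun _ : Fin d => bas)

theorem basT_apply (bas : Module.Basis I A P) (x : Fin d → I) :
    basT bas d x = PiTensorProduct.tprod A (fun k => bas (x k)) :=
  Basis.piTensorProduct_apply _ x

/-- the linear form attached to a law: value `cpN` on the pure tensors of basis elements -/
noncomputable def pit (G : B →ₚₗ[A] C) (bas : Module.Basis I A P) (q : P →ₐ[A] B) (d : ℕ) :
    (⨂[A] _ : Fin d, P) →ₗ[A] C :=
  (basT bas d).constr A (fun x : Fin d → I => cpN G (fun i => q (bas i)) x)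

theorem pit_tprod_bas (G : B →ₚₗ[A] C) (bas : Module.Basis I A P) (q : P →ₐ[A] B)
    (x : Fin d → I) :
    pit G bas q d (PiTensorProduct.tprod A (fun k => bas (x k))) = cpN G (fun i => q (bas i)) x := by
  rw [← basT_apply, pit, Module.Basis.constr_basis]

/-- the fundamental property: `pit ∘ (x ↦ x ⊗ ⋯ ⊗ x) = G ∘ q` -/
theorem pit_tpowLaw (G : B →ₚₗ[A] C) (hG : PolLaw.IsHomog G d) (bas : Module.Basis I A P)
    (q : P →ₐ[A] B) (S : Type u) [CommSemiring S] [Algebra A S] (z : S ⊗[A] P) :
    (pit G bas q d).lTensor S ((SymTen.tpowLaw A P d).law.toFun' S z) =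
      G.toFun' S (q.toLinearMap.lTensor S z) := by
  obtain ⟨Λ, u, rfl⟩ := exists_repr_basis bas z
  rw [tpowLaw_sum, map_sum, map_sum]
  simp only [LinearMap.lTensor_tmul, pit_tprod_bas, AlgHom.toLinearMap_apply]
  rw [starN G hG (fun i => q (bas i)) Λ u]

end Pit

end Groth.Agent.H14Lib.GamN
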