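import Mathlib
import Groth.Agent.H14Lib.GamN2

/-!
# Symmetric sums of pure tensors: the value of the linear form depends only on the images in `B`
-/

set_option autoImplicit false
universe u
open scoped TensorProduct

namespace Groth.Agent.H14Lib.GamN

open Groth.Agent.H14Lib.CH MvPolynomial

section Sym

variable {A : Type u} [CommRing A] {B : Type u} [CommRing B] [Algebra A B]
  {C : Type u} [CommRing C] [Algebra A C] {d : ℕ}
  {P : Type u} [CommRing P] [Algebra A P] {I : Type u}

theorem prod_X_typ (x : Fin d → Fin d) :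
    (∏ k, (X (x k) : MvPolynomial (Fin d) A)) = monomial (typ x) 1 := by
  rw [typ, monomial_sum_one]
  rfl

/-- the value of the linear form on the sum of the pure tensors `c ∘ f`, `f` of a given type -/
theorem pit_sum_typ (G : B →ₚₗ[A] C) (hG : PolLaw.IsHomog G d) (bas : Module.Basis I A P)
    (q : P →ₐ[A] B) (c : Fin d → P) (m : Fin d →₀ ℕ) :
    pit G bas q d (∑ f : Fin d → Fin d with typ f = m, PiTensorProduct.tprod A (fun k => c (f k))) =
      TensorProduct.lid A C (kap (A := A) A (Fin d) C m
        (G.toFun' (MvPolynomial (Fin d) A) (∑ o : Fin d, (X o : MvPolynomial (Fin d) A) ⊗ₜ[A] q (c o)))) := by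
  classical
  have h := pit_tpowLaw G hG bas q (MvPolynomial (Fin d) A)
    (∑ o : Fin d, (X o : MvPolynomial (Fin d) A) ⊗ₜ[A] c o)
  rw [tpowLaw_sum, Fintype.piFinset_univ] at h
  simp only [map_sum, LinearMap.lTensor_tmul, AlgHom.toLinearMap_apply] at h
  rw [← h, map_sum, map_sum, map_sum]
  simp only [kap_tmul, TensorProduct.lid_tmul, prod_X_typ, coeff_monomial]
  rw [Finset.sum_filter]
  refine Finset.sum_congr rfl fun f _ => ?_
  split_ifs
  · rw [one_smul]
  · rw [zero_smul]

/-- a sum of pure tensors `c ∘ f` with multiplicities invariant under permutations: its image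
under the linear form depends only on `q ∘ c` -/
theorem pit_sum_invariant (G : B →ₚₗ[A] C) (hG : PolLaw.IsHomog G d) (bas : Module.Basis I A P)
    (q : P →ₐ[A] B) (n : (Fin d → Fin d) → ℕ)
    (hn : ∀ (f : Fin d → Fin d) (τ : Equiv.Perm (Fin d)), n (f ∘ τ) = n f)
    (c c' : Fin d → P) (hq : ∀ k, q (c k) = q (c' k)) :
    pit G bas q d (∑ f : Fin d → Fin d, n f • PiTensorProduct.tprod A (fun k => c (f k))) =
      pit G bas q d (∑ f : Fin d → Fin d, n f • PiTensorProduct.tprod A (fun k => c' (f k))) := by
  classical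
  have key : ∀ c : Fin d → P,
      pit G bas q d (∑ f : Fin d → Fin d, n f • PiTensorProduct.tprod A (fun k => c (f k))) =
      ∑ m ∈ (Finset.univ : Finset (Fin d → Fin d)).image typ,
        (if h : ∃ f : Fin d → Fin d, typ f = m then n h.choose else 0) •
          TensorProduct.lid A C (kap (A := A) A (Fin d) C m
            (G.toFun' (MvPolynomial (Fin d) A)
              (∑ o : Fin d, (X o : MvPolynomial (Fin d) A) ⊗ₜ[A] q (c o)))) := by
    intro c
    rw [← Finset.sum_fiberwise_of_maps_to (g := typ) (t := (Finset.univ : Finset (Fin d → Fin d)).image typ)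
      (fun f _ => Finset.mem_image_of_mem _ (Finset.mem_univ f)), map_sum]
    refine Finset.sum_congr rfl fun m hm => ?_
    obtain ⟨f₁, _, hf₁⟩ := Finset.mem_image.mp hm
    have hex : ∃ f : Fin d → Fin d, typ f = m := ⟨f₁, hf₁⟩
    rw [dif_pos hex, ← pit_sum_typ G hG bas q c m, ← map_nsmul, ← Finset.sum_nsmul]
    congr 1
    refine Finset.sum_congr rfl fun f hf => ?_
    have hf' : typ f = m := (Finset.mem_filter.mp hf).2
    obtain ⟨τ, hτ⟩ := exists_perm_of_typ_eq f hex.choose (hf'.trans hex.choose_spec.symm)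
    rw [hτ, hn]
  rw [key c, key c']
  simp only [hq]

end Sym

end Groth.Agent.H14Lib.GamN
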