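import Mathlib
import Groth.Agent.H14Lib.GamN3

/-!
# Orbit sums: the symmetrization of a sum of pure tensors under the linear form
-/

set_option autoImplicit false
universe u
open scoped TensorProduct

namespace Groth.Agent.H14Lib.GamN

open Groth.Agent.H14Lib.CH

section Orbit

variable {d : ℕ} {K : Type} [MulAction (Equiv.Perm (Fin d)) K]

/-- the orbit relation on `Fin d` of the stabilizer of `κ₀` -/
def stabRel (κ₀ : K) : Setoid (Fin d) where
  r k k' := ∃ h : Equiv.Perm (Fin d), h • κ₀ = κ₀ ∧ h k = k'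
  iseqv := by
    refine ⟨fun k => ⟨1, one_smul _ _, rfl⟩, ?_, ?_⟩
    · rintro k k' ⟨h, hh, e⟩
      refine ⟨h⁻¹, ?_, ?_⟩
      · rw [inv_smul_eq_iff, hh]
      · rw [← e]; simp
    · rintro k k' k'' ⟨h, hh, e⟩ ⟨h', hh', e'⟩
      refine ⟨h' * h, ?_, ?_⟩
      · rw [mul_smul, hh, hh']
      · rw [← e', ← e]; rfl

/-- a choice of representatives of the orbits of the stabilizer -/
noncomputable def rho (κ₀ : K) (k : Fin d) : Fin d := (Quotient.mk (stabRel κ₀) k).out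

theorem rho_rel (κ₀ : K) (k : Fin d) :
    ∃ h : Equiv.Perm (Fin d), h • κ₀ = κ₀ ∧ h k = rho κ₀ k := by
  have h1 : (stabRel κ₀).r (rho κ₀ k) k := Quotient.mk_out (s := stabRel κ₀) k
  exact (stabRel κ₀).iseqv.symm h1

theorem rho_comp (κ₀ : K) (h : Equiv.Perm (Fin d)) (hh : h • κ₀ = κ₀) (k : Fin d) :
    rho κ₀ (h k) = rho κ₀ k := by
  unfold rho
  congr 1
  apply Quotient.sound
  exact (stabRel κ₀).iseqv.symm ⟨h, hh, rfl⟩

open Classical in
/-- a choice of group element moving `κ₀` to `κ` -/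
noncomputable def tau (κ₀ κ : K) : Equiv.Perm (Fin d) :=
  if h : κ ∈ MulAction.orbit (Equiv.Perm (Fin d)) κ₀ then (MulAction.mem_orbit_iff.mp h).choose else 1

theorem tau_spec (κ₀ κ : K) (h : κ ∈ MulAction.orbit (Equiv.Perm (Fin d)) κ₀) :
    (tau κ₀ κ : Equiv.Perm (Fin d)) • κ₀ = κ := by
  rw [tau, dif_pos h]
  exact (MulAction.mem_orbit_iff.mp h).choose_spec

/-- the shape of `κ` relative to `κ₀` -/
noncomputable def Fk (κ₀ κ : K) : Fin d → Fin d := fun k => rho κ₀ ((tau κ₀ κ).symm k)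

theorem Fk_eq (κ₀ κ : K) (τ' : Equiv.Perm (Fin d)) (h : τ' • κ₀ = κ) :
    Fk κ₀ κ = fun k => rho κ₀ (τ'.symm k) := by
  have hmem : κ ∈ MulAction.orbit (Equiv.Perm (Fin d)) κ₀ := MulAction.mem_orbit_iff.mpr ⟨τ', h⟩
  have h1 := tau_spec κ₀ κ hmem
  funext k
  unfold Fk
  -- τ' = tau * g with g in the stabilizer
  set t : Equiv.Perm (Fin d) := tau κ₀ κ with ht
  have hg : (τ'⁻¹ * t) • κ₀ = κ₀ := by
    rw [mul_smul, h1, ← h, inv_smul_smul]
  have := rho_comp κ₀ (τ'⁻¹ * t) hg (t.symm k)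
  rw [← this]
  congr 1
  simp [Equiv.Perm.mul_apply]

theorem Fk_smul (κ₀ κ : K) (h : κ ∈ MulAction.orbit (Equiv.Perm (Fin d)) κ₀)
    (τ : Equiv.Perm (Fin d)) :
    Fk κ₀ (τ • κ) = fun k => Fk κ₀ κ (τ.symm k) := by
  have h1 := tau_spec κ₀ κ h
  rw [Fk_eq κ₀ (τ • κ) (τ * tau κ₀ κ) (by rw [mul_smul, h1])]
  funext k
  unfold Fk
  congr 1

variable [Fintype K]

open Classical in
theorem orbit_sum (κ₀ : K) :
    ∃ n : (Fin d → Fin d) → ℕ, (∀ (f : Fin d → Fin d) (τ : Equiv.Perm (Fin d)), n (f ∘ τ) = n f) ∧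
      ∀ {Y : Type u} {V : Type u} [AddCommMonoid V] (Cf : K → Fin d → Y)
        (_ : ∀ (τ : Equiv.Perm (Fin d)) (κ : K), Cf (τ • κ) = fun k => Cf κ (τ.symm k))
        (Φ : (Fin d → Y) → V),
        ∑ κ ∈ Finset.univ.filter (fun κ => κ ∈ MulAction.orbit (Equiv.Perm (Fin d)) κ₀), Φ (Cf κ) =
          ∑ f : Fin d → Fin d, n f • Φ (fun k => Cf κ₀ (f k)) := by
  set O := Finset.univ.filter (fun κ : K => κ ∈ MulAction.orbit (Equiv.Perm (Fin d)) κ₀) with hO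
  have hOmem : ∀ κ, κ ∈ O ↔ κ ∈ MulAction.orbit (Equiv.Perm (Fin d)) κ₀ := by
    intro κ; simp [hO]
  refine ⟨fun f => (O.filter (fun κ => Fk κ₀ κ = f)).card, ?_, ?_⟩
  · intro f τ
    refine Finset.card_bij' (fun κ _ => τ • κ) (fun κ _ => τ⁻¹ • κ) ?_ ?_
      (fun κ _ => inv_smul_smul τ κ) (fun κ _ => smul_inv_smul τ κ)
    · intro κ hκ
      rw [Finset.mem_filter] at hκ ⊢
      have hκO := (hOmem κ).mp hκ.1
      refine ⟨(hOmem _).mpr ?_, ?_⟩
      · obtain ⟨t, ht⟩ := MulAction.mem_orbit_iff.mp hκO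
        exact MulAction.mem_orbit_iff.mpr ⟨τ * t, by rw [mul_smul, ht]⟩
      · rw [Fk_smul κ₀ κ hκO τ, hκ.2]
        funext k
        simp
    · intro κ hκ
      rw [Finset.mem_filter] at hκ ⊢
      have hκO := (hOmem κ).mp hκ.1
      refine ⟨(hOmem _).mpr ?_, ?_⟩
      · obtain ⟨t, ht⟩ := MulAction.mem_orbit_iff.mp hκO
        exact MulAction.mem_orbit_iff.mpr ⟨τ⁻¹ * t, by rw [mul_smul, ht]⟩
      · rw [Fk_smul κ₀ κ hκO τ⁻¹, hκ.2]
        funext k
        rfl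
  · intro Y V _ Cf hC Φ
    -- invariance of `Cf κ₀` under the stabilizer
    have hinv : ∀ k, Cf κ₀ (rho κ₀ k) = Cf κ₀ k := by
      intro k
      obtain ⟨h, hh, e⟩ := rho_rel κ₀ k
      rw [← e]
      have := congrFun (hC h⁻¹ κ₀) k
      rw [inv_smul_eq_iff.mpr hh.symm] at this
      have h2 : (Equiv.symm h⁻¹) k = h k := rfl
      rw [h2] at this
      exact this.symm
    have hCf : ∀ κ ∈ O, Cf κ = fun k => Cf κ₀ (Fk κ₀ κ k) := by
      intro κ hκ
      have h1 := tau_spec κ₀ κ ((hOmem κ).mp hκ)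
      conv_lhs => rw [← h1, hC]
      funext k
      unfold Fk
      rw [hinv]
    rw [Finset.sum_congr rfl (fun κ hκ => by rw [hCf κ hκ])]
    rw [← Finset.sum_fiberwise' O (Fk κ₀) (fun f => Φ (fun k => Cf κ₀ (f k)))]
    refine Finset.sum_congr rfl fun f _ => ?_
    rw [Finset.sum_const]

end Orbit

end Groth.Agent.H14Lib.GamN
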