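import Mathlib
import Groth.Agent.H14Lib.GamN4

/-!
# The symmetrization of a sum of pure tensors: dependence on the images in `B` only
-/

set_option autoImplicit false
universe u
open scoped TensorProduct

namespace Groth.Agent.H14Lib.GamN

open Groth.Agent.H14Lib.CH

/-- index functions on the symmetric group -/
def Kap (d : ℕ) (ι : Type) := Equiv.Perm (Fin d) → ι

noncomputable instance {d : ℕ} {ι : Type} [Fintype ι] [DecidableEq ι] : Fintype (Kap d ι) :=
  inferInstanceAs (Fintype (Equiv.Perm (Fin d) → ι))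

instance {d : ℕ} {ι : Type} : MulAction (Equiv.Perm (Fin d)) (Kap d ι) where
  smul τ κ := fun σ => κ (τ⁻¹ * σ)
  one_smul κ := by
    funext σ
    show κ (1⁻¹ * σ) = κ σ
    simp
  mul_smul τ τ' κ := by
    funext σ
    show κ ((τ * τ')⁻¹ * σ) = κ (τ'⁻¹ * (τ⁻¹ * σ))
    simp [mul_assoc]

theorem Kap_smul_apply {d : ℕ} {ι : Type} (τ : Equiv.Perm (Fin d)) (κ : Kap d ι)
    (σ : Equiv.Perm (Fin d)) : (τ • κ) σ = κ (τ⁻¹ * σ) := rfl

section Congr

variable {A : Type u} [CommRing A] {B : Type u} [CommRing B] [Algebra A B]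
  {C : Type u} [CommRing C] [Algebra A C] {d : ℕ}
  {P : Type u} [CommRing P] [Algebra A P] {I : Type u}

/-- the entries of the product of the conjugates of pure tensors -/
noncomputable def Cc {ι : Type} (c : ι → Fin d → P) (κ : Kap d ι) : Fin d → P :=
  fun k => ∏ σ : Equiv.Perm (Fin d), c (κ σ) (σ.symm k)

theorem Cc_smul {ι : Type} (c : ι → Fin d → P) (τ : Equiv.Perm (Fin d)) (κ : Kap d ι) :
    Cc c (τ • κ) = fun k => Cc c κ (τ.symm k) := by
  funext k
  unfold Cc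
  rw [← Equiv.prod_comp (Equiv.mulLeft τ)]
  refine Finset.prod_congr rfl fun σ _ => ?_
  rw [Kap_smul_apply, Equiv.coe_mulLeft, inv_mul_cancel_left]
  rfl

theorem prod_smul {ι : Type} {S : Type*} [CommMonoid S] (s : ι → S) (τ : Equiv.Perm (Fin d))
    (κ : Kap d ι) : ∏ σ, s ((τ • κ) σ) = ∏ σ, s (κ σ) := by
  rw [← Equiv.prod_comp (Equiv.mulLeft τ)]
  refine Finset.prod_congr rfl fun σ _ => ?_
  rw [Kap_smul_apply, Equiv.coe_mulLeft, inv_mul_cancel_left]

open Classical in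
theorem pit_symmLaw_congr (G : B →ₚₗ[A] C) (hG : PolLaw.IsHomog G d) (bas : Module.Basis I A P)
    (q : P →ₐ[A] B) {ι : Type} [Fintype ι] [DecidableEq ι] (S : Type u) [CommSemiring S]
    [Algebra A S] (s : ι → S) (c c' : ι → Fin d → P) (hq : ∀ l k, q (c l k) = q (c' l k)) :
    (pit G bas q d).lTensor S ((SymTen.symmLaw A P d).law.toFun' S
        (∑ l, s l ⊗ₜ[A] PiTensorProduct.tprod A (c l))) =
      (pit G bas q d).lTensor S ((SymTen.symmLaw A P d).law.toFun' S
        (∑ l, s l ⊗ₜ[A] PiTensorProduct.tprod A (c' l))) := by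
  rw [symmLaw_sum, symmLaw_sum, map_sum, map_sum]
  simp only [LinearMap.lTensor_tmul]
  show ∑ κ : Kap d ι, (∏ σ, s (κ σ)) ⊗ₜ[A] pit G bas q d (PiTensorProduct.tprod A (Cc c κ)) =
    ∑ κ : Kap d ι, (∏ σ, s (κ σ)) ⊗ₜ[A] pit G bas q d (PiTensorProduct.tprod A (Cc c' κ))
  rw [Finset.sum_partition (MulAction.orbitRel (Equiv.Perm (Fin d)) (Kap d ι)),
    Finset.sum_partition (MulAction.orbitRel (Equiv.Perm (Fin d)) (Kap d ι))
      (f := fun κ : Kap d ι => (∏ σ, s (κ σ)) ⊗ₜ[A] pit G bas q d (PiTensorProduct.tprod A (Cc c' κ)))]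
  refine Finset.sum_congr rfl fun xbar _ => ?_
  obtain ⟨κ₀, rfl⟩ := Quotient.exists_rep xbar
  have hfil : (Finset.univ.filter (fun y : Kap d ι =>
      (Quotient.mk (MulAction.orbitRel (Equiv.Perm (Fin d)) (Kap d ι)) y) = Quotient.mk _ κ₀)) =
      Finset.univ.filter (fun κ => κ ∈ MulAction.orbit (Equiv.Perm (Fin d)) κ₀) := by
    ext y
    simp only [Finset.mem_filter, Finset.mem_univ, true_and]
    rw [Quotient.eq]
    exact MulAction.orbitRel_apply
  rw [hfil]
  have hconst : ∀ (c : ι → Fin d → P),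
      ∑ κ ∈ Finset.univ.filter (fun κ => κ ∈ MulAction.orbit (Equiv.Perm (Fin d)) κ₀),
        (∏ σ, s (κ σ)) ⊗ₜ[A] pit G bas q d (PiTensorProduct.tprod A (Cc c κ)) =
      (∏ σ, s (κ₀ σ)) ⊗ₜ[A] pit G bas q d
        (∑ κ ∈ Finset.univ.filter (fun κ => κ ∈ MulAction.orbit (Equiv.Perm (Fin d)) κ₀),
          PiTensorProduct.tprod A (Cc c κ)) := by
    intro c
    rw [map_sum, TensorProduct.tmul_sum]
    refine Finset.sum_congr rfl fun κ hκ => ?_
    obtain ⟨t, rfl⟩ := MulAction.mem_orbit_iff.mp (Finset.mem_filter.mp hκ).2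
    rw [prod_smul]
  rw [hconst c, hconst c']
  obtain ⟨n, hn, hsum⟩ := orbit_sum (d := d) κ₀
  rw [hsum (Cc c) (Cc_smul c) (fun g => PiTensorProduct.tprod A g),
    hsum (Cc c') (Cc_smul c') (fun g => PiTensorProduct.tprod A g)]
  rw [pit_sum_invariant G hG bas q n hn (Cc c κ₀) (Cc c' κ₀)]
  intro k
  unfold Cc
  rw [map_prod, map_prod]
  exact Finset.prod_congr rfl fun σ _ => hq _ _

end Congr

end Groth.Agent.H14Lib.GamN
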