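import Mathlib
import Groth.Agent.H14Lib.GamN5

/-!
# Descent of the symmetrized linear form along `T^d(P) → T^d(B)`
-/

set_option autoImplicit false
universe u
open scoped TensorProduct

namespace Groth.Agent.H14Lib.GamN

open Groth.Agent.H14Lib.CH

section Ker

variable {A : Type u} [CommRing A] {B : Type u} [CommRing B] [Algebra A B]
  {P : Type u} [CommRing P] [Algebra A P] (q : P →ₐ[A] B) (d : ℕ)

/-- the span of the pure tensors with an entry in the kernel of `q` -/
def Nul : Submodule A (⨂[A] _ : Fin d, P) :=
  Submodule.span A {t | ∃ (e : Fin d → P) (k : Fin d), q (e k) = 0 ∧ t = PiTensorProduct.tprod A e}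

theorem tprod_update_sub_mem [DecidableEq (Fin d)] (g : Fin d → P) (k : Fin d) (x y : P)
    (h : q x = q y) :
    PiTensorProduct.tprod A (Function.update g k x) - PiTensorProduct.tprod A (Function.update g k y)
      ∈ Nul q d := by
  rw [← MultilinearMap.map_update_sub]
  apply Submodule.subset_span
  exact ⟨Function.update g k (x - y), k, by rw [Function.update_self, map_sub, h, sub_self], rfl⟩

theorem tprod_sub_mem (c c' : Fin d → P) (h : ∀ k, q (c' k) = q (c k)) :
    PiTensorProduct.tprod A c' - PiTensorProduct.tprod A c ∈ Nul q d := by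
  classical
  have key : ∀ s : Finset (Fin d),
      PiTensorProduct.tprod A (s.piecewise c' c) - PiTensorProduct.tprod A c ∈ Nul q d := by
    intro s
    induction s using Finset.induction_on with
    | empty => simp
    | insert k s hk ih =>
      rw [Finset.piecewise_insert]
      have h1 := tprod_update_sub_mem q d (s.piecewise c' c) k (c' k) (c k) (h k)
      have h2 : Function.update (s.piecewise c' c) k (c k) = s.piecewise c' c := by
        rw [Function.update_eq_self_iff, Finset.piecewise_eq_of_notMem _ _ _ hk]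
      rw [h2] at h1
      have := Submodule.add_mem _ h1 ih
      convert this using 1
      abel
  have := key Finset.univ
  rwa [Finset.piecewise_univ] at this

variable {q} in
/-- pure tensors of chosen preimages, modulo `Nul` -/
noncomputable def secT (hq : Function.Surjective q) :
    MultilinearMap A (fun _ : Fin d => B) ((⨂[A] _ : Fin d, P) ⧸ Nul q d) where
  toFun b := Submodule.Quotient.mk (PiTensorProduct.tprod A (fun k => Function.surjInv hq (b k)))
  map_update_add' := by
    intro inst m i x y
    rw [← Submodule.Quotient.mk_add, Submodule.Quotient.eq]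
    have e : ∀ z : B, (fun k => Function.surjInv hq (Function.update m i z k)) =
        Function.update (fun k => Function.surjInv hq (m k)) i (Function.surjInv hq z) := by
      intro z
      funext k
      by_cases hk : k = i
      · subst hk; simp
      · simp [Function.update_of_ne hk]
    rw [e, e, e, ← MultilinearMap.map_update_add]
    apply tprod_update_sub_mem
    rw [map_add, Function.surjInv_eq hq, Function.surjInv_eq hq, Function.surjInv_eq hq]
  map_update_smul' := by
    intro inst m i a x
    rw [← Submodule.Quotient.mk_smul, Submodule.Quotient.eq]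
    have e : ∀ z : B, (fun k => Function.surjInv hq (Function.update m i z k)) =
        Function.update (fun k => Function.surjInv hq (m k)) i (Function.surjInv hq z) := by
      intro z
      funext k
      by_cases hk : k = i
      · subst hk; simp
      · simp [Function.update_of_ne hk]
    rw [e, e, ← MultilinearMap.map_update_smul]
    apply tprod_update_sub_mem
    rw [map_smul, Function.surjInv_eq hq, Function.surjInv_eq hq]

variable {q} in
theorem invMap_tmap (hq : Function.Surjective q) (t : ⨂[A] _ : Fin d, P) :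
    PiTensorProduct.lift (secT d hq) (SymTen.tmap A d q t) = Submodule.Quotient.mk t := by
  have : (PiTensorProduct.lift (secT d hq)) ∘ₗ (SymTen.tmap A d q).toLinearMap = (Nul q d).mkQ := by
    apply PiTensorProduct.ext
    ext c
    simp only [LinearMap.compMultilinearMap_apply, LinearMap.comp_apply, AlgHom.toLinearMap_apply,
      SymTen.tmap_tprod, PiTensorProduct.lift.tprod, Submodule.mkQ_apply]
    show Submodule.Quotient.mk _ = Submodule.Quotient.mk _
    rw [Submodule.Quotient.eq]
    apply tprod_sub_mem
    intro k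
    rw [Function.surjInv_eq hq]
  exact LinearMap.congr_fun this t

variable {q} in
theorem mem_Nul_of_tmap_eq_zero (hq : Function.Surjective q) (t : ⨂[A] _ : Fin d, P)
    (ht : SymTen.tmap A d q t = 0) : t ∈ Nul q d := by
  have := invMap_tmap d hq t
  rw [ht, map_zero] at this
  exact (Submodule.Quotient.mk_eq_zero _).mp this.symm

theorem tmap_eq_zero_of_mem_Nul (t : ⨂[A] _ : Fin d, P) (ht : t ∈ Nul q d) :
    SymTen.tmap A d q t = 0 := by
  induction ht using Submodule.span_induction with
  | mem x hx =>
    obtain ⟨e, k, hk, rfl⟩ := hx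
    rw [SymTen.tmap_tprod]
    exact MultilinearMap.map_coord_zero _ k hk
  | zero => simp
  | add x y _ _ hx hy => rw [map_add, hx, hy, add_zero]
  | smul a x _ hx => rw [map_smul, hx, smul_zero]

variable {q} in
theorem tmap_surjective (hq : Function.Surjective q) :
    Function.Surjective (SymTen.tmap A d q) := by
  intro t
  induction t using PiTensorProduct.induction_on with
  | smul_tprod r f =>
    refine ⟨r • PiTensorProduct.tprod A (fun k => Function.surjInv hq (f k)), ?_⟩
    rw [map_smul, SymTen.tmap_tprod]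
    simp only [Function.surjInv_eq hq]
  | add x y hx hy =>
    obtain ⟨x', rfl⟩ := hx
    obtain ⟨y', rfl⟩ := hy
    exact ⟨x' + y', map_add _ _ _⟩

variable {q} in
theorem mem_range_of_lTensor_tmap_eq_zero (hq : Function.Surjective q) (S : Type u) [CommRing S]
    [Algebra A S] (w : S ⊗[A] (⨂[A] _ : Fin d, P))
    (hw : (SymTen.tmap A d q).toLinearMap.lTensor S w = 0) :
    w ∈ LinearMap.range ((Nul q d).subtype.lTensor S) := by
  have hex : Function.Exact (Nul q d).subtype (SymTen.tmap A d q).toLinearMap := by
    intro t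
    constructor
    · intro ht
      exact ⟨⟨t, mem_Nul_of_tmap_eq_zero d hq t ht⟩, rfl⟩
    · rintro ⟨⟨t', ht'⟩, rfl⟩
      exact tmap_eq_zero_of_mem_Nul q d t' ht'
  exact (lTensor_exact S hex (tmap_surjective d hq) w).mp hw

end Ker

section SumOf

variable {A : Type u} [CommRing A] {P : Type u} [CommRing P] [Algebra A P] {d : ℕ}
  {S : Type u} [CommRing S] [Algebra A S]

/-- `z` is a finite sum of `s ⊗ (pure tensor)` with entries satisfying `Pr` -/
def IsSumOf (Pr : (Fin d → P) → Prop) (z : S ⊗[A] (⨂[A] _ : Fin d, P)) : Prop :=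
  ∃ (ι : Type) (_ : Fintype ι) (s : ι → S) (c : ι → Fin d → P),
    (∀ m, Pr (c m)) ∧ z = ∑ m, s m ⊗ₜ[A] PiTensorProduct.tprod A (c m)

theorem isSumOf_zero (Pr : (Fin d → P) → Prop) : IsSumOf (A := A) (S := S) Pr 0 :=
  ⟨Empty, inferInstance, Empty.elim, Empty.elim, fun m => m.elim, by simp⟩

theorem isSumOf_add (Pr : (Fin d → P) → Prop) {z₁ z₂ : S ⊗[A] (⨂[A] _ : Fin d, P)}
    (h₁ : IsSumOf Pr z₁) (h₂ : IsSumOf Pr z₂) : IsSumOf Pr (z₁ + z₂) := by
  obtain ⟨ι₁, _, s₁, c₁, hp₁, rfl⟩ := h₁
  obtain ⟨ι₂, _, s₂, c₂, hp₂, rfl⟩ := h₂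
  refine ⟨ι₁ ⊕ ι₂, inferInstance, Sum.elim s₁ s₂, Sum.elim c₁ c₂, ?_, ?_⟩
  · rintro (m | m)
    · exact hp₁ m
    · exact hp₂ m
  · rw [Fintype.sum_sum_type]
    rfl

theorem isSumOf_tmul_tprod (Pr : (Fin d → P) → Prop) (s : S) (c : Fin d → P) (hc : Pr c) :
    IsSumOf Pr (s ⊗ₜ[A] PiTensorProduct.tprod A c) :=
  ⟨Unit, inferInstance, fun _ => s, fun _ => c, fun _ => hc, by simp⟩

theorem isSumOf_all (z : S ⊗[A] (⨂[A] _ : Fin d, P)) : IsSumOf (fun _ => True) z := by
  induction z using TensorProduct.induction_on with
  | zero => exact isSumOf_zero _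
  | tmul s t =>
    induction t using PiTensorProduct.induction_on with
    | smul_tprod r f =>
      rw [TensorProduct.tmul_smul, TensorProduct.smul_tmul']
      exact isSumOf_tmul_tprod _ _ _ trivial
    | add x y hx hy =>
      rw [TensorProduct.tmul_add]
      exact isSumOf_add _ hx hy
  | add x y hx hy => exact isSumOf_add _ hx hy

variable {B : Type u} [CommRing B] [Algebra A B] (q : P →ₐ[A] B)

theorem isSumOf_of_mem_range (w : S ⊗[A] (⨂[A] _ : Fin d, P))
    (hw : w ∈ LinearMap.range ((Nul q d).subtype.lTensor S)) :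
    IsSumOf (fun e => ∃ k, q (e k) = 0) w := by
  obtain ⟨w₀, rfl⟩ := hw
  induction w₀ using TensorProduct.induction_on with
  | zero => rw [map_zero]; exact isSumOf_zero _
  | tmul s n =>
    rw [LinearMap.lTensor_tmul, Submodule.subtype_apply]
    obtain ⟨n, hn⟩ := n
    show IsSumOf _ (s ⊗ₜ[A] n)
    revert s
    induction hn using Submodule.span_induction with
    | mem x hx =>
      intro s
      obtain ⟨e, k, hk, rfl⟩ := hx
      exact isSumOf_tmul_tprod _ _ _ ⟨k, hk⟩
    | zero => intro s; rw [TensorProduct.tmul_zero]; exact isSumOf_zero _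
    | add x y _ _ hx hy => intro s; rw [TensorProduct.tmul_add]; exact isSumOf_add _ (hx s) (hy s)
    | smul a x _ hx =>
      intro s
      rw [TensorProduct.tmul_smul, TensorProduct.smul_tmul']
      exact hx _
  | add x y hx hy => rw [map_add]; exact isSumOf_add _ hx hy

end SumOf

section Descent

variable {A : Type u} [CommRing A] {B : Type u} [CommRing B] [Algebra A B]
  {C : Type u} [CommRing C] [Algebra A C] {d : ℕ}
  {P : Type u} [CommRing P] [Algebra A P] {I : Type u}

open Classical in
/-- the symmetrized linear form descends along `T^d(P) → T^d(B)` -/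
theorem pit_symmLaw_descent (G : B →ₚₗ[A] C) (hG : PolLaw.IsHomog G d) (bas : Module.Basis I A P)
    (q : P →ₐ[A] B) (hq : Function.Surjective q) (S : Type u) [CommRing S] [Algebra A S]
    (z z' : S ⊗[A] (⨂[A] _ : Fin d, P))
    (h : (SymTen.tmap A d q).toLinearMap.lTensor S z = (SymTen.tmap A d q).toLinearMap.lTensor S z') :
    (pit G bas q d).lTensor S ((SymTen.symmLaw A P d).law.toFun' S z) =
      (pit G bas q d).lTensor S ((SymTen.symmLaw A P d).law.toFun' S z') := by
  have hw : (SymTen.tmap A d q).toLinearMap.lTensor S (z' - z) = 0 := by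
    rw [map_sub, h, sub_self]
  obtain ⟨ι₂, _, s₂, e, hk, hw2⟩ :=
    isSumOf_of_mem_range q (z' - z) (mem_range_of_lTensor_tmap_eq_zero d hq S _ hw)
  obtain ⟨ι₁, _, s₁, c₁, _, hz⟩ := isSumOf_all z
  choose km hkm using hk
  have hz1 : z = ∑ m : ι₁ ⊕ ι₂, Sum.elim s₁ s₂ m ⊗ₜ[A]
      PiTensorProduct.tprod A (Sum.elim c₁ (fun m => Function.update (e m) (km m) 0) m) := by
    rw [Fintype.sum_sum_type]
    simp only [Sum.elim_inl, Sum.elim_inr]
    rw [← hz]
    have : ∀ m, PiTensorProduct.tprod A (Function.update (e m) (km m) 0) = 0 := fun m =>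
      MultilinearMap.map_coord_zero _ (km m) (Function.update_self _ _ _)
    simp only [this, TensorProduct.tmul_zero, Finset.sum_const_zero, add_zero]
  have hz2 : z' = ∑ m : ι₁ ⊕ ι₂, Sum.elim s₁ s₂ m ⊗ₜ[A]
      PiTensorProduct.tprod A (Sum.elim c₁ e m) := by
    rw [Fintype.sum_sum_type]
    simp only [Sum.elim_inl, Sum.elim_inr]
    rw [← hz, ← hw2]
    abel
  rw [hz1, hz2]
  apply pit_symmLaw_congr G hG bas q S
  rintro (m | m) k
  · rfl
  · simp only [Sum.elim_inr]
    by_cases hk : k = km m
    · subst hk
      rw [Function.update_self, map_zero, hkm]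
    · rw [Function.update_of_ne hk]

end Descent

end Groth.Agent.H14Lib.GamN
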