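import Mathlib
import Groth.Agent.H14Lib.Coef
import Groth.Agent.S13174
import Groth.Agent.S13722

/-!
# The universal algebra `Γ^d_A(B)` is spanned by the coefficients of its universal law
-/

set_option autoImplicit false
universe u
open scoped TensorProduct

namespace Groth.Agent.H14Lib.CH

open MvPolynomial

section GammaGen2

variable {A : Type u} [CommRing A] {B : Type u} [CommRing B] [Algebra A B]
  {C : Type u} [CommRing C] [Algebra A C]

/-- the `A`-span of all coefficients of a law -/
noncomputable def coefSpan (γ : B →ₚₗ[A] C) : Submodule A C :=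
  Submodule.span A {c | ∃ (Λ : Finset B) (ν : B →₀ ℕ), c = cf γ (fun b => b) Λ ν}

theorem cf_mem_coefSpan (γ : B →ₚₗ[A] C) (Λ : Finset B) (ν : B →₀ ℕ) :
    cf γ (fun b => b) Λ ν ∈ coefSpan γ :=
  Submodule.subset_span ⟨Λ, ν, rfl⟩

/-- (G1) all values of the law come from `S ⊗ coefSpan` -/
theorem toFun'_mem_range (γ : B →ₚₗ[A] C) (S : Type u) [CommSemiring S] [Algebra A S]
    (x : S ⊗[A] B) :
    γ.toFun' S x ∈ LinearMap.range ((coefSpan γ).subtype.lTensor S) := by
  obtain ⟨a, rfl⟩ := exists_repr_id x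
  rw [spadeN γ (fun b => b) a.support (fun i => a i)]
  refine Submodule.sum_mem _ fun ν _ => ?_
  exact ⟨(ν.prod fun i n => a i ^ n) ⊗ₜ[A] ⟨_, cf_mem_coefSpan γ a.support ν⟩, rfl⟩

theorem lid_mem_of_mem_range {C₁ : Submodule A C} {z : A ⊗[A] C}
    (hz : z ∈ LinearMap.range (C₁.subtype.lTensor A)) : TensorProduct.lid A C z ∈ C₁ := by
  obtain ⟨w, rfl⟩ := hz
  induction w using TensorProduct.induction_on with
  | zero => simp
  | tmul a c => simpa using C₁.smul_mem a c.2
  | add x y hx hy => rw [map_add, map_add]; exact C₁.add_mem hx hy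

theorem kap_mem_range {C₁ : Submodule A C} {ρ : Type u} (μ : ρ →₀ ℕ)
    {z : MvPolynomial ρ A ⊗[A] C}
    (hz : z ∈ LinearMap.range (C₁.subtype.lTensor (MvPolynomial ρ A))) :
    kap (A := A) A ρ C μ z ∈ LinearMap.range (C₁.subtype.lTensor A) := by
  obtain ⟨w, rfl⟩ := hz
  exact ⟨kap (A := A) A ρ C₁ μ w, (kap_lTensor _ _ _).symm⟩

theorem one_mem_coefSpan (γ : B →ₚₗ[A] C) (h1 : γ.toFun' A 1 = 1) : (1 : C) ∈ coefSpan γ := by
  have h := lid_mem_of_mem_range (toFun'_mem_range γ A 1)
  rw [h1, Algebra.TensorProduct.one_def, TensorProduct.lid_tmul, one_smul] at h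
  exact h


theorem prod_X_comp_pow {J : Type u} {I : Type u} (f : I → J) (hf : Function.Injective f)
    (μ : I →₀ ℕ) :
    (μ.prod fun i n => (X (f i) : MvPolynomial J A) ^ n) = monomial (μ.mapDomain f) 1 := by
  rw [MvPolynomial.monomial_eq, map_one, one_mul, Finsupp.prod_mapDomain_index_inj hf]

theorem enc_sum_inj {I : Type u} {μ ν μ' ν' : I →₀ ℕ}
    (h : μ.mapDomain (Sum.inl : I → I ⊕ I) + μ'.mapDomain Sum.inr =
      ν.mapDomain Sum.inl + ν'.mapDomain Sum.inr) : μ = ν ∧ μ' = ν' := by
  constructor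
  · ext i
    have := DFunLike.congr_fun h (Sum.inl i)
    simp only [Finsupp.add_apply] at this
    rw [Finsupp.mapDomain_apply Sum.inl_injective, Finsupp.mapDomain_apply Sum.inl_injective,
      Finsupp.mapDomain_of_notMem_range, Finsupp.mapDomain_of_notMem_range] at this
    · simpa using this
    · simp
    · simp
  · ext i
    have := DFunLike.congr_fun h (Sum.inr i)
    simp only [Finsupp.add_apply] at this
    rw [Finsupp.mapDomain_apply Sum.inr_injective, Finsupp.mapDomain_apply Sum.inr_injective,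
      Finsupp.mapDomain_of_notMem_range, Finsupp.mapDomain_of_notMem_range] at this
    · simpa using this
    · simp
    · simp

theorem cf_mul_cf_mem (γ : B →ₚₗ[A] C)
    (hmul : ∀ (S : Type u) [CommSemiring S] [Algebra A S] (x y : S ⊗[A] B),
      γ.toFun' S (x * y) = γ.toFun' S x * γ.toFun' S y)
    (Λ Λ' : Finset B) (ν ν' : B →₀ ℕ) :
    cf γ (fun b => b) Λ ν * cf γ (fun b => b) Λ' ν' ∈ coefSpan γ := by
  classical
  by_cases hν : ν ∈ cfsupp γ (fun b => b) Λ
  swap
  · rw [cf_eq_zero _ _ _ hν, zero_mul]; exact zero_mem _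
  by_cases hν' : ν' ∈ cfsupp γ (fun b => b) Λ'
  swap
  · rw [cf_eq_zero _ _ _ hν', mul_zero]; exact zero_mem _
  set S := MvPolynomial (B ⊕ B) A with hS
  set u : S ⊗[A] B := ∑ b ∈ Λ, (X (Sum.inl b) : S) ⊗ₜ[A] b with hu
  set u' : S ⊗[A] B := ∑ b ∈ Λ', (X (Sum.inr b) : S) ⊗ₜ[A] b with hu'
  have h1 := hmul S u u'
  rw [hu, hu', spadeN γ (fun b => b) Λ (fun b => (X (Sum.inl b) : S)),
    spadeN γ (fun b => b) Λ' (fun b => (X (Sum.inr b) : S)), ← hu, ← hu'] at h1
  have h2 := lid_mem_of_mem_range (kap_mem_range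
    (ν.mapDomain Sum.inl + ν'.mapDomain Sum.inr) (toFun'_mem_range γ S (u * u')))
  rw [h1, Finset.sum_mul_sum, map_sum, map_sum] at h2
  rw [Finset.sum_eq_single ν] at h2
  · rw [map_sum, map_sum, Finset.sum_eq_single ν'] at h2
    · rw [Algebra.TensorProduct.tmul_mul_tmul, prod_X_comp_pow _ Sum.inl_injective,
        prod_X_comp_pow _ Sum.inr_injective, monomial_mul, mul_one, kap_tmul, coeff_monomial,
        if_pos rfl, TensorProduct.lid_tmul, one_smul] at h2
      exact h2
    · intro μ' _ hμ'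
      rw [Algebra.TensorProduct.tmul_mul_tmul, prod_X_comp_pow _ Sum.inl_injective,
        prod_X_comp_pow _ Sum.inr_injective, monomial_mul, mul_one, kap_tmul, coeff_monomial,
        if_neg, TensorProduct.zero_tmul, map_zero]
      intro h
      exact hμ' (enc_sum_inj h).2
    · intro h; exact absurd hν' h
  · intro μ _ hμ
    rw [map_sum, map_sum]
    refine Finset.sum_eq_zero fun μ' _ => ?_
    rw [Algebra.TensorProduct.tmul_mul_tmul, prod_X_comp_pow _ Sum.inl_injective,
      prod_X_comp_pow _ Sum.inr_injective, monomial_mul, mul_one, kap_tmul, coeff_monomial,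
      if_neg, TensorProduct.zero_tmul, map_zero]
    intro h
    exact hμ (enc_sum_inj h).1
  · intro h; exact absurd hν h

theorem mul_mem_coefSpan (γ : B →ₚₗ[A] C)
    (hmul : ∀ (S : Type u) [CommSemiring S] [Algebra A S] (x y : S ⊗[A] B),
      γ.toFun' S (x * y) = γ.toFun' S x * γ.toFun' S y)
    {c c' : C} (hc : c ∈ coefSpan γ) (hc' : c' ∈ coefSpan γ) : c * c' ∈ coefSpan γ := by
  induction hc using Submodule.span_induction with
  | mem x hx =>
    obtain ⟨Λ, ν, rfl⟩ := hx
    induction hc' using Submodule.span_induction with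
    | mem y hy =>
      obtain ⟨Λ', ν', rfl⟩ := hy
      exact cf_mul_cf_mem γ hmul Λ Λ' ν ν'
    | zero => rw [mul_zero]; exact zero_mem _
    | add y z _ _ hy hz => rw [mul_add]; exact add_mem hy hz
    | smul a y _ hy => rw [mul_smul_comm]; exact Submodule.smul_mem _ a hy
  | zero => rw [zero_mul]; exact zero_mem _
  | add y z _ _ hy hz => rw [add_mul]; exact add_mem hy hz
  | smul a y _ hy => rw [smul_mul_assoc]; exact Submodule.smul_mem _ a hy

/-- the coefficient span of a multiplicative law, as a subalgebra -/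
noncomputable def coefAlg (γ : B →ₚₗ[A] C) (h1 : γ.toFun' A 1 = 1)
    (hmul : ∀ (S : Type u) [CommSemiring S] [Algebra A S] (x y : S ⊗[A] B),
      γ.toFun' S (x * y) = γ.toFun' S x * γ.toFun' S y) : Subalgebra A C :=
  (coefSpan γ).toSubalgebra (one_mem_coefSpan γ h1)
    (fun _ _ hx hy => mul_mem_coefSpan γ hmul hx hy)

end GammaGen2


section G3

variable {A : Type u} [CommRing A] {B : Type u} [CommRing B] [Algebra A B]
  {C : Type u} [CommRing C] [Algebra A C] {d : ℕ}

theorem lTensor_val_injective (C₁ : Subalgebra A C) (n : ℕ) :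
    Function.Injective (C₁.val.toLinearMap.lTensor (MvPolynomial (Fin n) A)) :=
  Module.Flat.lTensor_preserves_injective_linearMap (M := MvPolynomial (Fin n) A)
    C₁.val.toLinearMap Subtype.val_injective

theorem rTensor_smul' {S S' : Type u} [CommSemiring S] [Algebra A S] [CommSemiring S']
    [Algebra A S'] {N : Type u} [AddCommGroup N] [Module A N] (ψ : S →ₐ[A] S') (r : S)
    (p : S ⊗[A] N) :
    ψ.toLinearMap.rTensor N (r • p) = ψ r • ψ.toLinearMap.rTensor N p := by
  induction p using TensorProduct.induction_on with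
  | zero => simp
  | tmul s n => simp [TensorProduct.smul_tmul', LinearMap.rTensor_tmul]
  | add x y hx hy => simp only [smul_add, map_add, hx, hy]

theorem lTensor_smul'' {S : Type u} [CommSemiring S] [Algebra A S]
    {N N' : Type u} [AddCommGroup N] [Module A N] [AddCommGroup N'] [Module A N']
    (f : N →ₗ[A] N') (g : S) (ξ : S ⊗[A] N) : f.lTensor S (g • ξ) = g • f.lTensor S ξ := by
  induction ξ using TensorProduct.induction_on with
  | zero => simp
  | tmul g' n => simp [TensorProduct.smul_tmul']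
  | add x y hx hy => simp only [map_add, smul_add, hx, hy]

/-- a multiplicative law all of whose values over polynomial rings come from a subalgebra `C₁`
factors through `C₁` -/
theorem exists_law_into_subalgebra (γ : PolLaw.MulLaw A B C d) (C₁ : Subalgebra A C)
    (h : ∀ (n : ℕ) (x : MvPolynomial (Fin n) A ⊗[A] B), γ.law.toFun' _ x ∈
      LinearMap.range (C₁.val.toLinearMap.lTensor (MvPolynomial (Fin n) A))) :
    ∃ γ₁ : PolLaw.MulLaw A B C₁ d, PolLaw.postcomp C₁.val.toLinearMap γ₁.law = γ.law := by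
  classical
  let T : ∀ n : ℕ, MvPolynomial (Fin n) A ⊗[A] B → MvPolynomial (Fin n) A ⊗[A] C₁ :=
    fun n x => (h n x).choose
  have hTspec : ∀ n x, C₁.val.toLinearMap.lTensor (MvPolynomial (Fin n) A) (T n x) =
      γ.law.toFun' _ x := fun n x => (h n x).choose_spec
  have hT : ∀ (n m : ℕ) (φ : MvPolynomial (Fin n) A →ₐ[A] MvPolynomial (Fin m) A),
      φ.toLinearMap.rTensor C₁ ∘ T n = T m ∘ φ.toLinearMap.rTensor B := by
    intro n m φ
    funext x
    apply lTensor_val_injective C₁ m
    simp only [Function.comp_apply]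
    rw [hTspec, ← LinearMap.comp_apply, LinearMap.lTensor_comp_rTensor,
      ← LinearMap.rTensor_comp_lTensor, LinearMap.comp_apply, hTspec]
    exact PolynomialLaw.isCompat_apply' φ x
  obtain ⟨γ₁, hγ₁⟩ := (Groth.Agent.S13174.result (A := A) (M := B) (N := C₁)).2 ⟨T, hT⟩
  have hγ₁n : ∀ n, γ₁.toFun' (MvPolynomial (Fin n) A) = T n := fun n =>
    congr_fun (congrArg Subtype.val hγ₁) n
  have hpost : PolLaw.postcomp C₁.val.toLinearMap γ₁ = γ.law := by
    apply (Groth.Agent.S13174.result (A := A) (M := B) (N := C)).1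
    apply Subtype.ext
    funext n x
    show C₁.val.toLinearMap.lTensor _ (γ₁.toFun' _ x) = γ.law.toFun' _ x
    rw [hγ₁n, hTspec]
  have hval : ∀ (S : Type u) [CommSemiring S] [Algebra A S] (x : S ⊗[A] B),
      C₁.val.toLinearMap.lTensor S (γ₁.toFun' S x) = γ.law.toFun' S x := by
    intro S _ _ x
    have := congrArg (fun F : B →ₚₗ[A] C => F.toFun' S x) hpost
    exact this
  -- multiplicativity and homogeneity over polynomial rings
  have hone : ∀ n, γ₁.toFun' (MvPolynomial (Fin n) A) 1 = 1 := by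
    intro n
    apply lTensor_val_injective C₁ n
    rw [hval, (γ.mult _).1, PolLaw.lTensor_algHom_apply, map_one]
  have hmul : ∀ n (p q : MvPolynomial (Fin n) A ⊗[A] B),
      γ₁.toFun' _ (p * q) = γ₁.toFun' _ p * γ₁.toFun' _ q := by
    intro n p q
    apply lTensor_val_injective C₁ n
    rw [hval, (γ.mult _).2, PolLaw.lTensor_algHom_apply, map_mul,
      ← PolLaw.lTensor_algHom_apply, ← PolLaw.lTensor_algHom_apply, hval, hval]
  have hhom : ∀ n (r : MvPolynomial (Fin n) A) (p : MvPolynomial (Fin n) A ⊗[A] B),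
      γ₁.toFun' _ (r • p) = r ^ d • γ₁.toFun' _ p := by
    intro n r p
    apply lTensor_val_injective C₁ n
    rw [hval, γ.homog, lTensor_smul'', hval]
  refine ⟨⟨γ₁, ?_, ?_⟩, hpost⟩
  · -- homogeneity
    intro S _ _ s x
    obtain ⟨n, ψ, p, r, hp, hr⟩ := PolynomialLaw.exists_lift' (R := A) x s
    rw [← hp, ← hr, ← rTensor_smul', ← PolynomialLaw.isCompat_apply', hhom,
      rTensor_smul', map_pow, PolynomialLaw.isCompat_apply']
  · -- multiplicativity
    intro S _ _
    constructor
    · have h0 := PolynomialLaw.isCompat_apply' (f := γ₁) (aeval (fun i : Fin 0 => (i.elim0 : S)) : MvPolynomial (Fin 0) A →ₐ[A] S) 1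
      rw [hone 0, Groth.Agent.S13722.rTensor_eq_map, Groth.Agent.S13722.rTensor_eq_map, map_one,
        map_one] at h0
      exact h0.symm
    · intro x y
      obtain ⟨n, ψ, p, hp⟩ := PolynomialLaw.exists_lift (R := A) (M := B × B) (S := S)
        ((LinearMap.inl A B B).lTensor S x + (LinearMap.inr A B B).lTensor S y)
      have hx : ψ.toLinearMap.rTensor B ((LinearMap.fst A B B).lTensor _ p) = x := by
        rw [← LinearMap.comp_apply, LinearMap.rTensor_comp_lTensor,
          ← LinearMap.lTensor_comp_rTensor, LinearMap.comp_apply, hp, map_add,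
          ← LinearMap.comp_apply, ← LinearMap.comp_apply, ← LinearMap.lTensor_comp,
          ← LinearMap.lTensor_comp, LinearMap.fst_comp_inl, LinearMap.fst_comp_inr]
        simp
      have hy : ψ.toLinearMap.rTensor B ((LinearMap.snd A B B).lTensor _ p) = y := by
        rw [← LinearMap.comp_apply, LinearMap.rTensor_comp_lTensor,
          ← LinearMap.lTensor_comp_rTensor, LinearMap.comp_apply, hp, map_add,
          ← LinearMap.comp_apply, ← LinearMap.comp_apply, ← LinearMap.lTensor_comp,
          ← LinearMap.lTensor_comp, LinearMap.snd_comp_inl, LinearMap.snd_comp_inr]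
        simp
      rw [← hx, ← hy]
      set p₁ := (LinearMap.fst A B B).lTensor (MvPolynomial (Fin n) A) p
      set p₂ := (LinearMap.snd A B B).lTensor (MvPolynomial (Fin n) A) p
      have e1 : ψ.toLinearMap.rTensor B p₁ * ψ.toLinearMap.rTensor B p₂ =
          ψ.toLinearMap.rTensor B (p₁ * p₂) := by
        rw [Groth.Agent.S13722.rTensor_eq_map, Groth.Agent.S13722.rTensor_eq_map,
          Groth.Agent.S13722.rTensor_eq_map, map_mul]
      rw [e1, ← PolynomialLaw.isCompat_apply', ← PolynomialLaw.isCompat_apply',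
        ← PolynomialLaw.isCompat_apply', hmul, Groth.Agent.S13722.rTensor_eq_map,
        Groth.Agent.S13722.rTensor_eq_map, Groth.Agent.S13722.rTensor_eq_map, map_mul]

theorem postcomp_postcomp {C' C'' : Type u} [AddCommGroup C'] [Module A C'] [AddCommGroup C'']
    [Module A C''] {M : Type u} [AddCommGroup M] [Module A M] {N : Type u} [AddCommGroup N] [Module A N]
    (f : N →ₗ[A] C') (g : C' →ₗ[A] C'') (F : M →ₚₗ[A] N) :
    PolLaw.postcomp g (PolLaw.postcomp f F) = PolLaw.postcomp (g ∘ₗ f) F := by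
  apply PolynomialLaw.ext
  funext S _ _ x
  show g.lTensor S (f.lTensor S (F.toFun' S x)) = (g ∘ₗ f).lTensor S (F.toFun' S x)
  rw [LinearMap.lTensor_comp, LinearMap.comp_apply]

theorem postcomp_id {M : Type u} [AddCommGroup M] [Module A M] {N : Type u} [AddCommGroup N]
    [Module A N] (F : M →ₚₗ[A] N) : PolLaw.postcomp LinearMap.id F = F := by
  apply PolynomialLaw.ext
  funext S _ _ x
  show (LinearMap.id : N →ₗ[A] N).lTensor S (F.toFun' S x) = F.toFun' S x
  rw [LinearMap.lTensor_id, LinearMap.id_apply]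

/-- a subalgebra of `Γ^d(B)` through which the universal law factors (over polynomial rings)
is everything -/
theorem subalgebra_eq_top_of_isGammaD (γ : PolLaw.MulLaw A B C d) (hγ : PolLaw.IsGammaD γ)
    (C₁ : Subalgebra A C)
    (h : ∀ (n : ℕ) (x : MvPolynomial (Fin n) A ⊗[A] B), γ.law.toFun' _ x ∈
      LinearMap.range (C₁.val.toLinearMap.lTensor (MvPolynomial (Fin n) A))) :
    C₁ = ⊤ := by
  obtain ⟨γ₁, hγ₁⟩ := exists_law_into_subalgebra γ C₁ h
  obtain ⟨f, hf, -⟩ := hγ C₁ γ₁
  obtain ⟨g, -, hg⟩ := hγ C γ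
  have h1 : (C₁.val.comp f) = g := by
    apply hg
    show PolLaw.postcomp (C₁.val.comp f).toLinearMap γ.law = γ.law
    rw [AlgHom.comp_toLinearMap, ← postcomp_postcomp, hf, hγ₁]
  have h2 : AlgHom.id A C = g := by
    apply hg
    show PolLaw.postcomp (AlgHom.id A C).toLinearMap γ.law = γ.law
    exact postcomp_id γ.law
  rw [eq_top_iff]
  intro c _
  have : c = C₁.val (f c) := by
    have := congrArg (fun φ : C →ₐ[A] C => φ c) (h2.trans h1.symm)
    exact this
  rw [this]
  exact (f c).2

end G3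


section G4

variable {A : Type u} [CommRing A] {B : Type u} [CommRing B] [Algebra A B]
  {C : Type u} [CommRing C] [Algebra A C] {d : ℕ}

theorem toFun'_mem_range_subalgebra (γ : B →ₚₗ[A] C) (C₁ : Subalgebra A C)
    (hC₁ : ∀ (Λ : Finset B) (ν : B →₀ ℕ), cf γ (fun b => b) Λ ν ∈ C₁)
    (S : Type u) [CommSemiring S] [Algebra A S] (x : S ⊗[A] B) :
    γ.toFun' S x ∈ LinearMap.range (C₁.val.toLinearMap.lTensor S) := by
  obtain ⟨a, rfl⟩ := exists_repr_id x
  rw [spadeN γ (fun b => b) a.support (fun i => a i)]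
  refine Submodule.sum_mem _ fun ν _ => ?_
  exact ⟨(ν.prod fun i n => a i ^ n) ⊗ₜ[A] ⟨_, hC₁ a.support ν⟩, rfl⟩

/-- **Generation**: the algebra `Γ^d_A(B)` is spanned, as an `A`-module, by the coefficients of
its universal law. -/
theorem coefSpan_eq_top (γ : PolLaw.MulLaw A B C d) (hγ : PolLaw.IsGammaD γ) :
    coefSpan γ.law = ⊤ := by
  have h := subalgebra_eq_top_of_isGammaD γ hγ
    (coefAlg γ.law (γ.mult A).1 (fun S _ _ => (γ.mult S).2))
    (fun n x => toFun'_mem_range_subalgebra γ.law _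
      (fun Λ ν => cf_mem_coefSpan γ.law Λ ν) _ x)
  have h2 := congrArg Subalgebra.toSubmodule h
  rw [coefAlg, Submodule.toSubalgebra_toSubmodule, Algebra.top_toSubmodule] at h2
  exact h2

end G4

end Groth.Agent.H14Lib.CH
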