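import Mathlib
import Groth.Agent.H14Lib.GamN6
import Groth.Agent.H14Lib.GammaGen

/-!
# Symmetrizations lie in the coefficient algebra of the tensor power law
-/

set_option autoImplicit false
universe u
open scoped TensorProduct

namespace Groth.Agent.H14Lib.GamN

open Groth.Agent.H14Lib.CH MvPolynomial

section Mem

variable {A : Type u} [CommRing A] {P : Type u} [CommRing P] [Algebra A P] {d : ℕ}

theorem kap_mem_range' {C : Type u} [AddCommGroup C] [Module A C] {C₁ : Submodule A C} {ρ : Type*}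
    (μ : ρ →₀ ℕ) {S' : Type u} [CommRing S'] [Algebra A S']
    {z : MvPolynomial ρ S' ⊗[A] C}
    (hz : z ∈ LinearMap.range (C₁.subtype.lTensor (MvPolynomial ρ S'))) :
    kap (A := A) S' ρ C μ z ∈ LinearMap.range (C₁.subtype.lTensor S') := by
  obtain ⟨w, rfl⟩ := hz
  exact ⟨kap (A := A) S' ρ C₁ μ w, (kap_lTensor _ _ _).symm⟩

/-- the sum of the pure tensors `c ∘ f`, `f` of a given type, is a coefficient of the tensor
power law -/
theorem sum_typ_eq (c : Fin d → P) (m : Fin d →₀ ℕ) :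
    (∑ f : Fin d → Fin d with typ f = m, PiTensorProduct.tprod A (fun k => c (f k))) =
      TensorProduct.lid A _ (kap (A := A) A (Fin d) _ m
        ((SymTen.tpowLaw A P d).law.toFun' (MvPolynomial (Fin d) A)
          (∑ o : Fin d, (X o : MvPolynomial (Fin d) A) ⊗ₜ[A] c o))) := by
  classical
  rw [tpowLaw_sum, Fintype.piFinset_univ, map_sum, map_sum]
  simp only [kap_tmul, TensorProduct.lid_tmul, prod_X_typ, coeff_monomial]
  rw [Finset.sum_filter]
  refine Finset.sum_congr rfl fun f _ => ?_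
  split_ifs
  · rw [one_smul]
  · rw [zero_smul]

theorem sum_typ_mem (c : Fin d → P) (m : Fin d →₀ ℕ) :
    (∑ f : Fin d → Fin d with typ f = m, PiTensorProduct.tprod A (fun k => c (f k))) ∈
      coefSpan (SymTen.tpowLaw A P d).law := by
  rw [sum_typ_eq]
  exact lid_mem_of_mem_range (kap_mem_range' m (toFun'_mem_range _ _ _))

theorem sum_invariant_mem (n : (Fin d → Fin d) → ℕ)
    (hn : ∀ (f : Fin d → Fin d) (τ : Equiv.Perm (Fin d)), n (f ∘ τ) = n f) (c : Fin d → P) :
    (∑ f : Fin d → Fin d, n f • PiTensorProduct.tprod A (fun k => c (f k))) ∈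
      coefSpan (SymTen.tpowLaw A P d).law := by
  classical
  rw [← Finset.sum_fiberwise_of_maps_to (g := typ) (t := (Finset.univ : Finset (Fin d → Fin d)).image typ)
    (fun f _ => Finset.mem_image_of_mem _ (Finset.mem_univ f))]
  refine Submodule.sum_mem _ fun m hm => ?_
  obtain ⟨f₁, _, hf₁⟩ := Finset.mem_image.mp hm
  have : ∑ f : Fin d → Fin d with typ f = m, n f • PiTensorProduct.tprod A (fun k => c (f k)) =
      n f₁ • ∑ f : Fin d → Fin d with typ f = m, PiTensorProduct.tprod A (fun k => c (f k)) := by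
    rw [← Finset.sum_nsmul]
    refine Finset.sum_congr rfl fun f hf => ?_
    have hf' : typ f = m := (Finset.mem_filter.mp hf).2
    obtain ⟨τ, hτ⟩ := exists_perm_of_typ_eq f f₁ (hf'.trans hf₁.symm)
    rw [hτ, hn]
  rw [this]
  exact Submodule.smul_of_tower_mem _ _ (sum_typ_mem c m)

/-- the multiplicities attached to the orbit of `κ₀` -/
noncomputable def orbN {ι : Type} [Fintype ι] [DecidableEq ι] (κ₀ : Kap d ι) :
    (Fin d → Fin d) → ℕ :=
  (orbit_sum.{u} (d := d) κ₀).choose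

theorem orbN_inv {ι : Type} [Fintype ι] [DecidableEq ι] (κ₀ : Kap d ι) (f : Fin d → Fin d)
    (τ : Equiv.Perm (Fin d)) : orbN.{u} κ₀ (f ∘ τ) = orbN.{u} κ₀ f :=
  (orbit_sum.{u} (d := d) κ₀).choose_spec.1 f τ

open Classical in
theorem symmLaw_decomp {ι : Type} [Fintype ι] [DecidableEq ι] (S : Type u) [CommSemiring S]
    [Algebra A S] (s : ι → S) (c : ι → Fin d → P) :
    (SymTen.symmLaw A P d).law.toFun' S (∑ l, s l ⊗ₜ[A] PiTensorProduct.tprod A (c l)) =
      ∑ xbar ∈ (Finset.univ : Finset (Kap d ι)).image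
          (Quotient.mk (MulAction.orbitRel (Equiv.Perm (Fin d)) (Kap d ι))),
        (∏ σ, s (xbar.out σ)) ⊗ₜ[A] ∑ f : Fin d → Fin d,
          orbN.{u} xbar.out f • PiTensorProduct.tprod A (fun k => Cc c xbar.out (f k)) := by
  rw [symmLaw_sum]
  show ∑ κ : Kap d ι, (∏ σ, s (κ σ)) ⊗ₜ[A] (PiTensorProduct.tprod A (Cc c κ)) = _
  rw [Finset.sum_partition (MulAction.orbitRel (Equiv.Perm (Fin d)) (Kap d ι))]
  refine Finset.sum_congr rfl fun xbar _ => ?_
  set κ₀ := xbar.out with hκ₀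
  have hx : xbar = Quotient.mk _ κ₀ := (Quotient.out_eq xbar).symm
  have hfil : (Finset.univ.filter (fun y : Kap d ι =>
      (Quotient.mk (MulAction.orbitRel (Equiv.Perm (Fin d)) (Kap d ι)) y) = xbar)) =
      Finset.univ.filter (fun κ => κ ∈ MulAction.orbit (Equiv.Perm (Fin d)) κ₀) := by
    ext y
    simp only [Finset.mem_filter, Finset.mem_univ, true_and]
    rw [hx, Quotient.eq]
    exact MulAction.orbitRel_apply
  rw [hfil]
  have h1 : ∑ κ ∈ Finset.univ.filter (fun κ => κ ∈ MulAction.orbit (Equiv.Perm (Fin d)) κ₀),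
        (∏ σ, s (κ σ)) ⊗ₜ[A] (PiTensorProduct.tprod A (Cc c κ)) =
      (∏ σ, s (κ₀ σ)) ⊗ₜ[A]
        (∑ κ ∈ Finset.univ.filter (fun κ => κ ∈ MulAction.orbit (Equiv.Perm (Fin d)) κ₀),
          PiTensorProduct.tprod A (Cc c κ)) := by
    rw [TensorProduct.tmul_sum]
    refine Finset.sum_congr rfl fun κ hκ => ?_
    obtain ⟨t, rfl⟩ := MulAction.mem_orbit_iff.mp (Finset.mem_filter.mp hκ).2
    rw [prod_smul]
  rw [h1]
  congr 1
  exact (orbit_sum.{u} (d := d) κ₀).choose_spec.2 (Cc c) (Cc_smul c)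
    (fun g => PiTensorProduct.tprod A g)

open Classical in
/-- symmetrizations come from `S ⊗ 𝒜` for any subalgebra `𝒜` containing the coefficients of the
tensor power law -/
theorem symmLaw_mem (𝒜 : Subalgebra A (⨂[A] _ : Fin d, P))
    (h𝒜 : coefSpan (SymTen.tpowLaw A P d).law ≤ Subalgebra.toSubmodule 𝒜)
    (S : Type u) [CommRing S] [Algebra A S] (z : S ⊗[A] (⨂[A] _ : Fin d, P)) :
    ∃ y₀ : S ⊗[A] 𝒜, Algebra.TensorProduct.map (AlgHom.id S S) 𝒜.val y₀ =
      (SymTen.symmLaw A P d).law.toFun' S z := by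
  obtain ⟨ι, _, s, c, _, rfl⟩ := isSumOf_all z
  rw [symmLaw_decomp]
  have : ∀ (T : Finset (Quotient (MulAction.orbitRel (Equiv.Perm (Fin d)) (Kap d ι)))),
      ∃ y₀ : S ⊗[A] 𝒜, Algebra.TensorProduct.map (AlgHom.id S S) 𝒜.val y₀ =
      ∑ xbar ∈ T, (∏ σ, s (xbar.out σ)) ⊗ₜ[A] ∑ f : Fin d → Fin d,
          orbN.{u} xbar.out f • PiTensorProduct.tprod A (fun k => Cc c xbar.out (f k)) := by
    intro T
    induction T using Finset.induction_on with
    | empty => exact ⟨0, by simp⟩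
    | insert a T ha ih =>
      obtain ⟨y₁, hy₁⟩ := ih
      have hmem := h𝒜 (sum_invariant_mem (orbN.{u} a.out) (orbN_inv a.out) (Cc c a.out))
      refine ⟨(∏ σ, s (a.out σ)) ⊗ₜ[A] ⟨_, hmem⟩ + y₁, ?_⟩
      rw [map_add, hy₁, Finset.sum_insert ha, Algebra.TensorProduct.map_tmul]
      rfl
  exact this _

end Mem

end Groth.Agent.H14Lib.GamN
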