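import Mathlib
import Groth.Agent.H14Lib.GamN7

/-!
# The algebra map from the coefficient algebra of the tensor power law of the cover to `Γ^d(B)`
-/

set_option autoImplicit false
universe u
open scoped TensorProduct

namespace Groth.Agent.H14Lib.GamN

open Groth.Agent.H14Lib.CH MvPolynomial

section Aux

variable {A : Type u} [CommRing A]

theorem lid_lTensor'' {N N' : Type u} [AddCommGroup N] [Module A N]
    [AddCommGroup N'] [Module A N'] (f : N →ₗ[A] N') (z : A ⊗[A] N) :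
    TensorProduct.lid A N' (f.lTensor A z) = f (TensorProduct.lid A N z) := by
  induction z using TensorProduct.induction_on with
  | zero => simp
  | tmul a n => simp
  | add x y hx hy => simp only [map_add, hx, hy]

theorem map_cf {M N N' : Type u} [AddCommGroup M] [Module A M] [AddCommGroup N] [Module A N]
    [AddCommGroup N'] [Module A N'] {I : Type u} (f : N →ₗ[A] N') (G : M →ₚₗ[A] N) (e : I → M)
    (Λ : Finset I) (ν : I →₀ ℕ) :
    f (cf G e Λ ν) = TensorProduct.lid A N' (kap (A := A) A I N' ν (f.lTensor _ (gval G e Λ))) := by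
  rw [cf, ← lid_lTensor'', ← kap_lTensor]

theorem double_sum_ext {N : Type u} [AddCommGroup N] [Module A N] {J : Type u}
    (T T' : Finset (J →₀ ℕ)) (f₁ f₂ : (J →₀ ℕ) → (J →₀ ℕ) → N)
    (h : ∑ ν ∈ T, ∑ ν' ∈ T', (monomial (ν.mapDomain Sum.inl + ν'.mapDomain Sum.inr) (1 : A) :
          MvPolynomial (J ⊕ J) A) ⊗ₜ[A] f₁ ν ν' =
        ∑ ν ∈ T, ∑ ν' ∈ T', (monomial (ν.mapDomain Sum.inl + ν'.mapDomain Sum.inr) (1 : A) :
          MvPolynomial (J ⊕ J) A) ⊗ₜ[A] f₂ ν ν')
    {ν₀ ν₀' : J →₀ ℕ} (h₀ : ν₀ ∈ T) (h₀' : ν₀' ∈ T') : f₁ ν₀ ν₀' = f₂ ν₀ ν₀' := by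
  classical
  have key : ∀ f : (J →₀ ℕ) → (J →₀ ℕ) → N,
      TensorProduct.lid A N (kap (A := A) A (J ⊕ J) N
        (ν₀.mapDomain Sum.inl + ν₀'.mapDomain Sum.inr)
        (∑ ν ∈ T, ∑ ν' ∈ T', (monomial (ν.mapDomain Sum.inl + ν'.mapDomain Sum.inr) (1 : A) :
          MvPolynomial (J ⊕ J) A) ⊗ₜ[A] f ν ν')) = f ν₀ ν₀' := by
    intro f
    simp only [map_sum, kap_tmul, coeff_monomial, TensorProduct.lid_tmul]
    rw [Finset.sum_eq_single ν₀]
    · rw [Finset.sum_eq_single ν₀']
      · rw [if_pos rfl, one_smul]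
      · intro ν' _ hν'
        rw [if_neg (fun h => hν' (enc_sum_inj h).2), zero_smul]
      · intro h; exact absurd h₀' h
    · intro ν _ hν
      refine Finset.sum_eq_zero fun ν' _ => ?_
      rw [if_neg (fun h => hν (enc_sum_inj h).1), zero_smul]
    · intro h; exact absurd h₀ h
  rw [← key f₁, ← key f₂, h]

end Aux

section K

variable {A : Type u} [CommRing A] {B : Type u} [CommRing B] [Algebra A B]
  {C : Type u} [CommRing C] [Algebra A C] {d : ℕ}
  {P : Type u} [CommRing P] [Algebra A P] {I : Type u}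

/-- the coefficient algebra of the tensor power law -/
noncomputable def cAlg (A : Type u) [CommRing A] (P : Type u) [CommRing P] [Algebra A P] (d : ℕ) :
    Subalgebra A (⨂[A] _ : Fin d, P) :=
  coefAlg (SymTen.tpowLaw A P d).law ((SymTen.tpowLaw A P d).mult A).1
    (fun S _ _ => ((SymTen.tpowLaw A P d).mult S).2)

theorem cAlg_toSubmodule :
    Subalgebra.toSubmodule (cAlg A P d) = coefSpan (SymTen.tpowLaw A P d).law := by
  rw [cAlg, coefAlg, Submodule.toSubalgebra_toSubmodule]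

theorem mem_cAlg_iff (a : ⨂[A] _ : Fin d, P) :
    a ∈ cAlg A P d ↔ a ∈ coefSpan (SymTen.tpowLaw A P d).law := by
  rw [← cAlg_toSubmodule]; rfl

variable (γ : PolLaw.MulLaw A B C d) (bas : Module.Basis I A P) (q : P →ₐ[A] B)

set_option maxHeartbeats 1600000 in
theorem pit_mul_cf (Λ Λ' : Finset P) (ν ν' : P →₀ ℕ) :
    pit γ.law bas q d (cf (SymTen.tpowLaw A P d).law (fun p => p) Λ ν *
        cf (SymTen.tpowLaw A P d).law (fun p => p) Λ' ν') =
      pit γ.law bas q d (cf (SymTen.tpowLaw A P d).law (fun p => p) Λ ν) *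
        pit γ.law bas q d (cf (SymTen.tpowLaw A P d).law (fun p => p) Λ' ν') := by
  classical
  set τ := (SymTen.tpowLaw A P d).law with hτdef
  by_cases hν : ν ∈ cfsupp τ (fun p => p) Λ
  swap
  · rw [cf_eq_zero _ _ _ hν, zero_mul, map_zero, zero_mul]
  by_cases hν' : ν' ∈ cfsupp τ (fun p => p) Λ'
  swap
  · rw [cf_eq_zero _ _ _ hν', mul_zero, map_zero, mul_zero]
  set u : MvPolynomial (P ⊕ P) A ⊗[A] P := ∑ p ∈ Λ, (X (Sum.inl p) : MvPolynomial (P ⊕ P) A) ⊗ₜ[A] p with hu
  set u' : MvPolynomial (P ⊕ P) A ⊗[A] P := ∑ p ∈ Λ', (X (Sum.inr p) : MvPolynomial (P ⊕ P) A) ⊗ₜ[A] p with hu'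
  have hmul := ((SymTen.tpowLaw A P d).mult (MvPolynomial (P ⊕ P) A)).2 u u'
  have h1 : (pit γ.law bas q d).lTensor (MvPolynomial (P ⊕ P) A) (τ.toFun' (MvPolynomial (P ⊕ P) A) u * τ.toFun' (MvPolynomial (P ⊕ P) A) u') =
      (pit γ.law bas q d).lTensor (MvPolynomial (P ⊕ P) A) (τ.toFun' (MvPolynomial (P ⊕ P) A) u) * (pit γ.law bas q d).lTensor (MvPolynomial (P ⊕ P) A) (τ.toFun' (MvPolynomial (P ⊕ P) A) u') := by
    rw [← hmul, pit_tpowLaw γ.law γ.homog, pit_tpowLaw γ.law γ.homog, pit_tpowLaw γ.law γ.homog,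
      PolLaw.lTensor_algHom_apply, map_mul, (γ.mult (MvPolynomial (P ⊕ P) A)).2, ← PolLaw.lTensor_algHom_apply,
      ← PolLaw.lTensor_algHom_apply]
  have e1 : τ.toFun' (MvPolynomial (P ⊕ P) A) u = ∑ ν ∈ cfsupp τ (fun p => p) Λ,
      (monomial (ν.mapDomain Sum.inl) (1 : A) : MvPolynomial (P ⊕ P) A) ⊗ₜ[A] cf τ (fun p => p) Λ ν := by
    rw [hu, spadeN τ (fun p => p) Λ (fun p => (X (Sum.inl p) : MvPolynomial (P ⊕ P) A))]
    simp only [prod_X_comp_pow (A := A) (Sum.inl : P → P ⊕ P) Sum.inl_injective]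
  have e2 : τ.toFun' (MvPolynomial (P ⊕ P) A) u' = ∑ ν ∈ cfsupp τ (fun p => p) Λ',
      (monomial (ν.mapDomain Sum.inr) (1 : A) : MvPolynomial (P ⊕ P) A) ⊗ₜ[A] cf τ (fun p => p) Λ' ν := by
    rw [hu', spadeN τ (fun p => p) Λ' (fun p => (X (Sum.inr p) : MvPolynomial (P ⊕ P) A))]
    simp only [prod_X_comp_pow (A := A) (Sum.inr : P → P ⊕ P) Sum.inr_injective]
  rw [e1, e2] at h1
  simp only [Finset.sum_mul_sum, map_sum, Algebra.TensorProduct.tmul_mul_tmul,
    LinearMap.lTensor_tmul, monomial_mul, mul_one] at h1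
  exact double_sum_ext _ _
    (fun ν ν' => pit γ.law bas q d (cf τ (fun p => p) Λ ν * cf τ (fun p => p) Λ' ν'))
    (fun ν ν' => pit γ.law bas q d (cf τ (fun p => p) Λ ν) *
      pit γ.law bas q d (cf τ (fun p => p) Λ' ν')) h1 hν hν'

theorem pit_mul {a a' : ⨂[A] _ : Fin d, P} (ha : a ∈ coefSpan (SymTen.tpowLaw A P d).law)
    (ha' : a' ∈ coefSpan (SymTen.tpowLaw A P d).law) :
    pit γ.law bas q d (a * a') = pit γ.law bas q d a * pit γ.law bas q d a' := by
  induction ha using Submodule.span_induction with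
  | mem x hx =>
    obtain ⟨Λ, ν, rfl⟩ := hx
    induction ha' using Submodule.span_induction with
    | mem y hy =>
      obtain ⟨Λ', ν', rfl⟩ := hy
      exact pit_mul_cf γ bas q Λ Λ' ν ν'
    | zero => simp
    | add y z _ _ hy hz => rw [mul_add, map_add, hy, hz, map_add, mul_add]
    | smul a y _ hy => rw [mul_smul_comm, map_smul, hy, map_smul, mul_smul_comm]
  | zero => simp
  | add y z _ _ hy hz => rw [add_mul, map_add, hy, hz, map_add, add_mul]
  | smul a y _ hy => rw [smul_mul_assoc, map_smul, hy, map_smul, smul_mul_assoc]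

theorem pit_one : pit γ.law bas q d 1 = 1 := by
  have h := pit_tpowLaw γ.law γ.homog bas q A (1 : A ⊗[A] P)
  rw [((SymTen.tpowLaw A P d).mult A).1, PolLaw.lTensor_algHom_apply,
    map_one (Algebra.TensorProduct.map (AlgHom.id A A) q), (γ.mult A).1,
    Algebra.TensorProduct.one_def, LinearMap.lTensor_tmul] at h
  have := congrArg (TensorProduct.lid A C) h
  rw [TensorProduct.lid_tmul, one_smul] at this
  rw [this, Algebra.TensorProduct.one_def, TensorProduct.lid_tmul, one_smul]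

/-- the algebra map `𝒜 → C` -/
noncomputable def piA : cAlg A P d →ₐ[A] C :=
  AlgHom.ofLinearMap ((pit γ.law bas q d).comp (cAlg A P d).val.toLinearMap)
    (pit_one γ bas q)
    (fun x y => pit_mul γ bas q ((mem_cAlg_iff _).mp x.2) ((mem_cAlg_iff _).mp y.2))

theorem piA_apply (a : cAlg A P d) : piA γ bas q a = pit γ.law bas q d a.1 := rfl

theorem pit_val (S : Type u) [CommSemiring S] [Algebra A S] (y₀ : S ⊗[A] cAlg A P d) :
    (pit γ.law bas q d).lTensor S (Algebra.TensorProduct.map (AlgHom.id S S) (cAlg A P d).val y₀) =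
      Algebra.TensorProduct.map (AlgHom.id S S) (piA γ bas q) y₀ := by
  induction y₀ using TensorProduct.induction_on with
  | zero => simp
  | tmul s a => rfl
  | add x y hx hy => simp only [map_add, hx, hy]

end K

section V

variable {A : Type u} [CommRing A] {B : Type u} [CommRing B] [Algebra A B]
  {C : Type u} [CommRing C] [Algebra A C] {d : ℕ}
  {P : Type u} [CommRing P] [Algebra A P] {I : Type u}
  (γ : PolLaw.MulLaw A B C d) (bas : Module.Basis I A P) (q : P →ₐ[A] B)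

theorem v_law (v : C →ₗ[A] (⨂[A] _ : Fin d, B))
    (hv : ∀ (S : Type u) [CommSemiring S] [Algebra A S] (n : ℕ) (s : Fin n → S) (b : Fin n → B),
      v.lTensor S (γ.law.toFun' S (∑ j, s j ⊗ₜ[A] b j)) =
        ∑ c : Fin d → Fin n, (∏ i, s (c i)) ⊗ₜ[A] PiTensorProduct.tprod A (fun i => b (c i)))
    (S : Type u) [CommSemiring S] [Algebra A S] (w : S ⊗[A] B) :
    v.lTensor S (γ.law.toFun' S w) = (SymTen.tpowLaw A B d).law.toFun' S w := by
  classical
  obtain ⟨a, rfl⟩ := exists_repr_id w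
  have hgen : (∑ m ∈ a.support, a m ⊗ₜ[A] m) =
      ∑ j : Fin a.support.card, a (a.support.equivFin.symm j : B) ⊗ₜ[A]
        ((a.support.equivFin.symm j : B)) := by
    rw [← Finset.sum_coe_sort a.support]
    exact (Equiv.sum_comp a.support.equivFin.symm
      (fun i : a.support => a (i : B) ⊗ₜ[A] (i : B))).symm
  rw [hgen, hv]
  have := tpowLaw_sum (A := A) (P := B) (d := d) S (Finset.univ : Finset (Fin a.support.card))
    (fun j => a (a.support.equivFin.symm j : B)) (fun j => (a.support.equivFin.symm j : B))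
  rw [this, Fintype.piFinset_univ]

theorem tmap_tpowLaw (S : Type u) [CommSemiring S] [Algebra A S] (z : S ⊗[A] P) :
    (SymTen.tmap A d q).toLinearMap.lTensor S ((SymTen.tpowLaw A P d).law.toFun' S z) =
      (SymTen.tpowLaw A B d).law.toFun' S (q.toLinearMap.lTensor S z) := by
  obtain ⟨a, rfl⟩ := exists_repr_id z
  rw [tpowLaw_sum, map_sum, map_sum]
  simp only [LinearMap.lTensor_tmul, AlgHom.toLinearMap_apply, SymTen.tmap_tprod]
  rw [tpowLaw_sum]

theorem v_pit_tpowLaw (v : C →ₗ[A] (⨂[A] _ : Fin d, B))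
    (hv : ∀ (S : Type u) [CommSemiring S] [Algebra A S] (n : ℕ) (s : Fin n → S) (b : Fin n → B),
      v.lTensor S (γ.law.toFun' S (∑ j, s j ⊗ₜ[A] b j)) =
        ∑ c : Fin d → Fin n, (∏ i, s (c i)) ⊗ₜ[A] PiTensorProduct.tprod A (fun i => b (c i)))
    (S : Type u) [CommSemiring S] [Algebra A S] (z : S ⊗[A] P) :
    v.lTensor S ((pit γ.law bas q d).lTensor S ((SymTen.tpowLaw A P d).law.toFun' S z)) =
      (SymTen.tmap A d q).toLinearMap.lTensor S ((SymTen.tpowLaw A P d).law.toFun' S z) := by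
  rw [pit_tpowLaw γ.law γ.homog, v_law γ v hv, tmap_tpowLaw]

theorem v_pit (v : C →ₗ[A] (⨂[A] _ : Fin d, B))
    (hv : ∀ (S : Type u) [CommSemiring S] [Algebra A S] (n : ℕ) (s : Fin n → S) (b : Fin n → B),
      v.lTensor S (γ.law.toFun' S (∑ j, s j ⊗ₜ[A] b j)) =
        ∑ c : Fin d → Fin n, (∏ i, s (c i)) ⊗ₜ[A] PiTensorProduct.tprod A (fun i => b (c i)))
    {a : ⨂[A] _ : Fin d, P} (ha : a ∈ coefSpan (SymTen.tpowLaw A P d).law) :
    v (pit γ.law bas q d a) = SymTen.tmap A d q a := by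
  induction ha using Submodule.span_induction with
  | mem x hx =>
    obtain ⟨Λ, ν, rfl⟩ := hx
    have h1 := map_cf (v.comp (pit γ.law bas q d)) (SymTen.tpowLaw A P d).law (fun p => p) Λ ν
    have h2 := map_cf (SymTen.tmap A d q).toLinearMap (SymTen.tpowLaw A P d).law (fun p => p) Λ ν
    rw [LinearMap.comp_apply] at h1
    rw [AlgHom.toLinearMap_apply] at h2
    rw [h1, h2, LinearMap.lTensor_comp, LinearMap.comp_apply, gval, v_pit_tpowLaw γ bas q v hv]
  | zero => simp
  | add y z _ _ hy hz => rw [map_add, map_add, hy, hz, map_add]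
  | smul a y _ hy => rw [map_smul, map_smul, hy, map_smul]

theorem perm_comp_single (σ : Equiv.Perm (Fin d)) (k : Fin d) :
    (SymTen.perm A P d σ).comp (PiTensorProduct.singleAlgHom (R := A) (A := fun _ : Fin d => P) k) =
      PiTensorProduct.singleAlgHom (R := A) (A := fun _ : Fin d => P) (σ k) := by
  ext a
  simp only [AlgHom.comp_apply, PiTensorProduct.singleAlgHom_apply, SymTen.perm_tprod]
  congr 1
  funext i
  simp only [MonoidHom.mulSingle_apply]
  by_cases h : i = σ k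
  · subst h; simp
  · rw [Pi.mulSingle_eq_of_ne h, Pi.mulSingle_eq_of_ne]
    intro h'
    apply h
    rw [← h']
    simp

theorem perm_tpowLaw (σ : Equiv.Perm (Fin d)) (S : Type u) [CommSemiring S] [Algebra A S]
    (z : S ⊗[A] P) :
    Algebra.TensorProduct.map (AlgHom.id S S) (SymTen.perm A P d σ)
        ((SymTen.tpowLaw A P d).law.toFun' S z) = (SymTen.tpowLaw A P d).law.toFun' S z := by
  rw [SymTen.tpowLaw, PolLaw.MulLaw.prodMap_toFun', map_prod]
  conv_rhs => rw [← Equiv.prod_comp σ]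
  refine Finset.prod_congr rfl fun k _ => ?_
  rw [← AlgHom.comp_apply, ← Algebra.TensorProduct.map_comp, AlgHom.comp_id, perm_comp_single]

theorem perm_mem (σ : Equiv.Perm (Fin d)) {a : ⨂[A] _ : Fin d, P}
    (ha : a ∈ coefSpan (SymTen.tpowLaw A P d).law) : SymTen.perm A P d σ a = a := by
  induction ha using Submodule.span_induction with
  | mem x hx =>
    obtain ⟨Λ, ν, rfl⟩ := hx
    have h1 := map_cf (SymTen.perm A P d σ).toLinearMap (SymTen.tpowLaw A P d).law (fun p => p) Λ ν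
    rw [AlgHom.toLinearMap_apply] at h1
    rw [h1, PolLaw.lTensor_algHom_apply, gval, perm_tpowLaw]
    rfl
  | zero => simp
  | add y z _ _ hy hz => rw [map_add, hy, hz]
  | smul a y _ hy => rw [map_smul, hy]

end V

end Groth.Agent.H14Lib.GamN
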