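import Mathlib
import Groth.Agent.H14Lib.GamN8

/-!
# The norm law `T^d(B) → Γ^d(B)` of degree `d!`
-/

set_option autoImplicit false
universe u
open scoped TensorProduct

namespace Groth.Agent.H14Lib.GamN

open Groth.Agent.H14Lib.CH MvPolynomial

section Transfer

variable {A : Type u} [CommRing A] {B : Type u} [CommRing B] [Algebra A B]
  {C : Type u} [CommRing C] [Algebra A C]

/-- a law which is multiplicative and homogeneous over polynomial rings is so everywhere -/
theorem mulLaw_of_poly (F : B →ₚₗ[A] C) (d : ℕ)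
    (hone : ∀ n, F.toFun' (MvPolynomial (Fin n) A) 1 = 1)
    (hmul : ∀ n (p q : MvPolynomial (Fin n) A ⊗[A] B),
      F.toFun' _ (p * q) = F.toFun' _ p * F.toFun' _ q)
    (hhom : ∀ n (r : MvPolynomial (Fin n) A) (p : MvPolynomial (Fin n) A ⊗[A] B),
      F.toFun' _ (r • p) = r ^ d • F.toFun' _ p) :
    PolLaw.IsHomog F d ∧ PolLaw.IsMult F := by
  refine ⟨?_, ?_⟩
  · intro S _ _ s x
    obtain ⟨n, ψ, p, r, hp, hr⟩ := PolynomialLaw.exists_lift' (R := A) x s
    rw [← hp, ← hr, ← rTensor_smul', ← PolynomialLaw.isCompat_apply', hhom,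
      rTensor_smul', map_pow, PolynomialLaw.isCompat_apply']
  · intro S _ _
    constructor
    · have h0 := PolynomialLaw.isCompat_apply' (f := F)
        (aeval (fun i : Fin 0 => (i.elim0 : S)) : MvPolynomial (Fin 0) A →ₐ[A] S) 1
      rw [hone 0, Groth.Agent.S13722.rTensor_eq_map, Groth.Agent.S13722.rTensor_eq_map, map_one,
        map_one] at h0
      exact h0.symm
    · intro x y
      obtain ⟨n, ψ, p, hp⟩ := PolynomialLaw.exists_lift (R := A) (M := B × B) (S := S)
        ((LinearMap.inl A B B).lTensor S x + (LinearMap.inr A B B).lTensor S y)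
      have hx : ψ.toLinearMap.rTensor B ((LinearMap.fst A B B).lTensor _ p) = x := by
        rw [← LinearMap.comp_apply, LinearMap.rTensor_comp_lTensor,
          ← LinearMap.lTensor_comp_rTensor, LinearMap.comp_apply, hp, map_add,
          ← LinearMap.comp_apply, ← LinearMap.comp_apply, ← LinearMap.lTensor_comp,
          ← LinearMap.lTensor_comp, LinearMap.fst_comp_inl, LinearMap.fst_comp_inr]
        simp
      have hy : ψ.toLinearMap.rTensor B ((LinearMap.snd A B B).lTensor _ p) = y := by
        rw [← LinearMap.comp_apply, LinearMap.rTensor_comp_lTensor,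
          ← LinearMap.lTensor_comp_rTensor, LinearMap.comp_apply, hp, map_add,
          ← LinearMap.comp_apply, ← LinearMap.comp_apply, ← LinearMap.lTensor_comp,
          ← LinearMap.lTensor_comp, LinearMap.snd_comp_inl, LinearMap.snd_comp_inr]
        simp
      rw [← hx, ← hy]
      set p₁ := (LinearMap.fst A B B).lTensor (MvPolynomial (Fin n) A) p
      set p₂ := (LinearMap.snd A B B).lTensor (MvPolynomial (Fin n) A) p
      have e1 : ψ.toLinearMap.rTensor B p₁ * ψ.toLinearMap.rTensor B p₂ =
          ψ.toLinearMap.rTensor B (p₁ * p₂) := by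
        rw [Groth.Agent.S13722.rTensor_eq_map, Groth.Agent.S13722.rTensor_eq_map,
          Groth.Agent.S13722.rTensor_eq_map, map_mul]
      rw [e1, ← PolynomialLaw.isCompat_apply', ← PolynomialLaw.isCompat_apply',
        ← PolynomialLaw.isCompat_apply', hmul, Groth.Agent.S13722.rTensor_eq_map,
        Groth.Agent.S13722.rTensor_eq_map, Groth.Agent.S13722.rTensor_eq_map, map_mul]

end Transfer

section Main

variable {A : Type u} [CommRing A] {B : Type u} [CommRing B] [Algebra A B]
  {C : Type u} [CommRing C] [Algebra A C] {d : ℕ}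
  {P : Type u} [CommRing P] [Algebra A P] {I : Type u}
  (γ : PolLaw.MulLaw A B C d) (bas : Module.Basis I A P) (q : P →ₐ[A] B)

theorem piA_surjective (hγ : PolLaw.IsGammaD γ) (hq : Function.Surjective q) :
    Function.Surjective (piA γ bas q) := by
  have htop : (piA γ bas q).range = ⊤ := by
    apply subalgebra_eq_top_of_isGammaD γ hγ
    intro n x
    obtain ⟨x', rfl⟩ := LinearMap.lTensor_surjective (MvPolynomial (Fin n) A)
      (g := q.toLinearMap) hq x
    rw [← pit_tpowLaw γ.law γ.homog bas q]
    obtain ⟨w, hw⟩ := toFun'_mem_range (SymTen.tpowLaw A P d).law (MvPolynomial (Fin n) A) x'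
    rw [← hw]
    clear hw
    induction w using TensorProduct.induction_on with
    | zero => simp
    | tmul s a =>
      refine ⟨s ⊗ₜ[A] ⟨pit γ.law bas q d a.1, ⟨⟨a.1, (mem_cAlg_iff _).mpr a.2⟩, rfl⟩⟩, ?_⟩
      rfl
    | add x y hx hy =>
      rw [map_add, map_add]
      exact Submodule.add_mem _ hx hy
  intro c
  have : c ∈ (piA γ bas q).range := by rw [htop]; trivial
  exact this

theorem v_piA (v : C →ₗ[A] (⨂[A] _ : Fin d, B))
    (hv : ∀ (S : Type u) [CommSemiring S] [Algebra A S] (n : ℕ) (s : Fin n → S) (b : Fin n → B),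
      v.lTensor S (γ.law.toFun' S (∑ j, s j ⊗ₜ[A] b j)) =
        ∑ c : Fin d → Fin n, (∏ i, s (c i)) ⊗ₜ[A] PiTensorProduct.tprod A (fun i => b (c i)))
    (S : Type u) [CommSemiring S] [Algebra A S] (y₀ : S ⊗[A] cAlg A P d) :
    v.lTensor S (Algebra.TensorProduct.map (AlgHom.id S S) (piA γ bas q) y₀) =
      (SymTen.tmap A d q).toLinearMap.lTensor S
        (Algebra.TensorProduct.map (AlgHom.id S S) (cAlg A P d).val y₀) := by
  induction y₀ using TensorProduct.induction_on with
  | zero => simp
  | tmul s a =>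
    simp only [Algebra.TensorProduct.map_tmul, AlgHom.id_apply, LinearMap.lTensor_tmul,
      piA_apply, AlgHom.toLinearMap_apply]
    rw [v_pit γ bas q v hv ((mem_cAlg_iff _).mp a.2)]
    rfl
  | add x y hx hy => simp only [map_add, hx, hy]

theorem perm_val (σ : Equiv.Perm (Fin d)) (S : Type u) [CommSemiring S] [Algebra A S]
    (y₀ : S ⊗[A] cAlg A P d) :
    Algebra.TensorProduct.map (AlgHom.id S S) (SymTen.perm A P d σ)
        (Algebra.TensorProduct.map (AlgHom.id S S) (cAlg A P d).val y₀) =
      Algebra.TensorProduct.map (AlgHom.id S S) (cAlg A P d).val y₀ := by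
  induction y₀ using TensorProduct.induction_on with
  | zero => simp
  | tmul s a =>
    simp only [Algebra.TensorProduct.map_tmul, AlgHom.id_apply]
    rw [show (cAlg A P d).val a = a.1 from rfl, perm_mem σ ((mem_cAlg_iff _).mp a.2)]
  | add x y hx hy => simp only [map_add, hx, hy]

theorem symmLaw_val (S : Type u) [CommSemiring S] [Algebra A S] (y₀ : S ⊗[A] cAlg A P d) :
    (SymTen.symmLaw A P d).law.toFun' S
        (Algebra.TensorProduct.map (AlgHom.id S S) (cAlg A P d).val y₀) =
      (Algebra.TensorProduct.map (AlgHom.id S S) (cAlg A P d).val y₀) ^ d.factorial := by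
  rw [SymTen.symmLaw, PolLaw.MulLaw.prodMap_toFun']
  simp only [perm_val]
  rw [Finset.prod_const, Finset.card_univ, Fintype.card_perm, Fintype.card_fin]

theorem tmap_perm (σ : Equiv.Perm (Fin d)) :
    (SymTen.tmap A d q).comp (SymTen.perm A P d σ) =
      (SymTen.perm A B d σ).comp (SymTen.tmap A d q) := by
  ext t
  simp only [AlgHom.comp_apply]
  rw [SymTen.perm_apply, SymTen.perm_apply, SymTen.tmap_reindex]

theorem tmap_symmLaw (S : Type u) [CommSemiring S] [Algebra A S]
    (z : S ⊗[A] (⨂[A] _ : Fin d, P)) :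
    (SymTen.tmap A d q).toLinearMap.lTensor S ((SymTen.symmLaw A P d).law.toFun' S z) =
      (SymTen.symmLaw A B d).law.toFun' S ((SymTen.tmap A d q).toLinearMap.lTensor S z) := by
  rw [SymTen.symmLaw, SymTen.symmLaw, PolLaw.MulLaw.prodMap_toFun', PolLaw.MulLaw.prodMap_toFun',
    PolLaw.lTensor_algHom_apply, PolLaw.lTensor_algHom_apply, map_prod]
  refine Finset.prod_congr rfl fun σ _ => ?_
  rw [← AlgHom.comp_apply, ← AlgHom.comp_apply, ← Algebra.TensorProduct.map_comp,
    ← Algebra.TensorProduct.map_comp, tmap_perm]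

end Main

end Groth.Agent.H14Lib.GamN
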