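import Mathlib
import Groth.Agent.H14Lib.GamN9

/-!
# Construction of the norm law and its two composites
-/

set_option autoImplicit false
universe u
open scoped TensorProduct

namespace Groth.Agent.H14Lib.GamN

open Groth.Agent.H14Lib.CH MvPolynomial

section Construct

variable {A : Type u} [CommRing A] {B : Type u} [CommRing B] [Algebra A B]
  {C : Type u} [CommRing C] [Algebra A C] {d : ℕ}
  {P : Type u} [CommRing P] [Algebra A P] {I : Type u}
  (γ : PolLaw.MulLaw A B C d) (bas : Module.Basis I A P) (q : P →ₐ[A] B)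
  (hq : Function.Surjective q)

include hq in
theorem Qs_surjective (S : Type u) [CommRing S] [Algebra A S] :
    Function.Surjective ((SymTen.tmap A d q).toLinearMap.lTensor S) :=
  LinearMap.lTensor_surjective S (g := (SymTen.tmap A d q).toLinearMap) (tmap_surjective d hq)

/-- the norm law on polynomial test rings, via a chosen lift to the cover -/
noncomputable def Tn (n : ℕ) (w : MvPolynomial (Fin n) A ⊗[A] (⨂[A] _ : Fin d, B)) :
    MvPolynomial (Fin n) A ⊗[A] C :=
  (pit γ.law bas q d).lTensor _ ((SymTen.symmLaw A P d).law.toFun' _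
    (Function.surjInv (Qs_surjective (d := d) q hq (MvPolynomial (Fin n) A)) w))

theorem Tn_eq (n : ℕ) (z : MvPolynomial (Fin n) A ⊗[A] (⨂[A] _ : Fin d, P)) :
    Tn γ bas q hq n ((SymTen.tmap A d q).toLinearMap.lTensor _ z) =
      (pit γ.law bas q d).lTensor _ ((SymTen.symmLaw A P d).law.toFun' _ z) := by
  unfold Tn
  apply pit_symmLaw_descent γ.law γ.homog bas q hq
  exact Function.surjInv_eq (Qs_surjective (d := d) q hq (MvPolynomial (Fin n) A)) _

theorem Tn_compat (n m : ℕ) (φ : MvPolynomial (Fin n) A →ₐ[A] MvPolynomial (Fin m) A) :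
    φ.toLinearMap.rTensor C ∘ Tn γ bas q hq n =
      Tn γ bas q hq m ∘ φ.toLinearMap.rTensor (⨂[A] _ : Fin d, B) := by
  funext w
  obtain ⟨z, rfl⟩ := Qs_surjective (d := d) q hq (MvPolynomial (Fin n) A) w
  simp only [Function.comp_apply]
  rw [Tn_eq]
  have h1 : φ.toLinearMap.rTensor (⨂[A] _ : Fin d, B)
      ((SymTen.tmap A d q).toLinearMap.lTensor _ z) =
      (SymTen.tmap A d q).toLinearMap.lTensor _ (φ.toLinearMap.rTensor _ z) := by
    rw [← LinearMap.comp_apply, ← LinearMap.comp_apply, LinearMap.rTensor_comp_lTensor,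
      LinearMap.lTensor_comp_rTensor]
  rw [h1, Tn_eq, ← LinearMap.comp_apply, LinearMap.rTensor_comp_lTensor,
    ← LinearMap.lTensor_comp_rTensor, LinearMap.comp_apply]
  congr 1
  exact PolynomialLaw.isCompat_apply' φ z

theorem pit_lTensor_one (S : Type u) [CommSemiring S] [Algebra A S] :
    (pit γ.law bas q d).lTensor S 1 = 1 := by
  rw [Algebra.TensorProduct.one_def, LinearMap.lTensor_tmul, pit_one γ bas q]
  rfl

theorem Tn_one (n : ℕ) : Tn γ bas q hq n 1 = 1 := by
  have h1 : (1 : MvPolynomial (Fin n) A ⊗[A] (⨂[A] _ : Fin d, B)) =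
      (SymTen.tmap A d q).toLinearMap.lTensor _ 1 := by
    rw [PolLaw.lTensor_algHom_apply, map_one]
  rw [h1, Tn_eq, ((SymTen.symmLaw A P d).mult _).1, pit_lTensor_one]

theorem pit_mul_symm (S : Type u) [CommRing S] [Algebra A S]
    (z z' : S ⊗[A] (⨂[A] _ : Fin d, P)) :
    (pit γ.law bas q d).lTensor S ((SymTen.symmLaw A P d).law.toFun' S z *
        (SymTen.symmLaw A P d).law.toFun' S z') =
      (pit γ.law bas q d).lTensor S ((SymTen.symmLaw A P d).law.toFun' S z) *
        (pit γ.law bas q d).lTensor S ((SymTen.symmLaw A P d).law.toFun' S z') := by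
  obtain ⟨y₀, hy₀⟩ := symmLaw_mem (cAlg A P d) (le_of_eq cAlg_toSubmodule.symm) S z
  obtain ⟨y₁, hy₁⟩ := symmLaw_mem (cAlg A P d) (le_of_eq cAlg_toSubmodule.symm) S z'
  rw [← hy₀, ← hy₁, ← map_mul, pit_val, pit_val, pit_val, map_mul]

theorem Tn_mul (n : ℕ) (w w' : MvPolynomial (Fin n) A ⊗[A] (⨂[A] _ : Fin d, B)) :
    Tn γ bas q hq n (w * w') = Tn γ bas q hq n w * Tn γ bas q hq n w' := by
  obtain ⟨z, rfl⟩ := Qs_surjective (d := d) q hq (MvPolynomial (Fin n) A) w
  obtain ⟨z', rfl⟩ := Qs_surjective (d := d) q hq (MvPolynomial (Fin n) A) w'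
  have h1 : (SymTen.tmap A d q).toLinearMap.lTensor (MvPolynomial (Fin n) A) z *
      (SymTen.tmap A d q).toLinearMap.lTensor (MvPolynomial (Fin n) A) z' =
      (SymTen.tmap A d q).toLinearMap.lTensor (MvPolynomial (Fin n) A) (z * z') := by
    rw [PolLaw.lTensor_algHom_apply, PolLaw.lTensor_algHom_apply, PolLaw.lTensor_algHom_apply,
      map_mul]
  rw [h1, Tn_eq, Tn_eq, Tn_eq, ((SymTen.symmLaw A P d).mult _).2, pit_mul_symm]

theorem Tn_smul (n : ℕ) (r : MvPolynomial (Fin n) A)
    (w : MvPolynomial (Fin n) A ⊗[A] (⨂[A] _ : Fin d, B)) :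
    Tn γ bas q hq n (r • w) = r ^ d.factorial • Tn γ bas q hq n w := by
  obtain ⟨z, rfl⟩ := Qs_surjective (d := d) q hq (MvPolynomial (Fin n) A) w
  rw [← lTensor_smul'', Tn_eq, Tn_eq, (SymTen.symmLaw A P d).homog, lTensor_smul'']

end Construct

section Exists

variable {A : Type u} [CommRing A] {B : Type u} [CommRing B] [Algebra A B]
  {C : Type u} [CommRing C] [Algebra A C] {d : ℕ}

/-- **The norm law.** There is a multiplicative law `T^d(B) → Γ^d(B)` of degree `d!` whose
composite with `Γ^d(B) → T^d(B)` is the symmetrization law, and whose composite with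
`Γ^d(B) → T^d(B)` on the other side is the `d!`-th power law. -/
theorem exists_normLaw (γ : PolLaw.MulLaw A B C d) (hγ : PolLaw.IsGammaD γ)
    (v : C →ₐ[A] (⨂[A] _ : Fin d, B))
    (hv : ∀ (S : Type u) [CommSemiring S] [Algebra A S] (n : ℕ) (s : Fin n → S) (b : Fin n → B),
      v.toLinearMap.lTensor S (γ.law.toFun' S (∑ j, s j ⊗ₜ[A] b j)) =
        ∑ c : Fin d → Fin n, (∏ i, s (c i)) ⊗ₜ[A] PiTensorProduct.tprod A (fun i => b (c i))) :
    ∃ F : PolLaw.MulLaw A (⨂[A] _ : Fin d, B) C d.factorial,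
      PolLaw.postcomp v.toLinearMap F.law = (SymTen.symmLaw A B d).law ∧
      PolLaw.precomp F.law v.toLinearMap = PolLaw.powLaw d.factorial := by
  classical
  -- the free cover
  let P := MvPolynomial B A
  let bas : Module.Basis (B →₀ ℕ) A P := MvPolynomial.basisMonomials B A
  let q : P →ₐ[A] B := MvPolynomial.aeval (fun b : B => b)
  have hq : Function.Surjective q := fun b => ⟨X b, MvPolynomial.aeval_X _ b⟩
  obtain ⟨F, hF⟩ := (Groth.Agent.S13174.result (A := A) (M := (⨂[A] _ : Fin d, B)) (N := C)).2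
    ⟨Tn γ bas q hq, Tn_compat γ bas q hq⟩
  have hFn : ∀ n, F.toFun' (MvPolynomial (Fin n) A) = Tn γ bas q hq n := fun n =>
    congr_fun (congrArg Subtype.val hF) n
  obtain ⟨hhomog, hmult⟩ := mulLaw_of_poly F d.factorial
    (fun n => by rw [hFn]; exact Tn_one γ bas q hq n)
    (fun n p p' => by rw [hFn]; exact Tn_mul γ bas q hq n p p')
    (fun n r p => by rw [hFn]; exact Tn_smul γ bas q hq n r p)
  refine ⟨⟨F, hhomog, hmult⟩, ?_, ?_⟩
  · apply (Groth.Agent.S13174.result (A := A) (M := (⨂[A] _ : Fin d, B))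
      (N := (⨂[A] _ : Fin d, B))).1
    apply Subtype.ext
    funext n w
    show v.toLinearMap.lTensor _ (F.toFun' _ w) = (SymTen.symmLaw A B d).law.toFun' _ w
    rw [hFn]
    obtain ⟨z, rfl⟩ := Qs_surjective (d := d) q hq (MvPolynomial (Fin n) A) w
    rw [Tn_eq, ← tmap_symmLaw]
    obtain ⟨y₀, hy₀⟩ := symmLaw_mem (cAlg A P d) (le_of_eq cAlg_toSubmodule.symm)
      (MvPolynomial (Fin n) A) z
    rw [← hy₀, pit_val, v_piA γ bas q v.toLinearMap hv]
  · apply (Groth.Agent.S13174.result (A := A) (M := C) (N := C)).1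
    apply Subtype.ext
    funext n x
    show F.toFun' _ (v.toLinearMap.lTensor _ x) = x ^ d.factorial
    rw [hFn]
    have hsurj : Function.Surjective
        (Algebra.TensorProduct.map (AlgHom.id (MvPolynomial (Fin n) A) (MvPolynomial (Fin n) A))
          (piA γ bas q)) := by
      intro x
      obtain ⟨y, hy⟩ := LinearMap.lTensor_surjective (MvPolynomial (Fin n) A)
        (g := (piA γ bas q).toLinearMap) (piA_surjective γ bas q hγ hq) x
      exact ⟨y, by rw [← PolLaw.lTensor_algHom_apply]; exact hy⟩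
    obtain ⟨y₀, rfl⟩ := hsurj x
    rw [v_piA γ bas q v.toLinearMap hv, Tn_eq, symmLaw_val, ← map_pow, pit_val, map_pow]

end Exists

end Groth.Agent.H14Lib.GamN
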