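import Mathlib
import Groth.Agent.H14Lib.GamN10

/-!
# Consequences of the norm law
-/

set_option autoImplicit false
universe u
open scoped TensorProduct

namespace Groth.Agent.H14Lib.GamN

open Groth.Agent.H14Lib.CH MvPolynomial

section Cons

variable {A : Type u} [CommRing A] {B : Type u} [CommRing B] [Algebra A B]
  {C : Type u} [CommRing C] [Algebra A C] {d : ℕ}

theorem symmLaw_one_tmul (z : ⨂[A] _ : Fin d, B) :
    (SymTen.symmLaw A B d).law.toFun' A (1 ⊗ₜ[A] z) =
      1 ⊗ₜ[A] ∏ σ : Equiv.Perm (Fin d), SymTen.perm A B d σ z := by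
  rw [SymTen.symmLaw, PolLaw.MulLaw.prodMap_toFun']
  simp only [Algebra.TensorProduct.map_tmul, AlgHom.id_apply]
  rw [prod_tmul', Finset.prod_const_one]

theorem normLaw_ground (F : PolLaw.MulLaw A (⨂[A] _ : Fin d, B) C d.factorial)
    (v : C →ₐ[A] (⨂[A] _ : Fin d, B))
    (h1 : PolLaw.postcomp v.toLinearMap F.law = (SymTen.symmLaw A B d).law)
    (z : ⨂[A] _ : Fin d, B) :
    v (F.law.ground z) = ∏ σ : Equiv.Perm (Fin d), SymTen.perm A B d σ z := by
  have h := congrArg (fun G : (⨂[A] _ : Fin d, B) →ₚₗ[A] (⨂[A] _ : Fin d, B) =>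
    G.toFun' A (1 ⊗ₜ[A] z)) h1
  change v.toLinearMap.lTensor A (F.law.toFun' A (1 ⊗ₜ[A] z)) =
    (SymTen.symmLaw A B d).law.toFun' A (1 ⊗ₜ[A] z) at h
  have h2 := congrArg (TensorProduct.lid A _) h
  rw [lid_lTensor'', symmLaw_one_tmul, TensorProduct.lid_tmul, one_smul] at h2
  rw [PolynomialLaw.ground_apply]
  exact h2

theorem normLaw_pow (F : PolLaw.MulLaw A (⨂[A] _ : Fin d, B) C d.factorial)
    (v : C →ₐ[A] (⨂[A] _ : Fin d, B))
    (h2 : PolLaw.precomp F.law v.toLinearMap = PolLaw.powLaw d.factorial)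
    (x : C) (hx : v x = 0) : x ^ d.factorial = 0 := by
  have h := congrArg (fun G : C →ₚₗ[A] C => G.toFun' A (1 ⊗ₜ[A] x)) h2
  change F.law.toFun' A (v.toLinearMap.lTensor A (1 ⊗ₜ[A] x)) = (1 ⊗ₜ[A] x) ^ d.factorial at h
  rw [LinearMap.lTensor_tmul, AlgHom.toLinearMap_apply, hx, TensorProduct.tmul_zero] at h
  have h0 : F.law.toFun' A 0 = 0 := by
    have := F.homog A (0 : A) 0
    rw [zero_smul, zero_pow (Nat.factorial_ne_zero d), zero_smul] at this
    exact this
  rw [h0, Algebra.TensorProduct.tmul_pow, one_pow] at h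
  have := congrArg (TensorProduct.lid A C) h
  rw [map_zero, TensorProduct.lid_tmul, one_smul] at this
  exact this.symm

theorem perm_val_TS (σ : Equiv.Perm (Fin d)) (S : Type u) [CommSemiring S] [Algebra A S]
    (y : S ⊗[A] SymTen.TS A B d) :
    Algebra.TensorProduct.map (AlgHom.id S S) (SymTen.perm A B d σ)
        ((SymTen.TS A B d).val.toLinearMap.lTensor S y) =
      (SymTen.TS A B d).val.toLinearMap.lTensor S y := by
  induction y using TensorProduct.induction_on with
  | zero => simp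
  | tmul s t =>
    simp only [LinearMap.lTensor_tmul, AlgHom.toLinearMap_apply, Algebra.TensorProduct.map_tmul,
      AlgHom.id_apply]
    rw [show (SymTen.TS A B d).val t = t.1 from rfl, SymTen.perm_apply, t.2 σ]
  | add x y hx hy => simp only [map_add, hx, hy]

theorem symmLaw_val_TS (S : Type u) [CommSemiring S] [Algebra A S]
    (y : S ⊗[A] SymTen.TS A B d) :
    (SymTen.symmLaw A B d).law.toFun' S ((SymTen.TS A B d).val.toLinearMap.lTensor S y) =
      (SymTen.TS A B d).val.toLinearMap.lTensor S (y ^ d.factorial) := by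
  rw [SymTen.symmLaw, PolLaw.MulLaw.prodMap_toFun']
  simp only [perm_val_TS]
  rw [Finset.prod_const, Finset.card_univ, Fintype.card_perm, Fintype.card_fin,
    PolLaw.lTensor_algHom_apply, PolLaw.lTensor_algHom_apply, map_pow]

end Cons

end Groth.Agent.H14Lib.GamN
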