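import Mathlib
import Groth.Agent.H14Lib.GamN11

/-!
# Symmetric tensors of a free algebra are spanned by the coefficients of the tensor power law
-/

open scoped TensorProduct

namespace Groth.Agent.H14Lib.BCk

universe u

open Groth.Agent.H14Lib.CH Groth.Agent.H14Lib.GamN MvPolynomial

section Free

variable {A : Type u} [CommRing A] {P : Type u} [CommRing P] [Algebra A P] {d : ℕ} {I : Type u}

theorem prod_X_typ' (x : Fin d → I) :
    (∏ k, (X (x k) : MvPolynomial I A)) = monomial (typ x) 1 := by
  rw [typ, monomial_sum_one]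
  rfl

theorem mem_support_of_typ [DecidableEq I] {x : Fin d → I} {ν : I →₀ ℕ} (h : typ x = ν) (k : Fin d) :
    x k ∈ ν.support := by
  rw [Finsupp.mem_support_iff, ← h, typ_apply]
  intro h0
  exact (Fintype.card_eq_zero_iff.mp h0).false ⟨k, rfl⟩

open Classical in
theorem orbit_eq (bas : Module.Basis I A P) (ν : I →₀ ℕ) :
    (∑ x ∈ (Fintype.piFinset (fun _ : Fin d => ν.support)).filter (fun x => typ x = ν),
        PiTensorProduct.tprod A (fun k => bas (x k))) =
      TensorProduct.lid A _ (kap (A := A) A I _ ν
        ((SymTen.tpowLaw A P d).law.toFun' (MvPolynomial I A)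
          (∑ i ∈ ν.support, (X i : MvPolynomial I A) ⊗ₜ[A] bas i))) := by
  rw [tpowLaw_sum, map_sum, map_sum]
  simp only [kap_tmul, TensorProduct.lid_tmul, prod_X_typ', coeff_monomial]
  rw [Finset.sum_filter]
  refine Finset.sum_congr rfl fun f _ => ?_
  split_ifs
  · rw [one_smul]
  · rw [zero_smul]

open Classical in
theorem orbit_mem (bas : Module.Basis I A P) (ν : I →₀ ℕ) :
    (∑ x ∈ (Fintype.piFinset (fun _ : Fin d => ν.support)).filter (fun x => typ x = ν),
        PiTensorProduct.tprod A (fun k => bas (x k))) ∈ coefSpan (SymTen.tpowLaw A P d).law := by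
  rw [orbit_eq]
  exact lid_mem_of_mem_range (kap_mem_range' ν (toFun'_mem_range _ _ _))

open Classical in
theorem repr_symm (bas : Module.Basis I A P) {z : ⨂[A] _ : Fin d, P} (hz : z ∈ SymTen.TS A P d)
    (σ : Equiv.Perm (Fin d)) (y : Fin d → I) :
    (basT bas d).repr z (y ∘ σ) = (basT bas d).repr z y := by
  have key : ∀ t : ⨂[A] _ : Fin d, P,
      (basT bas d).repr (PiTensorProduct.reindex A (fun _ : Fin d => P) σ t) y =
        (basT bas d).repr t (y ∘ σ) := by
    intro t
    have : (Finsupp.lapply y ∘ₗ ((basT bas d).repr.toLinearMap) ∘ₗ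
        (PiTensorProduct.reindex A (fun _ : Fin d => P) σ).toLinearMap) =
        (Finsupp.lapply (y ∘ σ) ∘ₗ ((basT bas d).repr.toLinearMap)) := by
      refine (basT bas d).ext fun x => ?_
      simp only [LinearMap.coe_comp, LinearEquiv.coe_coe, Function.comp_apply, Finsupp.lapply_apply]
      rw [basT_apply, PiTensorProduct.reindex_tprod]
      have e : PiTensorProduct.tprod A (fun i => bas (x (σ.symm i))) = basT bas d (x ∘ σ.symm) := by
        rw [basT_apply]; rfl
      rw [e, ← basT_apply, Module.Basis.repr_self, Module.Basis.repr_self,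
        Finsupp.single_apply, Finsupp.single_apply]
      congr 1
      apply propext
      constructor
      · intro h; rw [← h]; funext i; simp
      · intro h; rw [h]; funext i; simp
    exact LinearMap.congr_fun this t
  rw [← key, hz σ]

open Classical in
/-- symmetric tensors of a free algebra lie in the span of the coefficients of the tensor
power law -/
theorem TS_le_coefSpan (bas : Module.Basis I A P) {z : ⨂[A] _ : Fin d, P}
    (hz : z ∈ SymTen.TS A P d) : z ∈ coefSpan (SymTen.tpowLaw A P d).law := by
  set a := (basT bas d).repr z with ha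
  have hsum : z = ∑ x ∈ a.support, a x • PiTensorProduct.tprod A (fun k => bas (x k)) := by
    conv_lhs => rw [← (basT bas d).linearCombination_repr z]
    rw [Finsupp.linearCombination_apply, Finsupp.sum]
    refine Finset.sum_congr rfl fun x _ => ?_
    rw [basT_apply]
  rw [hsum, ← Finset.sum_fiberwise_of_maps_to (g := typ) (t := a.support.image typ)
    (fun x hx => Finset.mem_image_of_mem _ hx)]
  refine Submodule.sum_mem _ fun ν hν => ?_
  obtain ⟨x₀, hx₀, hν₀⟩ := Finset.mem_image.mp hν
  have hset : a.support.filter (fun x => typ x = ν) =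
      (Fintype.piFinset (fun _ : Fin d => ν.support)).filter (fun x => typ x = ν) := by
    ext x
    simp only [Finset.mem_filter, Fintype.mem_piFinset]
    constructor
    · rintro ⟨_, h⟩
      exact ⟨fun k => mem_support_of_typ h k, h⟩
    · rintro ⟨_, h⟩
      refine ⟨?_, h⟩
      obtain ⟨τ, hτ⟩ := exists_perm_of_typ_eq x x₀ (h.trans hν₀.symm)
      rw [Finsupp.mem_support_iff, hτ, ha, repr_symm bas hz]
      exact Finsupp.mem_support_iff.mp hx₀
  have hval : ∑ x ∈ a.support.filter (fun x => typ x = ν),
        a x • PiTensorProduct.tprod A (fun k => bas (x k)) =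
      a x₀ • ∑ x ∈ a.support.filter (fun x => typ x = ν),
        PiTensorProduct.tprod A (fun k => bas (x k)) := by
    rw [Finset.smul_sum]
    refine Finset.sum_congr rfl fun x hx => ?_
    have h : typ x = ν := (Finset.mem_filter.mp hx).2
    obtain ⟨τ, hτ⟩ := exists_perm_of_typ_eq x x₀ (h.trans hν₀.symm)
    rw [hτ, ha, repr_symm bas hz]
  rw [hval, hset]
  exact Submodule.smul_mem _ _ (orbit_mem bas ν)

end Free

end Groth.Agent.H14Lib.BCk
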