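import Mathlib
import Groth.Agent.H14Lib.BCk1
import Groth.Agent.H14Lib.BCk2
import Groth.Agent.H14Lib.BCk3

/-!
# Field valued points of `Γ^d_A(B)` extend to `TS^d_A(B)`
-/

open scoped TensorProduct

namespace Groth.Agent.H14Lib.BCk

universe u

open Groth.Agent.H14Lib.CH Groth.Agent.H14Lib.GamN MvPolynomial

section Ext

variable {A : Type u} [CommRing A] {k : Type u} [CommRing k] [Algebra A k]
  {M : Type u} [AddCommGroup M] [Module A M]

theorem law_ext_gen (L1 L2 : M →ₚₗ[A] k)
    (h : ∀ (S' : Type u) [CommSemiring S'] [Algebra k S'],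
      letI := algA A k S'
      haveI := tower_algA A k S'
      ∀ z' : S' ⊗[A] M, TensorProduct.mapOfCompatibleSMul k A S' S' k (L1.toFun' S' z') =
        TensorProduct.mapOfCompatibleSMul k A S' S' k (L2.toFun' S' z'))
    (S' : Type u) [CommSemiring S'] [Algebra k S'] [inst : Algebra A S'] [IsScalarTower A k S']
    (z' : S' ⊗[A] M) :
    TensorProduct.mapOfCompatibleSMul k A S' S' k (L1.toFun' S' z') =
      TensorProduct.mapOfCompatibleSMul k A S' S' k (L2.toFun' S' z') := by
  have e : inst = algA A k S' :=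
    Algebra.algebra_ext _ _ (fun a => IsScalarTower.algebraMap_apply A k S' a)
  subst e
  exact h S' z'

theorem law_ext_k (L1 L2 : M →ₚₗ[A] k)
    (h : ∀ (S' : Type u) [CommSemiring S'] [Algebra k S'],
      letI := algA A k S'
      haveI := tower_algA A k S'
      ∀ z' : S' ⊗[A] M, TensorProduct.mapOfCompatibleSMul k A S' S' k (L1.toFun' S' z') =
        TensorProduct.mapOfCompatibleSMul k A S' S' k (L2.toFun' S' z')) :
    L1 = L2 := by
  ext S _ _ z
  have c1 := congrFun (L1.isCompat' (Algebra.TensorProduct.includeRight : S →ₐ[A] k ⊗[A] S)) z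
  have c2 := congrFun (L2.isCompat' (Algebra.TensorProduct.includeRight : S →ₐ[A] k ⊗[A] S)) z
  simp only [Function.comp_apply] at c1 c2
  have h' := law_ext_gen L1 L2 h (k ⊗[A] S)
    ((Algebra.TensorProduct.includeRight : S →ₐ[A] k ⊗[A] S).toLinearMap.rTensor M z)
  rw [← c1, ← c2] at h'
  have key : ∀ w : S ⊗[A] k,
      TensorProduct.rid k (k ⊗[A] S) (TensorProduct.mapOfCompatibleSMul k A (k ⊗[A] S) (k ⊗[A] S) k
        ((Algebra.TensorProduct.includeRight : S →ₐ[A] k ⊗[A] S).toLinearMap.rTensor k w)) =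
      TensorProduct.comm A S k w := by
    intro w
    induction w using TensorProduct.induction_on with
    | zero => simp
    | tmul s c =>
      simp only [LinearMap.rTensor_tmul, AlgHom.toLinearMap_apply,
        Algebra.TensorProduct.includeRight_apply, TensorProduct.comm_tmul]
      show TensorProduct.rid k (k ⊗[A] S) (((1 : k) ⊗ₜ[A] s) ⊗ₜ[k] c) = _
      rw [TensorProduct.rid_tmul, TensorProduct.smul_tmul', smul_eq_mul, mul_one]
    | add x y hx hy => simp only [map_add, hx, hy]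
  apply (TensorProduct.comm A S k).injective
  rw [← key, ← key, h']

end Ext

section Theta

variable {A : Type u} [CommRing A] {B : Type u} [CommRing B] [Algebra A B]
  {k : Type u} [Field k] [Algebra A k] {d : ℕ}

/-- the `k`-linear form on `T^d_k(k ⊗ B)` attached to a multiplicative law `B → k` -/
noncomputable def thetaK (G : PolLaw.MulLaw A B k d) : (⨂[k] _ : Fin d, k ⊗[A] B) →ₗ[k] k :=
  pit (bcMulLaw (k := k) G).law (Module.Free.chooseBasis k (k ⊗[A] B)) (AlgHom.id k (k ⊗[A] B)) d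

/-- the `A`-linear form on `T^d_A(B)` attached to a multiplicative law `B → k` -/
noncomputable def bigTheta (G : PolLaw.MulLaw A B k d) : (⨂[A] _ : Fin d, B) →ₗ[A] k :=
  ((thetaK G).restrictScalars A).comp
    (iotaT (k := k) d (Algebra.TensorProduct.includeRight : B →ₐ[A] k ⊗[A] B)).toLinearMap

theorem bigTheta_apply (G : PolLaw.MulLaw A B k d) (t : ⨂[A] _ : Fin d, B) :
    bigTheta G t = thetaK G
      (iotaT (k := k) d (Algebra.TensorProduct.includeRight : B →ₐ[A] k ⊗[A] B) t) := rfl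

theorem bigTheta_one (G : PolLaw.MulLaw A B k d) : bigTheta G 1 = 1 := by
  rw [bigTheta_apply, map_one]
  exact pit_one (bcMulLaw (k := k) G) _ _

theorem bigTheta_mul (G : PolLaw.MulLaw A B k d) {x y : ⨂[A] _ : Fin d, B}
    (hx : x ∈ SymTen.TS A B d) (hy : y ∈ SymTen.TS A B d) :
    bigTheta G (x * y) = bigTheta G x * bigTheta G y := by
  rw [bigTheta_apply, bigTheta_apply, bigTheta_apply, map_mul]
  exact pit_mul (bcMulLaw (k := k) G) _ _
    (TS_le_coefSpan (Module.Free.chooseBasis k (k ⊗[A] B)) (iotaT_mem_TS d _ hx))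
    (TS_le_coefSpan (Module.Free.chooseBasis k (k ⊗[A] B)) (iotaT_mem_TS d _ hy))

theorem bigTheta_law (G : PolLaw.MulLaw A B k d) :
    PolLaw.postcomp (bigTheta G) (SymTen.tpowLaw A B d).law = G.law := by
  classical
  apply law_ext_k
  intro S' _ _
  letI := algA A k S'
  haveI := tower_algA A k S'
  intro z'
  obtain ⟨a, rfl⟩ := exists_repr_id z'
  have hR := bcLaw_symm (k := k) G.law S' (∑ i ∈ a.support, a i ⊗ₜ[A] i)
  rw [← hR]
  have hL : (PolLaw.postcomp (bigTheta G) (SymTen.tpowLaw A B d).law).toFun' S'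
      (∑ i ∈ a.support, a i ⊗ₜ[A] i) =
      (bigTheta G).lTensor S' ((SymTen.tpowLaw A B d).law.toFun' S'
        (∑ i ∈ a.support, a i ⊗ₜ[A] i)) := rfl
  rw [hL, tpowLaw_sum (A := A) (P := B) (d := d) S' a.support (fun i => a i) (fun i => i)]
  have hz : (TensorProduct.AlgebraTensorModule.cancelBaseChange A k S' S' B).symm
      (∑ i ∈ a.support, a i ⊗ₜ[A] i) =
      ∑ i ∈ a.support, a i ⊗ₜ[k] ((1 : k) ⊗ₜ[A] i) := by
    rw [map_sum]
    rfl
  rw [hz]
  have hp := pit_tpowLaw (bcMulLaw (k := k) G).law (bcMulLaw (k := k) G).homog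
    (Module.Free.chooseBasis k (k ⊗[A] B)) (AlgHom.id k (k ⊗[A] B)) S'
    (∑ i ∈ a.support, a i ⊗ₜ[k] ((1 : k) ⊗ₜ[A] i))
  rw [AlgHom.toLinearMap_id, LinearMap.lTensor_id, LinearMap.id_apply] at hp
  show _ = (bcMulLaw (k := k) G).law.toFun' S' _
  rw [← hp, tpowLaw_sum (A := k) (P := k ⊗[A] B) (d := d) S' a.support (fun i => a i)
    (fun i => (1 : k) ⊗ₜ[A] i)]
  simp only [map_sum, LinearMap.lTensor_tmul]
  refine Finset.sum_congr rfl fun x _ => ?_
  rw [bigTheta_apply, iotaT_tprod]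
  rfl

end Theta

end Groth.Agent.H14Lib.BCk
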