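import Mathlib
import Groth.Agent.H14Lib.BCk4

/-!
# Field valued points of `Γ^d_A(B)` extend to `TS^d_A(B)` : the statement
-/

open scoped TensorProduct

namespace Groth.Agent.H14Lib.BCk

universe u

open Groth.Agent.H14Lib.CH Groth.Agent.H14Lib.GamN MvPolynomial

section Main

variable {A B C : Type u} [CommRing A] [CommRing B] [Algebra A B] [CommRing C] [Algebra A C]

theorem exists_extension (d : ℕ)
    (γ : PolLaw.MulLaw A B C d) (hγ : PolLaw.IsGammaD γ) (φ : C →ₐ[A] SymTen.TS A B d)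
    (hφ : ∀ (S : Type u) [CommSemiring S] [Algebra A S] (n : ℕ) (s : Fin n → S) (b : Fin n → B),
      ((SymTen.TS A B d).val.comp φ).toLinearMap.lTensor S (γ.law.toFun' S (∑ j, s j ⊗ₜ[A] b j)) =
        ∑ c : Fin d → Fin n, (∏ i, s (c i)) ⊗ₜ[A] PiTensorProduct.tprod A (fun i => b (c i)))
    (k : Type u) [Field k] (ψ' : C →+* k) :
    ∃ θ : SymTen.TS A B d →+* k, θ.comp φ.toRingHom = ψ' := by
  letI : Algebra A k := (ψ'.comp (algebraMap A C)).toAlgebra
  let ψa : C →ₐ[A] k := { ψ' with commutes' := fun a => rfl }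
  let G : PolLaw.MulLaw A B k d := γ.postcomp ψa
  let θ : SymTen.TS A B d →ₐ[A] k :=
    AlgHom.ofLinearMap ((bigTheta G).comp (SymTen.TS A B d).val.toLinearMap) (bigTheta_one G)
      (fun x y => bigTheta_mul G x.2 y.2)
  have h2 : PolLaw.postcomp ψa.toLinearMap γ.law = G.law := rfl
  have h1 : PolLaw.postcomp (θ.comp φ).toLinearMap γ.law = G.law := by
    have hv : (θ.comp φ).toLinearMap =
        (bigTheta G) ∘ₗ ((SymTen.TS A B d).val.comp φ).toLinearMap := LinearMap.ext fun c => rfl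
    rw [hv, ← postcomp_postcomp]
    have hvl : PolLaw.postcomp ((SymTen.TS A B d).val.comp φ).toLinearMap γ.law =
        (SymTen.tpowLaw A B d).law := by
      apply PolynomialLaw.ext
      funext S _ _ w
      exact v_law γ _ hφ S w
    rw [hvl, bigTheta_law]
  have huniq : θ.comp φ = ψa := (hγ k G).unique h1 h2
  refine ⟨θ.toRingHom, ?_⟩
  ext c
  exact congrArg (fun f : C →ₐ[A] k => f c) huniq

end Main

end Groth.Agent.H14Lib.BCk
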