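import Mathlib
import Groth.Agent.H14Lib.BCk3

/-!
# Symmetric tensors of a free algebra are spanned by the orbit sums of a basis
-/

open scoped TensorProduct

namespace Groth.Agent.H14Lib.BCk

universe u

open Groth.Agent.H14Lib.CH Groth.Agent.H14Lib.GamN MvPolynomial

section Free

variable {A : Type u} [CommRing A] {P : Type u} [CommRing P] [Algebra A P] {d : ℕ} {I : Type u}

open Classical in
/-- the orbit sum of type `ν` -/
noncomputable def orbSum (bas : Module.Basis I A P) (d : ℕ) (ν : I →₀ ℕ) : ⨂[A] _ : Fin d, P :=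
  ∑ x ∈ (Fintype.piFinset (fun _ : Fin d => ν.support)).filter (fun x => typ x = ν),
    PiTensorProduct.tprod A (fun k => bas (x k))

theorem orbSum_mem_TS (bas : Module.Basis I A P) (ν : I →₀ ℕ) :
    orbSum bas d ν ∈ SymTen.TS A P d := by
  intro σ
  rw [← SymTen.perm_apply]
  exact perm_mem σ (orbit_mem bas ν)

open Classical in
theorem TS_mem_span_orbit (bas : Module.Basis I A P) {z : ⨂[A] _ : Fin d, P}
    (hz : z ∈ SymTen.TS A P d) : z ∈ Submodule.span A (Set.range (orbSum bas d)) := by
  set a := (basT bas d).repr z with ha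
  have hsum : z = ∑ x ∈ a.support, a x • PiTensorProduct.tprod A (fun k => bas (x k)) := by
    conv_lhs => rw [← (basT bas d).linearCombination_repr z]
    rw [Finsupp.linearCombination_apply, Finsupp.sum]
    refine Finset.sum_congr rfl fun x _ => ?_
    rw [basT_apply]
  rw [hsum, ← Finset.sum_fiberwise_of_maps_to (g := typ) (t := a.support.image typ)
    (fun x hx => Finset.mem_image_of_mem _ hx)]
  refine Submodule.sum_mem _ fun ν hν => ?_
  obtain ⟨x₀, hx₀, hν₀⟩ := Finset.mem_image.mp hν
  have hset : a.support.filter (fun x => typ x = ν) =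
      (Fintype.piFinset (fun _ : Fin d => ν.support)).filter (fun x => typ x = ν) := by
    ext x
    simp only [Finset.mem_filter, Fintype.mem_piFinset]
    constructor
    · rintro ⟨_, h⟩
      exact ⟨fun k => mem_support_of_typ h k, h⟩
    · rintro ⟨_, h⟩
      refine ⟨?_, h⟩
      obtain ⟨τ, hτ⟩ := exists_perm_of_typ_eq x x₀ (h.trans hν₀.symm)
      rw [Finsupp.mem_support_iff, hτ, ha, repr_symm bas hz]
      exact Finsupp.mem_support_iff.mp hx₀
  have hval : ∑ x ∈ a.support.filter (fun x => typ x = ν),
        a x • PiTensorProduct.tprod A (fun k => bas (x k)) =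
      a x₀ • ∑ x ∈ a.support.filter (fun x => typ x = ν),
        PiTensorProduct.tprod A (fun k => bas (x k)) := by
    rw [Finset.smul_sum]
    refine Finset.sum_congr rfl fun x hx => ?_
    have h : typ x = ν := (Finset.mem_filter.mp hx).2
    obtain ⟨τ, hτ⟩ := exists_perm_of_typ_eq x x₀ (h.trans hν₀.symm)
    rw [hτ, ha, repr_symm bas hz]
  rw [hval, hset]
  exact Submodule.smul_mem _ _ (Submodule.subset_span ⟨ν, rfl⟩)

end Free

end Groth.Agent.H14Lib.BCk
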