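import Mathlib

/-!
# Birkhoff factorization of invertible Laurent polynomial matrices (helper14)
-/

set_option autoImplicit false

namespace Groth.Agent.H14Lib.Birkhoff

open scoped Polynomial LaurentPolynomial
open LaurentPolynomial (T invert)
open Polynomial (toLaurent)

variable {k : Type*} [Field k]

/-- The reversed polynomial `X^N f(1/X)`. -/
noncomputable def rev (N : ℕ) (f : k[X]) : k[X] :=
  ∑ e ∈ Finset.range (N + 1), Polynomial.C (f.coeff e) * Polynomial.X ^ (N - e)

theorem toLaurent_eq_rev (N : ℕ) (f : k[X]) (h : f.natDegree ≤ N) :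
    toLaurent f = T (N : ℤ) * invert (toLaurent (rev N f)) := by
  have h1 : f = ∑ e ∈ Finset.range (N + 1), Polynomial.C (f.coeff e) * Polynomial.X ^ e :=
    f.as_sum_range_C_mul_X_pow' (by omega)
  conv_lhs => rw [h1]
  unfold rev
  rw [map_sum, map_sum, map_sum, Finset.mul_sum]
  refine Finset.sum_congr rfl fun e he => ?_
  have he' : e ≤ N := by have := Finset.mem_range.mp he; omega
  rw [Polynomial.toLaurent_C_mul_X_pow, Polynomial.toLaurent_C_mul_X_pow, map_mul,
    LaurentPolynomial.invert_C, LaurentPolynomial.invert_T, mul_left_comm,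
    ← LaurentPolynomial.T_add]
  congr 2
  push_cast [Nat.cast_sub he']
  ring

theorem coeff_rev_zero (N : ℕ) (f : k[X]) : (rev N f).coeff 0 = f.coeff N := by
  unfold rev
  rw [Polynomial.finsetSum_coeff, Finset.sum_eq_single N]
  · simp
  · intro e he hne
    have he' : e < N := by have := Finset.mem_range.mp he; omega
    rw [Polynomial.coeff_C_mul_X_pow, if_neg]
    omega
  · intro h; exact absurd (Finset.mem_range.mpr (Nat.lt_succ_self N)) h

theorem isUnit_of_toLaurent (f : k[X]) (hu : IsUnit (toLaurent f)) (h0 : f.coeff 0 ≠ 0) :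
    IsUnit f := by
  obtain ⟨g, hg⟩ := hu.exists_right_inv
  obtain ⟨N, g₀, hg₀⟩ := LaurentPolynomial.exists_T_pow g
  have h1 : toLaurent (f * g₀) = toLaurent (Polynomial.X ^ N) := by
    rw [map_mul, hg₀, ← mul_assoc, hg, one_mul, Polynomial.toLaurent_X_pow]
  have h2 : f * g₀ = Polynomial.X ^ N := Polynomial.toLaurent_injective h1
  have h3 : f ∣ Polynomial.X ^ N := ⟨g₀, h2.symm⟩
  obtain ⟨i, hi, hass⟩ := (dvd_prime_pow Polynomial.prime_X N).mp h3
  rcases Nat.eq_zero_or_pos i with rfl | hpos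
  · rw [pow_zero] at hass
    exact associated_one_iff_isUnit.mp hass
  · exfalso
    apply h0
    rw [← Polynomial.X_dvd_iff]
    exact (dvd_pow_self Polynomial.X hpos.ne').trans hass.symm.dvd

theorem natDegree_le_pred (g : k[X]) (N : ℕ) (h1 : g.natDegree ≤ N) (h2 : g.coeff N = 0)
    (hN : 1 ≤ N) : g.natDegree ≤ N - 1 := by
  by_contra hcon
  have h3 : g.natDegree = N := by omega
  have h4 : g.leadingCoeff = 0 := by rw [Polynomial.leadingCoeff, h3, h2]
  rw [Polynomial.leadingCoeff_eq_zero] at h4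
  rw [h4, Polynomial.natDegree_zero] at h3
  omega

theorem perm_diag {R : Type*} [CommRing R] {n : ℕ} (P M : Matrix (Fin n) (Fin n) R)
    (v : Fin n → R) (σ : Equiv.Perm (Fin n)) :
    P.submatrix id σ * Matrix.diagonal (v ∘ σ) * M.submatrix σ id =
      P * Matrix.diagonal v * M := by
  have h1 : ∀ i j, (P.submatrix id σ * Matrix.diagonal (v ∘ σ)) i j = P i (σ j) * v (σ j) :=
    fun i j => by rw [Matrix.mul_diagonal]; rfl
  have h2 : ∀ i j, (P * Matrix.diagonal v) i j = P i j * v j :=
    fun i j => Matrix.mul_diagonal ..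
  refine Matrix.ext fun i l => ?_
  rw [Matrix.mul_apply, Matrix.mul_apply]
  simp only [h1, h2, Matrix.submatrix_apply, id_eq]
  exact Equiv.sum_comp σ (fun j' => P i j' * v j' * M j' l)

theorem poly_factor {n : ℕ} (A₀ : Matrix (Fin n) (Fin n) k[X])
    (hA₀ : IsUnit (A₀.map toLaurent)) :
    ∀ (s : ℕ) (P : Matrix (Fin n) (Fin n) k[X]) (d : Fin n → ℕ), IsUnit P →
      (∀ i j, ((P * A₀) i j).natDegree ≤ d i) → ∑ i, d i = s →
      ∃ (P' Q : Matrix (Fin n) (Fin n) k[X]) (d' : Fin n → ℕ), IsUnit P' ∧ IsUnit Q ∧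
        A₀.map toLaurent = P'.map toLaurent * Matrix.diagonal (fun i => T (d' i : ℤ)) *
          (Q.map toLaurent).map invert := by
  intro s
  induction s using Nat.strong_induction_on with
  | _ s ih =>
  intro P d hP hbd hsum
  classical
  obtain ⟨B, hB⟩ : ∃ B : Matrix (Fin n) (Fin n) k[X], B = P * A₀ := ⟨_, rfl⟩
  rw [← hB] at hbd
  obtain ⟨β, hβ⟩ : ∃ β : Matrix (Fin n) (Fin n) k, ∀ i j, β i j = (B i j).coeff (d i) :=
    ⟨Matrix.of fun i j => (B i j).coeff (d i), fun _ _ => rfl⟩
  by_cases hdet : β.det = 0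
  · -- reduce
    obtain ⟨c, hc0, hcβ⟩ := Matrix.exists_vecMul_eq_zero_iff.mpr hdet
    have hne : (Finset.univ.filter fun i => c i ≠ 0).Nonempty := by
      by_contra hemp
      rw [Finset.not_nonempty_iff_eq_empty] at hemp
      apply hc0
      funext i
      by_contra hi
      have : i ∈ Finset.univ.filter fun i => c i ≠ 0 :=
        Finset.mem_filter.mpr ⟨Finset.mem_univ i, hi⟩
      rw [hemp] at this
      exact absurd this (Finset.notMem_empty i)
    obtain ⟨i₀, hi₀mem, hi₀max⟩ := Finset.exists_max_image _ d hne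
    have hci₀ : c i₀ ≠ 0 := (Finset.mem_filter.mp hi₀mem).2
    have hmax : ∀ l, c l ≠ 0 → d l ≤ d i₀ := fun l hl =>
      hi₀max l (Finset.mem_filter.mpr ⟨Finset.mem_univ l, hl⟩)
    obtain ⟨v, hv⟩ : ∃ v : Fin n → k[X],
      ∀ l, v l = Polynomial.C (c l) * Polynomial.X ^ (d i₀ - d l) := ⟨_, fun _ => rfl⟩
    obtain ⟨E, hE⟩ : ∃ E : Matrix (Fin n) (Fin n) k[X], E = Matrix.updateRow 1 i₀ v :=
      ⟨_, rfl⟩
    have hEdet : E.det = Polynomial.C (c i₀) := by
      rw [hE, ← Matrix.cramer_transpose_apply, Matrix.transpose_one, Matrix.cramer_one]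
      simp [hv]
    have hEunit : IsUnit E := by
      rw [Matrix.isUnit_iff_isUnit_det, hEdet]
      exact Polynomial.isUnit_C.mpr (IsUnit.mk0 _ hci₀)
    have hrow_ne : ∀ i j, i ≠ i₀ → (E * P * A₀) i j = B i j := by
      intro i j hi
      rw [Matrix.mul_assoc, ← hB, Matrix.mul_apply]
      simp [hE, Matrix.updateRow_ne hi, Matrix.one_apply]
    have hrow_eq : ∀ j, (E * P * A₀) i₀ j = ∑ l, v l * B l j := by
      intro j
      rw [Matrix.mul_assoc, ← hB, Matrix.mul_apply]
      simp [hE]
    have hdeg : ∀ j, ((E * P * A₀) i₀ j).natDegree ≤ d i₀ := by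
      intro j
      rw [hrow_eq]
      apply Polynomial.natDegree_sum_le_of_forall_le
      intro l _
      by_cases hl : c l = 0
      · simp [hv, hl]
      · calc (v l * B l j).natDegree ≤ (v l).natDegree + (B l j).natDegree :=
              Polynomial.natDegree_mul_le
          _ ≤ (d i₀ - d l) + d l := by
              gcongr
              · rw [hv]; exact Polynomial.natDegree_C_mul_X_pow_le _ _
              · exact hbd l j
          _ = d i₀ := Nat.sub_add_cancel (hmax l hl)
    have hcoeff : ∀ j, ((E * P * A₀) i₀ j).coeff (d i₀) = 0 := by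
      intro j
      rw [hrow_eq, Polynomial.finsetSum_coeff]
      have h1 : ∀ l, (v l * B l j).coeff (d i₀) = c l * β l j := by
        intro l
        by_cases hl : c l = 0
        · simp [hv, hl]
        · rw [hv, mul_assoc, Polynomial.coeff_C_mul, Polynomial.coeff_X_pow_mul',
            if_pos (Nat.sub_le _ _)]
          have : d i₀ - (d i₀ - d l) = d l := by have := hmax l hl; omega
          rw [this, hβ]
      rw [Finset.sum_congr rfl (fun l _ => h1 l)]
      have := congrFun hcβ j
      simpa [Matrix.vecMul, dotProduct] using this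
    have hP' : IsUnit (E * P) := hEunit.mul hP
    rcases Nat.eq_zero_or_pos (d i₀) with hz | hpos
    · exfalso
      have hrow0 : ∀ j, (E * P * A₀) i₀ j = 0 := by
        intro j
        have h1 := hdeg j; rw [hz] at h1
        have h2 := hcoeff j; rw [hz] at h2
        rw [Polynomial.eq_C_of_natDegree_le_zero h1, h2, map_zero]
      have hdet0 : (E * P * A₀).det = 0 := Matrix.det_eq_zero_of_row_eq_zero i₀ hrow0
      have hu : IsUnit ((E * P * A₀).map toLaurent) := by
        rw [Matrix.map_mul]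
        exact (hP'.map (toLaurent (R := k)).mapMatrix).mul hA₀
      have hudet := (Matrix.isUnit_iff_isUnit_det _).mp hu
      rw [← RingHom.mapMatrix_apply, ← RingHom.map_det, hdet0, map_zero] at hudet
      exact not_isUnit_zero hudet
    · have hlt : ∑ i, Function.update d i₀ (d i₀ - 1) i + 1 = ∑ i, d i := by
        rw [← Finset.add_sum_erase Finset.univ _ (Finset.mem_univ i₀),
          ← Finset.add_sum_erase Finset.univ d (Finset.mem_univ i₀), Function.update_self]
        have : ∑ i ∈ Finset.univ.erase i₀, Function.update d i₀ (d i₀ - 1) i =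
            ∑ i ∈ Finset.univ.erase i₀, d i :=
          Finset.sum_congr rfl (fun i hi =>
            Function.update_of_ne (Finset.ne_of_mem_erase hi) _ _)
        rw [this]; omega
      refine ih _ (by omega) (E * P) (Function.update d i₀ (d i₀ - 1)) hP' ?_ rfl
      intro i j
      by_cases hi : i = i₀
      · rw [hi, Function.update_self]
        exact natDegree_le_pred _ _ (hdeg j) (hcoeff j) hpos
      · rw [Function.update_of_ne hi, hrow_ne i j hi]; exact hbd i j
  · -- construct the factorization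
    have hPdet : IsUnit P.det := (Matrix.isUnit_iff_isUnit_det P).mp hP
    obtain ⟨Q, hQ⟩ : ∃ Q : Matrix (Fin n) (Fin n) k[X], ∀ i j, Q i j = rev (d i) (B i j) :=
      ⟨Matrix.of fun i j => rev (d i) (B i j), fun _ _ => rfl⟩
    have hBQ : B.map toLaurent = Matrix.diagonal (fun i => T (d i : ℤ)) *
        (Q.map toLaurent).map invert := by
      refine Matrix.ext fun i j => ?_
      rw [Matrix.diagonal_mul]
      simp only [Matrix.map_apply, hQ]
      exact toLaurent_eq_rev (d i) (B i j) (hbd i j)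
    have hBunit : IsUnit (B.map toLaurent) := by
      rw [hB, Matrix.map_mul]
      exact (hP.map (toLaurent (R := k)).mapMatrix).mul hA₀
    have hDunit : IsUnit (Matrix.diagonal (fun i => T (d i : ℤ)) :
        Matrix (Fin n) (Fin n) k[T;T⁻¹]) := by
      refine ⟨⟨Matrix.diagonal (fun i => T (d i : ℤ)),
        Matrix.diagonal (fun i => T (-(d i : ℤ))), ?_, ?_⟩, rfl⟩
      · rw [Matrix.diagonal_mul_diagonal]
        have : (fun i => (T (d i : ℤ) : k[T;T⁻¹]) * T (-(d i : ℤ))) = fun _ => 1 := by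
          funext i; rw [← LaurentPolynomial.T_add, add_neg_cancel, LaurentPolynomial.T_zero]
        rw [this, Matrix.diagonal_one]
      · rw [Matrix.diagonal_mul_diagonal]
        have : (fun i => (T (-(d i : ℤ)) : k[T;T⁻¹]) * T (d i : ℤ)) = fun _ => 1 := by
          funext i; rw [← LaurentPolynomial.T_add, neg_add_cancel, LaurentPolynomial.T_zero]
        rw [this, Matrix.diagonal_one]
    have hLq : IsUnit ((Q.map toLaurent).map invert) := by
      have h1 := hBunit
      rw [hBQ] at h1
      obtain ⟨u, hu⟩ := hDunit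
      rw [← hu] at h1
      exact (Units.isUnit_units_mul u _).mp h1
    have hdetQ_unitL : IsUnit (toLaurent Q.det) := by
      have h1 := (Matrix.isUnit_iff_isUnit_det _).mp hLq
      have h2 : ((Q.map toLaurent).map invert).det = invert (toLaurent Q.det) := by
        rw [RingHom.map_det, AlgEquiv.map_det]
        rfl
      rw [h2] at h1
      have h3 := h1.map (invert (R := k))
      rwa [LaurentPolynomial.involutive_invert] at h3
    have hdetβ : (Q.det).coeff 0 = β.det := by
      rw [← Polynomial.constantCoeff_apply, RingHom.map_det]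
      congr 1
      ext i j
      rw [RingHom.mapMatrix_apply, Matrix.map_apply, Polynomial.constantCoeff_apply, hQ,
        coeff_rev_zero, hβ]
    have hQunit : IsUnit Q := (Matrix.isUnit_iff_isUnit_det Q).mpr
      (isUnit_of_toLaurent _ hdetQ_unitL (by rw [hdetβ]; exact hdet))
    refine ⟨P⁻¹, Q, d, (Matrix.isUnit_nonsing_inv_iff).mpr hP, hQunit, ?_⟩
    have hA₀eq : A₀ = P⁻¹ * B := by
      rw [hB, ← Matrix.mul_assoc, Matrix.nonsing_inv_mul P hPdet, Matrix.one_mul]
    conv_lhs => rw [hA₀eq]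
    rw [Matrix.map_mul, hBQ, Matrix.mul_assoc]

theorem birkhoff (n : ℕ) (A : Matrix (Fin n) (Fin n) k[T;T⁻¹]) (hA : IsUnit A) :
    ∃ (P Q : Matrix (Fin n) (Fin n) k[X]) (d : Fin n → ℤ), IsUnit P ∧ IsUnit Q ∧ Antitone d ∧
      A = P.map toLaurent * Matrix.diagonal (fun i => T (d i)) *
        (Q.map toLaurent).map invert := by
  classical
  have h0 : ∀ i j, ∃ (m : ℕ) (f : k[X]), toLaurent f = A i j * T m :=
    fun i j => LaurentPolynomial.exists_T_pow (A i j)
  choose m f hf using h0
  obtain ⟨N, hN⟩ : ∃ N : ℕ, N = ∑ i, ∑ j, m i j := ⟨_, rfl⟩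
  have hmN : ∀ i j, m i j ≤ N := fun i j => by
    rw [hN]
    exact (Finset.single_le_sum (f := fun j => m i j) (fun _ _ => Nat.zero_le _)
      (Finset.mem_univ j)).trans
      (Finset.single_le_sum (f := fun i => ∑ j, m i j) (fun _ _ => Nat.zero_le _)
        (Finset.mem_univ i))
  obtain ⟨A₀, hA₀⟩ : ∃ A₀ : Matrix (Fin n) (Fin n) k[X],
      ∀ i j, A₀ i j = f i j * Polynomial.X ^ (N - m i j) := ⟨Matrix.of _, fun _ _ => rfl⟩
  have hA₀map : A₀.map toLaurent = (T (N : ℤ) : k[T;T⁻¹]) • A := by
    refine Matrix.ext fun i j => ?_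
    simp only [Matrix.map_apply, hA₀, map_mul, hf, Polynomial.toLaurent_X_pow,
      Matrix.smul_apply, smul_eq_mul]
    rw [mul_assoc, ← LaurentPolynomial.T_add, mul_comm]
    congr 2
    have := hmN i j
    push_cast [Nat.cast_sub this]; ring
  have hunit : IsUnit (A₀.map toLaurent) := by
    rw [hA₀map, Matrix.isUnit_iff_isUnit_det, Matrix.det_smul]
    exact ((LaurentPolynomial.isUnit_T (R := k) (N : ℤ)).pow _).mul
      ((Matrix.isUnit_iff_isUnit_det A).mp hA)
  obtain ⟨P', Q, d', hP', hQ, hfac⟩ := poly_factor A₀ hunit _ 1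
    (fun i => Finset.univ.sup (fun j => (A₀ i j).natDegree)) isUnit_one
    (fun i j => by
      rw [Matrix.one_mul]
      exact Finset.le_sup (f := fun j => (A₀ i j).natDegree) (Finset.mem_univ j)) rfl
  obtain ⟨σ, hσ⟩ : ∃ σ : Equiv.Perm (Fin n), Monotone ((fun i => -(d' i : ℤ)) ∘ σ) :=
    ⟨_, Tuple.monotone_sort (fun i => -(d' i : ℤ))⟩
  refine ⟨P'.submatrix id σ, Q.submatrix σ id, fun i => (d' (σ i) : ℤ) - N, ?_, ?_, ?_, ?_⟩
  · rw [Matrix.isUnit_iff_isUnit_det, Matrix.det_permute']
    exact ((Equiv.Perm.sign σ).isUnit.map (Int.castRingHom k[X])).mul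
      ((Matrix.isUnit_iff_isUnit_det _).mp hP')
  · rw [Matrix.isUnit_iff_isUnit_det, Matrix.det_permute]
    exact ((Equiv.Perm.sign σ).isUnit.map (Int.castRingHom k[X])).mul
      ((Matrix.isUnit_iff_isUnit_det _).mp hQ)
  · intro a b hab
    have := hσ hab
    simp only [Function.comp_apply] at this
    show (d' (σ b) : ℤ) - N ≤ (d' (σ a) : ℤ) - N
    linarith
  · have hAeq : A = (T (-(N : ℤ)) : k[T;T⁻¹]) • (A₀.map toLaurent) := by
      rw [hA₀map, smul_smul, ← LaurentPolynomial.T_add]; simp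
    rw [hAeq, hfac,
      ← perm_diag (P'.map toLaurent) ((Q.map toLaurent).map invert) (fun i => T (d' i : ℤ)) σ,
      ← Matrix.smul_mul, ← Matrix.mul_smul, ← Matrix.diagonal_smul]
    have hdiag : Matrix.diagonal ((T (-(N : ℤ)) : k[T;T⁻¹]) • ((fun i => T (d' i : ℤ)) ∘ σ)) =
        Matrix.diagonal (fun i => (T ((d' (σ i) : ℤ) - N) : k[T;T⁻¹])) := by
      congr 1
      funext i
      simp only [Pi.smul_apply, Function.comp_apply, smul_eq_mul]
      rw [← LaurentPolynomial.T_add]
      congr 1; ring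
    rw [hdiag]
    rfl

end Groth.Agent.H14Lib.Birkhoff
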