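import Mathlib

universe u

namespace Groth.Agent.H14Lib.Cop

section modules
variable {A : Type u} [CommRing A]
variable {M N P Q : Type u} [AddCommGroup M] [AddCommGroup N] [AddCommGroup P] [AddCommGroup Q]
  [Module A M] [Module A N] [Module A P] [Module A Q]

theorem length_coker_comp (α : M →ₗ[A] N) (β : N →ₗ[A] P) (hβ : Function.Injective β) :
    Module.length A (P ⧸ LinearMap.range (β ∘ₗ α)) =
      Module.length A (N ⧸ LinearMap.range α) + Module.length A (P ⧸ LinearMap.range β) := by
  have h1 : LinearMap.range α ≤ (LinearMap.range (β ∘ₗ α)).comap β := by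
    rintro _ ⟨m, rfl⟩
    exact ⟨m, rfl⟩
  have h2 : LinearMap.range (β ∘ₗ α) ≤ (LinearMap.range β).comap LinearMap.id := by
    rintro _ ⟨m, rfl⟩
    exact ⟨α m, rfl⟩
  let f : (N ⧸ LinearMap.range α) →ₗ[A] (P ⧸ LinearMap.range (β ∘ₗ α)) :=
    Submodule.mapQ _ _ β h1
  let g : (P ⧸ LinearMap.range (β ∘ₗ α)) →ₗ[A] (P ⧸ LinearMap.range β) :=
    Submodule.mapQ _ _ LinearMap.id h2
  have hf : Function.Injective f := by
    rw [← LinearMap.ker_eq_bot, LinearMap.ker_eq_bot']
    intro x hx
    obtain ⟨n, rfl⟩ := Submodule.Quotient.mk_surjective _ x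
    rw [Submodule.mapQ_apply, Submodule.Quotient.mk_eq_zero] at hx
    obtain ⟨m, hm⟩ := hx
    rw [Submodule.Quotient.mk_eq_zero]
    exact ⟨m, hβ hm⟩
  have hg : Function.Surjective g := by
    intro y
    obtain ⟨p, rfl⟩ := Submodule.Quotient.mk_surjective _ y
    exact ⟨Submodule.Quotient.mk p, by simp [g]⟩
  have hex : Function.Exact f g := by
    intro y
    constructor
    · intro hy
      obtain ⟨p, rfl⟩ := Submodule.Quotient.mk_surjective _ y
      rw [Submodule.mapQ_apply, Submodule.Quotient.mk_eq_zero] at hy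
      obtain ⟨n, hn⟩ := hy
      refine ⟨Submodule.Quotient.mk n, ?_⟩
      rw [Submodule.mapQ_apply]
      simp only [LinearMap.id_coe, id_eq] at hn
      rw [hn]
    · rintro ⟨x, rfl⟩
      obtain ⟨n, rfl⟩ := Submodule.Quotient.mk_surjective _ x
      rw [Submodule.mapQ_apply, Submodule.mapQ_apply, Submodule.Quotient.mk_eq_zero]
      exact ⟨n, rfl⟩
  exact Module.length_eq_add_of_exact f g hf hg hex

theorem length_coker_of_surjective (α : M →ₗ[A] N) (π : N →ₗ[A] Q) (hπ : Function.Surjective π)
    (hker : LinearMap.ker π = LinearMap.range α) :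
    Module.length A (N ⧸ LinearMap.range α) = Module.length A Q := by
  have e1 : (N ⧸ LinearMap.range α) ≃ₗ[A] (N ⧸ LinearMap.ker π) :=
    Submodule.quotEquivOfEq _ _ hker.symm
  have e2 : (N ⧸ LinearMap.ker π) ≃ₗ[A] Q := LinearMap.quotKerEquivOfSurjective π hπ
  exact (e1.trans e2).length_eq

theorem length_coker_equiv_comp (α : M →ₗ[A] N) (e : N ≃ₗ[A] P) :
    Module.length A (P ⧸ LinearMap.range (e.toLinearMap ∘ₗ α)) =
      Module.length A (N ⧸ LinearMap.range α) := by
  rw [length_coker_comp α e.toLinearMap e.injective]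
  have : Subsingleton (P ⧸ LinearMap.range e.toLinearMap) := by
    rw [LinearEquiv.range]
    exact Submodule.Quotient.subsingleton_iff.mpr rfl
  have h0 : Module.length A (P ⧸ LinearMap.range e.toLinearMap) = 0 :=
    Module.length_eq_zero_iff.mpr this
  rw [h0, add_zero]

theorem length_coker_prodMap (φ : M →ₗ[A] P) :
    Module.length A ((Q × P) ⧸ LinearMap.range ((LinearMap.id : Q →ₗ[A] Q).prodMap φ)) =
      Module.length A (P ⧸ LinearMap.range φ) := by
  apply length_coker_of_surjective _ ((LinearMap.range φ).mkQ ∘ₗ LinearMap.snd A Q P)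
  · intro y
    obtain ⟨p, rfl⟩ := Submodule.Quotient.mk_surjective _ y
    exact ⟨(0, p), rfl⟩
  · ext ⟨q, p⟩
    simp only [LinearMap.mem_ker, LinearMap.coe_comp, Function.comp_apply, LinearMap.snd_apply,
      Submodule.mkQ_apply, Submodule.Quotient.mk_eq_zero, LinearMap.mem_range,
      LinearMap.prodMap_apply, LinearMap.id_coe, id_eq, Prod.mk.injEq, Prod.exists]
    constructor
    · rintro ⟨m, rfl⟩
      exact ⟨q, m, rfl, rfl⟩
    · rintro ⟨_, m, -, rfl⟩
      exact ⟨m, rfl⟩

end modules

section ring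
variable {A : Type u} [CommRing A]

/-- `g ∣ b z → g ∣ z`. -/
def Cop (b g : A) : Prop := ∀ z, g ∣ b * z → g ∣ z

theorem Cop.one (g : A) : Cop 1 g := fun z h => by rwa [one_mul] at h

theorem Cop.mul {a b g : A} (ha : Cop a g) (hb : Cop b g) : Cop (a * b) g := fun z h => by
  rw [mul_assoc] at h
  exact hb z (ha _ h)

theorem Cop.prod {n : ℕ} (f : Fin n → A) (g : A) (h : ∀ i, Cop (f i) g) : Cop (∏ i, f i) g := by
  induction n with
  | zero => simpa using Cop.one g
  | succ n ih =>
    rw [Fin.prod_univ_succ]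
    exact (h 0).mul (ih (fun i => f i.succ) (fun i => h i.succ))

theorem length_pair_mul (g a b : A) (hb : Cop b g) :
    Module.length A (A ⧸ Ideal.span {g, a * b}) =
      Module.length A (A ⧸ Ideal.span {g, a}) + Module.length A (A ⧸ Ideal.span {g, b}) := by
  have h1 : Ideal.span {g, a} ≤ Submodule.comap (LinearMap.mul A A b) (Ideal.span {g, a * b}) := by
    rw [Ideal.span_le]
    intro x hx
    rcases hx with rfl | rfl
    · show b * x ∈ Ideal.span {x, a * b}
      exact Ideal.mul_mem_left _ _ (Ideal.subset_span (by simp))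
    · show b * x ∈ Ideal.span {g, x * b}
      rw [mul_comm]; exact Ideal.subset_span (by simp)
  have h2 : Ideal.span {g, a * b} ≤ Submodule.comap (LinearMap.id : A →ₗ[A] A) (Ideal.span {g, b}) := by
    rw [Ideal.span_le]
    intro x hx
    rcases hx with rfl | rfl
    · exact Ideal.subset_span (by simp)
    · exact Ideal.mul_mem_left _ _ (Ideal.subset_span (by simp))
  let f : (A ⧸ Ideal.span {g, a}) →ₗ[A] (A ⧸ Ideal.span {g, a * b}) :=
    Submodule.mapQ _ _ (LinearMap.mul A A b) h1
  let k : (A ⧸ Ideal.span {g, a * b}) →ₗ[A] (A ⧸ Ideal.span {g, b}) :=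
    Submodule.mapQ _ _ LinearMap.id h2
  have hf : Function.Injective f := by
    rw [← LinearMap.ker_eq_bot, LinearMap.ker_eq_bot']
    intro x hx
    obtain ⟨x, rfl⟩ := Submodule.Quotient.mk_surjective _ x
    rw [Submodule.mapQ_apply, Submodule.Quotient.mk_eq_zero] at hx
    rw [Submodule.Quotient.mk_eq_zero]
    change b * x ∈ Ideal.span {g, a * b} at hx
    rw [Ideal.mem_span_pair] at hx ⊢
    obtain ⟨u, v, huv⟩ := hx
    -- u g + v a b = b x  ⇒ g ∣ b (x - v a)
    have hdvd : g ∣ b * (x - v * a) := ⟨u, by linear_combination -huv⟩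
    obtain ⟨w, hw⟩ := hb _ hdvd
    exact ⟨w, v, by linear_combination -hw⟩
  have hk : Function.Surjective k := by
    intro y
    obtain ⟨p, rfl⟩ := Submodule.Quotient.mk_surjective _ y
    exact ⟨Submodule.Quotient.mk p, by simp [k]⟩
  have hex : Function.Exact f k := by
    intro y
    constructor
    · intro hy
      obtain ⟨y, rfl⟩ := Submodule.Quotient.mk_surjective _ y
      rw [Submodule.mapQ_apply, Submodule.Quotient.mk_eq_zero] at hy
      change y ∈ Ideal.span {g, b} at hy
      rw [Ideal.mem_span_pair] at hy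
      obtain ⟨u, v, huv⟩ := hy
      refine ⟨Submodule.Quotient.mk v, ?_⟩
      rw [Submodule.mapQ_apply, ← sub_eq_zero, ← Submodule.Quotient.mk_sub,
        Submodule.Quotient.mk_eq_zero]
      change b * v - y ∈ Ideal.span {g, a * b}
      rw [Ideal.mem_span_pair]
      exact ⟨-u, 0, by linear_combination -huv⟩
    · rintro ⟨x, rfl⟩
      obtain ⟨x, rfl⟩ := Submodule.Quotient.mk_surjective _ x
      rw [Submodule.mapQ_apply, Submodule.mapQ_apply, Submodule.Quotient.mk_eq_zero]
      change b * x ∈ Ideal.span {g, b}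
      exact Ideal.mul_mem_right _ _ (Ideal.subset_span (by simp))
  exact Module.length_eq_add_of_exact f k hf hk hex

theorem length_pair_prod {n : ℕ} (g : A) (f : Fin n → A) (h : ∀ i, Cop (f i) g) :
    Module.length A (A ⧸ Ideal.span {g, ∏ i, f i}) =
      ∑ i, Module.length A (A ⧸ Ideal.span {g, f i}) := by
  induction n with
  | zero =>
    have : Ideal.span {g, ∏ i : Fin 0, f i} = ⊤ := by
      rw [Ideal.eq_top_iff_one]
      exact Ideal.subset_span (by simp)
    have hs : Subsingleton (A ⧸ Ideal.span {g, ∏ i : Fin 0, f i}) := by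
      rw [this]; exact Submodule.Quotient.subsingleton_iff.mpr rfl
    rw [Module.length_eq_zero_iff.mpr hs]
    simp
  | succ n ih =>
    rw [Fin.prod_univ_succ, Fin.sum_univ_succ,
      length_pair_mul g (f 0) (∏ i : Fin n, f i.succ) (Cop.prod _ g fun i => h i.succ),
      ih (fun i => f i.succ) (fun i => h i.succ)]

end ring

end Groth.Agent.H14Lib.Cop
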