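import Mathlib
import Groth.Agent.H14Lib.Cop1

universe u

namespace Groth.Agent.H14Lib.Cop

variable {A : Type u} [CommRing A]

/-- `Φ_f : A → Π i, A/(f i)`. -/
def Phi {n : ℕ} (f : Fin n → A) : A →ₗ[A] ((i : Fin n) → A ⧸ Ideal.span {f i}) :=
  LinearMap.pi (fun i => Submodule.mkQ (Ideal.span {f i}))

theorem Phi_apply {n : ℕ} (f : Fin n → A) (x : A) (i : Fin n) :
    Phi f x i = Submodule.Quotient.mk x := rfl

theorem dvd_prod_of_forall {n : ℕ} (f : Fin n → A) (hcop : ∀ i j, i ≠ j → Cop (f i) (f j))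
    (x : A) (h : ∀ i, f i ∣ x) : ∏ i, f i ∣ x := by
  induction n with
  | zero => simp
  | succ n ih =>
    rw [Fin.prod_univ_succ]
    obtain ⟨u, hu⟩ := ih (fun i => f i.succ)
      (fun i j hij => hcop i.succ j.succ (fun h => hij (Fin.succ_injective _ h)))
      (fun i => h i.succ)
    have hc : Cop (∏ i : Fin n, f i.succ) (f 0) :=
      Cop.prod _ _ (fun i => hcop i.succ 0 (Fin.succ_ne_zero i))
    have h0 : f 0 ∣ (∏ i : Fin n, f i.succ) * u := hu ▸ h 0
    obtain ⟨w, hw⟩ := hc u h0
    exact ⟨w, by rw [hu, hw]; ring⟩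

theorem ker_Phi {n : ℕ} (f : Fin n → A) (hcop : ∀ i j, i ≠ j → Cop (f i) (f j)) :
    LinearMap.ker (Phi f) = Ideal.span {∏ i, f i} := by
  ext x
  rw [LinearMap.mem_ker, Ideal.mem_span_singleton]
  constructor
  · intro hx
    apply dvd_prod_of_forall f hcop
    intro i
    have := congrFun hx i
    rw [Phi_apply, Pi.zero_apply, Submodule.Quotient.mk_eq_zero] at this
    exact Ideal.mem_span_singleton.mp this
  · intro hx
    funext i
    rw [Phi_apply, Pi.zero_apply, Submodule.Quotient.mk_eq_zero]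
    exact Ideal.mem_span_singleton.mpr
      (dvd_trans (Finset.dvd_prod_of_mem f (Finset.mem_univ i)) hx)

theorem sum_pairs {M : Type*} [AddCommMonoid M] (n : ℕ) (h : Fin (n + 1) → Fin (n + 1) → M) :
    ∑ p ∈ (Finset.univ : Finset (Fin (n + 1) × Fin (n + 1))) with p.1 < p.2, h p.1 p.2 =
      ∑ j : Fin n, h 0 j.succ +
        ∑ p ∈ (Finset.univ : Finset (Fin n × Fin n)) with p.1 < p.2, h p.1.succ p.2.succ := by
  rw [Finset.sum_filter, Finset.sum_filter, Fintype.sum_prod_type, Fintype.sum_prod_type,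
    Fin.sum_univ_succ]
  congr 1
  · rw [Fin.sum_univ_succ]
    simp [Fin.succ_pos]
  · apply Finset.sum_congr rfl
    intro i _
    rw [Fin.sum_univ_succ]
    simp [Fin.succ_lt_succ_iff]

theorem length_coker_alpha (g F : A) :
    Module.length A (((A ⧸ Ideal.span {g}) × (A ⧸ Ideal.span {F})) ⧸
      LinearMap.range ((Submodule.mkQ (Ideal.span {g})).prod (Submodule.mkQ (Ideal.span {F})))) =
      Module.length A (A ⧸ Ideal.span {g, F}) := by
  have h1 : Ideal.span {g} ≤ Submodule.comap (LinearMap.id : A →ₗ[A] A) (Ideal.span {g, F}) := by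
    rw [Ideal.span_le]; intro x hx
    exact Ideal.subset_span (by simp at hx; simp [hx])
  have h2 : Ideal.span {F} ≤ Submodule.comap (LinearMap.id : A →ₗ[A] A) (Ideal.span {g, F}) := by
    rw [Ideal.span_le]; intro x hx
    exact Ideal.subset_span (by simp at hx; simp [hx])
  let π : ((A ⧸ Ideal.span {g}) × (A ⧸ Ideal.span {F})) →ₗ[A] (A ⧸ Ideal.span {g, F}) :=
    (Submodule.mapQ _ _ LinearMap.id h1) ∘ₗ LinearMap.fst A _ _ -
      (Submodule.mapQ _ _ LinearMap.id h2) ∘ₗ LinearMap.snd A _ _
  have hπ : ∀ a b : A, π (Submodule.Quotient.mk a, Submodule.Quotient.mk b) =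
      Submodule.Quotient.mk (a - b) := by
    intro a b
    simp [π, Submodule.mapQ_apply, Submodule.Quotient.mk_sub]
  apply length_coker_of_surjective _ π
  · intro y
    obtain ⟨z, rfl⟩ := Submodule.Quotient.mk_surjective _ y
    refine ⟨(Submodule.Quotient.mk z, Submodule.Quotient.mk 0), ?_⟩
    rw [hπ, sub_zero]
  · ext ⟨x, y⟩
    obtain ⟨a, rfl⟩ := Submodule.Quotient.mk_surjective _ x
    obtain ⟨b, rfl⟩ := Submodule.Quotient.mk_surjective _ y
    rw [LinearMap.mem_ker, hπ, Submodule.Quotient.mk_eq_zero, LinearMap.mem_range]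
    constructor
    · intro hab
      change a - b ∈ Ideal.span {g, F} at hab
      rw [Ideal.mem_span_pair] at hab
      obtain ⟨u, v, huv⟩ := hab
      refine ⟨a - u * g, ?_⟩
      refine Prod.ext ?_ ?_
      · change (Submodule.Quotient.mk (a - u * g) : A ⧸ Ideal.span {g}) = Submodule.Quotient.mk a
        rw [Submodule.Quotient.eq]
        change a - u * g - a ∈ Ideal.span {g}
        rw [Ideal.mem_span_singleton]
        exact ⟨-u, by ring⟩
      · change (Submodule.Quotient.mk (a - u * g) : A ⧸ Ideal.span {F}) = Submodule.Quotient.mk b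
        rw [Submodule.Quotient.eq]
        change a - u * g - b ∈ Ideal.span {F}
        rw [Ideal.mem_span_singleton]
        exact ⟨v, by linear_combination -huv⟩
    · rintro ⟨z, hz⟩
      have hz1' : (Submodule.Quotient.mk z : A ⧸ Ideal.span {g}) = Submodule.Quotient.mk a :=
        congrArg Prod.fst hz
      have hz2' : (Submodule.Quotient.mk z : A ⧸ Ideal.span {F}) = Submodule.Quotient.mk b :=
        congrArg Prod.snd hz
      rw [Submodule.Quotient.eq] at hz1' hz2'
      have hz1 : z - a ∈ Ideal.span {g} := hz1'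
      have hz2 : z - b ∈ Ideal.span {F} := hz2'
      change a - b ∈ Ideal.span {g, F}
      have e1 : Ideal.span {g} ≤ Ideal.span {g, F} := Ideal.span_mono (by simp)
      have e2 : Ideal.span {F} ≤ Ideal.span {g, F} := Ideal.span_mono (by simp)
      have : a - b = (z - b) - (z - a) := by ring
      rw [this]
      exact Ideal.sub_mem _ (e2 hz2) (e1 hz1)

theorem length_coker_Phi {n : ℕ} (f : Fin n → A) (hcop : ∀ i j, i ≠ j → Cop (f i) (f j)) :
    Module.length A (((i : Fin n) → A ⧸ Ideal.span {f i}) ⧸ LinearMap.range (Phi f)) =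
      ∑ p ∈ (Finset.univ : Finset (Fin n × Fin n)) with p.1 < p.2,
        Module.length A (A ⧸ Ideal.span ({f p.1, f p.2} : Set A)) := by
  induction n with
  | zero =>
    rw [Module.length_eq_zero]
    simp
  | succ n ih =>
    have hcop' : ∀ i j : Fin n, i ≠ j → Cop (f i.succ) (f j.succ) :=
      fun i j hij => hcop i.succ j.succ (fun h => hij (Fin.succ_injective _ h))
    have IH := ih (fun i => f i.succ) hcop'
    rw [sum_pairs n (fun i j => Module.length A (A ⧸ Ideal.span ({f i, f j} : Set A))), ← IH]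
    -- decomposition
    let e := Fin.consLinearEquiv A (fun i : Fin (n + 1) => A ⧸ Ideal.span {f i})
    have hker := ker_Phi (fun i => f i.succ) hcop'
    let φ' : (A ⧸ Ideal.span {∏ i : Fin n, f i.succ}) →ₗ[A]
        ((i : Fin n) → A ⧸ Ideal.span {f i.succ}) :=
      Submodule.liftQ _ (Phi (fun i => f i.succ)) (le_of_eq hker.symm)
    have hφ'inj : Function.Injective φ' := by
      rw [← LinearMap.ker_eq_bot]
      exact Submodule.ker_liftQ_eq_bot _ _ _ (le_of_eq hker)
    have hφ'range : LinearMap.range φ' = LinearMap.range (Phi (fun i => f i.succ)) :=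
      Submodule.range_liftQ _ _ _
    let α' : A →ₗ[A] ((A ⧸ Ideal.span {f 0}) × (A ⧸ Ideal.span {∏ i : Fin n, f i.succ})) :=
      (Submodule.mkQ (Ideal.span {f 0})).prod (Submodule.mkQ (Ideal.span {∏ i : Fin n, f i.succ}))
    let β : ((A ⧸ Ideal.span {f 0}) × (A ⧸ Ideal.span {∏ i : Fin n, f i.succ})) →ₗ[A]
        ((A ⧸ Ideal.span {f 0}) × ((i : Fin n) → A ⧸ Ideal.span {f i.succ})) :=
      (LinearMap.id : (A ⧸ Ideal.span {f 0}) →ₗ[A] (A ⧸ Ideal.span {f 0})).prodMap φ'
    have hβinj : Function.Injective β := by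
      intro x y hxy
      have h1 : x.1 = y.1 := by
        have := congrArg Prod.fst hxy
        exact this
      have h2 : φ' x.2 = φ' y.2 := by
        have := congrArg Prod.snd hxy
        exact this
      exact Prod.ext h1 (hφ'inj h2)
    have hPhi : Phi f = e.toLinearMap ∘ₗ (β ∘ₗ α') := by
      apply LinearMap.ext
      intro x
      funext i
      refine Fin.cases ?_ (fun j => ?_) i
      · rfl
      · rfl
    rw [hPhi, length_coker_equiv_comp, length_coker_comp α' β hβinj, length_coker_prodMap,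
      hφ'range, length_coker_alpha,
      length_pair_prod (f 0) (fun i => f i.succ) (fun i => hcop i.succ 0 (Fin.succ_ne_zero i))]

end Groth.Agent.H14Lib.Cop
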