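import Mathlib

/-!
# Algebra maps out of the divided power algebra from families of square-zero elements
-/

namespace Groth.Agent.H14Lib.DPcyc

open Polynomial

section LemmaE

variable {T : Type*} [CommRing T] {ι : Type*}

/-- the generating polynomial of the elementary symmetric functions -/
noncomputable def EE (s : Finset ι) (c : ι → T) : T[X] := ∏ l ∈ s, (1 + X * C (c l))

theorem EE_insert [DecidableEq ι] {a : ι} {s : Finset ι} (ha : a ∉ s) (c : ι → T) :
    EE (insert a s) c = (1 + X * C (c a)) * EE s c := by
  rw [EE, Finset.prod_insert ha, EE]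

theorem coeff_succ_step (p : T[X]) (c : T) (n : ℕ) :
    ((1 + X * C c) * p).coeff (n + 1) = p.coeff (n + 1) + c * p.coeff n := by
  rw [add_mul, one_mul, coeff_add, mul_assoc, coeff_X_mul, coeff_C_mul]

theorem coeff_zero_step (p : T[X]) (c : T) :
    ((1 + X * C c) * p).coeff 0 = p.coeff 0 := by
  rw [add_mul, one_mul, coeff_add, mul_assoc, coeff_X_mul_zero, add_zero]

theorem coeff_zero_EE (s : Finset ι) (c : ι → T) : (EE s c).coeff 0 = 1 := by
  classical
  induction s using Finset.induction_on with
  | empty => simp [EE]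
  | insert a s ha ih => rw [EE_insert ha, coeff_zero_step, ih]

theorem EE_smul (s : Finset ι) (c : ι → T) (r : T) (n : ℕ) :
    (EE s (fun l => r * c l)).coeff n = r ^ n * (EE s c).coeff n := by
  classical
  induction s using Finset.induction_on generalizing n with
  | empty =>
    simp only [EE, Finset.prod_empty, coeff_one]
    split_ifs with h
    · subst h
      simp
    · rw [mul_zero]
  | insert a s ha ih =>
    rw [EE_insert ha, EE_insert ha]
    cases n with
    | zero => rw [coeff_zero_step, coeff_zero_step, ih, pow_zero]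
    | succ n =>
      rw [coeff_succ_step, coeff_succ_step, ih, ih]
      ring

theorem EE_add (s : Finset ι) (u v : ι → T) (h : ∀ l ∈ s, u l * v l = 0) :
    EE s (fun l => u l + v l) = EE s u * EE s v := by
  rw [EE, EE, EE, ← Finset.prod_mul_distrib]
  refine Finset.prod_congr rfl fun l hl => ?_
  have : (1 + X * C (u l)) * (1 + X * C (v l)) =
      1 + X * C (u l + v l) + X ^ 2 * C (u l * v l) := by
    rw [C_add, C_mul]
    ring
  rw [this, h l hl, C_0, mul_zero, add_zero]

theorem EE_mul (s : Finset ι) (c : ι → T) (h : ∀ l ∈ s, c l * c l = 0) (n p : ℕ) :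
    (EE s c).coeff n * (EE s c).coeff p = (n + p).choose n • (EE s c).coeff (n + p) := by
  classical
  induction s using Finset.induction_on generalizing n p with
  | empty =>
    simp only [EE, Finset.prod_empty, coeff_one]
    by_cases hn : n = 0
    · by_cases hp : p = 0
      · subst hn hp
        simp
      · have : ¬ (n + p = 0) := by omega
        rw [if_neg hp, if_neg this, mul_zero, smul_zero]
    · have : ¬ (n + p = 0) := by omega
      rw [if_neg hn, if_neg this, zero_mul, smul_zero]
  | insert a s ha ih =>
    have ih' := ih (fun l hl => h l (Finset.mem_insert_of_mem hl))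
    have hc : c a * c a = 0 := h a (Finset.mem_insert_self _ _)
    rw [EE_insert ha]
    cases n with
    | zero =>
      rw [coeff_zero_step, coeff_zero_EE, one_mul, zero_add, Nat.choose_zero_right, one_smul]
    | succ n =>
      cases p with
      | zero =>
        rw [coeff_zero_step, coeff_zero_EE, mul_one, add_zero, Nat.choose_self, one_smul]
      | succ p =>
        have e : n + 1 + (p + 1) = (n + p + 1) + 1 := by ring
        rw [e, coeff_succ_step, coeff_succ_step, coeff_succ_step]
        have h1 := ih' (n + 1) (p + 1)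
        have h2 := ih' n (p + 1)
        have h3 := ih' (n + 1) p
        have h4 : n + 1 + (p + 1) = n + p + 1 + 1 := by ring
        have h5 : n + (p + 1) = n + p + 1 := by ring
        have h6 : n + 1 + p = n + p + 1 := by ring
        rw [h4] at h1
        rw [h5] at h2
        rw [h6] at h3
        have hch : ((n + p + 1 + 1).choose (n + 1) : T) =
            ((n + p + 1).choose n : T) + ((n + p + 1).choose (n + 1) : T) := by
          rw [Nat.choose_succ_succ' (n + p + 1) n, Nat.cast_add]
        simp only [nsmul_eq_mul] at h1 h2 h3 ⊢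
        linear_combination h1 + c a * h2 + c a * h3 +
          ((EE s c).coeff n * (EE s c).coeff p) * hc - (c a * (EE s c).coeff (n + p + 1)) * hch

theorem coeff_EE (s : Finset ι) (c : ι → T) (n : ℕ) :
    (EE s c).coeff n = ∑ I ∈ s.powersetCard n, ∏ l ∈ I, c l := by
  classical
  rw [EE, Finset.prod_one_add, finsetSum_coeff, Finset.powersetCard_eq_filter, Finset.sum_filter]
  refine Finset.sum_congr rfl fun I _ => ?_
  rw [Finset.prod_mul_distrib, Finset.prod_const, ← map_prod, mul_comm, C_mul_X_pow_eq_monomial,
    coeff_monomial]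

end LemmaE

section Lift

variable {R : Type*} [CommRing R] {M : Type*} [AddCommGroup M] [Module R M]
  {T : Type*} [CommRing T] [Algebra R T] {ι : Type*}

/-- the algebra map defined by a family of additive, homogeneous maps with square-zero images -/
noncomputable def Phi (z : ι → M → T) (s : Finset ι)
    (hadd : ∀ l u v, z l (u + v) = z l u + z l v)
    (hsmul : ∀ l (r : R) m, z l (r • m) = algebraMap R T r * z l m)
    (hz : ∀ l ∈ s, ∀ u v, z l u * z l v = 0) : DividedPowerAlgebra R M →ₐ[R] T :=
  DividedPowerAlgebra.lift' (f := fun nm => (EE s (fun l => z l nm.2)).coeff nm.1)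
    (fun m => coeff_zero_EE s _)
    (fun n r m => by
      simp only [hsmul]
      rw [EE_smul, Algebra.smul_def, map_pow])
    (fun n p m => EE_mul s _ (fun l hl => hz l hl m m) n p)
    (fun n u v => by
      simp only [hadd]
      rw [EE_add s _ _ (fun l hl => hz l hl u v), coeff_mul])

theorem Phi_dp (z : ι → M → T) (s : Finset ι)
    (hadd : ∀ l u v, z l (u + v) = z l u + z l v)
    (hsmul : ∀ l (r : R) m, z l (r • m) = algebraMap R T r * z l m)
    (hz : ∀ l ∈ s, ∀ u v, z l u * z l v = 0) (n : ℕ) (m : M) :
    Phi z s hadd hsmul hz (DividedPowerAlgebra.dp R n m) = (EE s (fun l => z l m)).coeff n := by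
  rw [Phi, DividedPowerAlgebra.lift'_apply_dp]

/-- a product of complementary elementary symmetric functions -/
theorem es_mul_es_compl [Fintype ι] [DecidableEq ι] (ξ η : ι → T) (h : ∀ l, ξ l * η l = 0)
    (k k' : ℕ) (hk : k + k' = Fintype.card ι) :
    (∑ I ∈ (Finset.univ : Finset ι).powersetCard k, ∏ l ∈ I, ξ l) *
      (∑ I' ∈ (Finset.univ : Finset ι).powersetCard k', ∏ l ∈ I', η l) =
    ∑ I ∈ (Finset.univ : Finset ι).powersetCard k, (∏ l ∈ I, ξ l) * ∏ l ∈ Iᶜ, η l := by
  rw [Finset.sum_mul]
  refine Finset.sum_congr rfl fun I hI => ?_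
  rw [Finset.mul_sum]
  have hIc : I.card = k := (Finset.mem_powersetCard.mp hI).2
  have hcompl : Iᶜ ∈ (Finset.univ : Finset ι).powersetCard k' := by
    rw [Finset.mem_powersetCard]
    refine ⟨Finset.subset_univ _, ?_⟩
    rw [Finset.card_compl, hIc]
    omega
  rw [Finset.sum_eq_single_of_mem Iᶜ hcompl]
  intro I' hI' hne
  have hI'c : I'.card = k' := (Finset.mem_powersetCard.mp hI').2
  -- `I` and `I'` meet
  have hmeet : ∃ l, l ∈ I ∧ l ∈ I' := by
    by_contra hcon
    push Not at hcon
    apply hne
    apply Finset.eq_of_subset_of_card_le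
    · intro l hl
      rw [Finset.mem_compl]
      exact fun hlI => hcon l hlI hl
    · rw [Finset.card_compl, hIc, hI'c]
      omega
  obtain ⟨l, hl, hl'⟩ := hmeet
  rw [← Finset.mul_prod_erase I _ hl, ← Finset.mul_prod_erase I' _ hl']
  have : (ξ l * ∏ x ∈ I.erase l, ξ x) * (η l * ∏ x ∈ I'.erase l, η x) =
      (ξ l * η l) * ((∏ x ∈ I.erase l, ξ x) * ∏ x ∈ I'.erase l, η x) := by ring
  rw [this, h l, zero_mul]

end Lift

end Groth.Agent.H14Lib.DPcyc
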