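import Mathlib
import Groth.Agent.H14Lib.BCk2
import Groth.Agent.H14Lib.BCk6

/-!
# Finite generation of the algebra of symmetric tensors of a polynomial ring
-/

open scoped TensorProduct

namespace Groth.Agent.H14Lib.GamFT

universe u

open Groth.Agent.H14Lib.CH Groth.Agent.H14Lib.GamN Groth.Agent.H14Lib.BCk MvPolynomial

section Noether

variable {A : Type u} [CommRing A] {P : Type u} [CommRing P] [Algebra A P] {d : ℕ}

theorem perm_one (t : ⨂[A] _ : Fin d, P) : SymTen.perm A P d 1 t = t := by
  induction t using PiTensorProduct.induction_on with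
  | smul_tprod r f =>
    rw [map_smul, SymTen.perm_tprod]
    rfl
  | add x y hx hy => rw [map_add, hx, hy]

theorem perm_mul (σ τ : Equiv.Perm (Fin d)) (t : ⨂[A] _ : Fin d, P) :
    SymTen.perm A P d (σ * τ) t = SymTen.perm A P d σ (SymTen.perm A P d τ t) := by
  induction t using PiTensorProduct.induction_on with
  | smul_tprod r f =>
    simp only [map_smul, SymTen.perm_tprod]
    rfl
  | add x y hx hy => rw [map_add, hx, hy, map_add, map_add]

/-- the permutation action on the tensor power -/
@[reducible] noncomputable def permAction (A : Type u) [CommRing A] (P : Type u) [CommRing P]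
    [Algebra A P] (d : ℕ) : MulSemiringAction (Equiv.Perm (Fin d)) (⨂[A] _ : Fin d, P) where
  smul σ t := SymTen.perm A P d σ t
  one_smul t := perm_one t
  mul_smul σ τ t := perm_mul σ τ t
  smul_zero _ := map_zero _
  smul_add _ _ _ := map_add _ _ _
  smul_one _ := map_one _
  smul_mul _ _ _ := map_mul _ _ _

theorem finiteType_tensorPower [Algebra.FiniteType A P] :
    Algebra.FiniteType A (⨂[A] _ : Fin d, P) := by
  classical
  obtain ⟨s, hs⟩ := (Algebra.FiniteType.out : (⊤ : Subalgebra A P).FG)
  refine ⟨⟨Finset.univ.biUnion (fun k : Fin d => s.image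
    (PiTensorProduct.singleAlgHom (R := A) (A := fun _ : Fin d => P) k)), ?_⟩⟩
  rw [eq_top_iff]
  intro t _
  have hsingle : ∀ (k : Fin d) (p : P),
      PiTensorProduct.singleAlgHom (R := A) (A := fun _ : Fin d => P) k p ∈
        Algebra.adjoin A ((Finset.univ.biUnion (fun k : Fin d => s.image
          (PiTensorProduct.singleAlgHom (R := A) (A := fun _ : Fin d => P) k)) :
            Finset (⨂[A] _ : Fin d, P)) : Set (⨂[A] _ : Fin d, P)) := by
    intro k p
    have hp : p ∈ Algebra.adjoin A (s : Set P) := by rw [hs]; trivial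
    have h1 : PiTensorProduct.singleAlgHom (R := A) (A := fun _ : Fin d => P) k p ∈
        (Algebra.adjoin A (s : Set P)).map
          (PiTensorProduct.singleAlgHom (R := A) (A := fun _ : Fin d => P) k) := ⟨p, hp, rfl⟩
    rw [AlgHom.map_adjoin] at h1
    refine Algebra.adjoin_mono ?_ h1
    rintro _ ⟨p', hp', rfl⟩
    simp only [Finset.coe_biUnion, Finset.coe_univ, Set.mem_univ, Set.iUnion_true, Set.mem_iUnion,
      Finset.coe_image]
    exact ⟨k, p', hp', rfl⟩
  induction t using PiTensorProduct.induction_on with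
  | smul_tprod r f =>
    rw [← prod_singleAlgHom]
    exact Subalgebra.smul_mem _ (Subalgebra.prod_mem _ fun k _ => hsingle k (f k)) r
  | add x y hx hy => exact Subalgebra.add_mem _ (hx trivial) (hy trivial)

theorem finiteType_TS_of_noetherian [IsNoetherianRing A] [Algebra.FiniteType A P] :
    Algebra.FiniteType A (SymTen.TS A P d) := by
  letI := permAction A P d
  haveI : Algebra.IsInvariant (SymTen.TS A P d) (⨂[A] _ : Fin d, P) (Equiv.Perm (Fin d)) :=
    ⟨fun b hb => ⟨⟨b, fun σ => by rw [← SymTen.perm_apply]; exact hb σ⟩, rfl⟩⟩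
  haveI : Algebra.IsIntegral (SymTen.TS A P d) (⨂[A] _ : Fin d, P) :=
    Algebra.IsInvariant.isIntegral (SymTen.TS A P d) (⨂[A] _ : Fin d, P) (Equiv.Perm (Fin d))
  haveI : Algebra.FiniteType A (⨂[A] _ : Fin d, P) := finiteType_tensorPower
  haveI : Algebra.FiniteType (SymTen.TS A P d) (⨂[A] _ : Fin d, P) :=
    Algebra.FiniteType.of_restrictScalars_finiteType A (SymTen.TS A P d) (⨂[A] _ : Fin d, P)
  haveI : Module.Finite (SymTen.TS A P d) (⨂[A] _ : Fin d, P) := Algebra.IsIntegral.finite
  exact ⟨fg_of_fg_of_fg A (SymTen.TS A P d) (⨂[A] _ : Fin d, P) Algebra.FiniteType.out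
    Module.Finite.fg_top Subtype.val_injective⟩

end Noether

section BC

variable (A : Type u) [CommRing A] (n d : ℕ)

/-- the monomial basis, indexed in `Type u` -/
noncomputable def basU (R : Type u) [CommRing R] :
    Module.Basis (ULift.{u} (Fin n →₀ ℕ)) R (MvPolynomial (Fin n) R) :=
  (MvPolynomial.basisMonomials (Fin n) R).reindex Equiv.ulift.symm

theorem basU_apply (R : Type u) [CommRing R] (m : ULift.{u} (Fin n →₀ ℕ)) :
    basU n R m = monomial m.down (1 : R) := by
  simp [basU]

theorem finiteType_TS_mvPolynomial :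
    Algebra.FiniteType A (SymTen.TS A (MvPolynomial (Fin n) A) d) := by
  classical
  haveI : IsNoetherianRing (ULift.{u} ℤ) := isNoetherianRing_of_ringEquiv ℤ ULift.ringEquiv.symm
  have h0 : Algebra.FiniteType (ULift.{u} ℤ)
      (SymTen.TS (ULift.{u} ℤ) (MvPolynomial (Fin n) (ULift.{u} ℤ)) d) :=
    finiteType_TS_of_noetherian
  obtain ⟨s, hs⟩ := h0.out
  letI : Algebra (ULift.{u} ℤ) A := ULift.algebra' ℤ A
  let f : MvPolynomial (Fin n) (ULift.{u} ℤ) →ₐ[ULift.{u} ℤ] MvPolynomial (Fin n) A :=
    MvPolynomial.mapAlgHom (Algebra.ofId (ULift.{u} ℤ) A)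
  let ι := iotaT (A := ULift.{u} ℤ) (k := A) d f
  have hf : ∀ m, f (basU n (ULift.{u} ℤ) m) = basU n A m := by
    intro m
    rw [basU_apply, basU_apply]
    show MvPolynomial.map _ (monomial m.down 1) = _
    rw [MvPolynomial.map_monomial, map_one]
  have horb : ∀ ν, ι (orbSum (basU n (ULift.{u} ℤ)) d ν) = orbSum (basU n A) d ν := by
    intro ν
    rw [orbSum, orbSum, map_sum]
    refine Finset.sum_congr rfl fun x _ => ?_
    rw [iotaT_tprod]
    simp only [hf]
  rw [← Subalgebra.fg_iff_finiteType]
  refine ⟨s.image (fun g => ι g.1), le_antisymm ?_ ?_⟩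
  · rw [Algebra.adjoin_le_iff]
    intro t ht
    simp only [Finset.coe_image, Set.mem_image, Finset.mem_coe] at ht
    obtain ⟨g, _, rfl⟩ := ht
    exact iotaT_mem_TS d f g.2
  · intro z hz
    have hz' := TS_mem_span_orbit (basU n A) hz
    have hle : Submodule.span A (Set.range (orbSum (basU n A) d)) ≤
        Subalgebra.toSubmodule (Algebra.adjoin A
          ((s.image (fun g => ι g.1) : Finset _) : Set (⨂[A] _ : Fin d, MvPolynomial (Fin n) A))) := by
      rw [Submodule.span_le]
      rintro _ ⟨ν, rfl⟩
      rw [← horb ν]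
      have hmem : (⟨orbSum (basU n (ULift.{u} ℤ)) d ν, orbSum_mem_TS _ ν⟩ :
          SymTen.TS (ULift.{u} ℤ) (MvPolynomial (Fin n) (ULift.{u} ℤ)) d) ∈
          Algebra.adjoin (ULift.{u} ℤ) (s : Set _) := by rw [hs]; trivial
      have key : ∀ g ∈ Algebra.adjoin (ULift.{u} ℤ)
          (s : Set (SymTen.TS (ULift.{u} ℤ) (MvPolynomial (Fin n) (ULift.{u} ℤ)) d)),
          ι g.1 ∈ Algebra.adjoin A
            ((s.image (fun g => ι g.1) : Finset _) : Set (⨂[A] _ : Fin d, MvPolynomial (Fin n) A)) := by
        intro g hg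
        induction hg using Algebra.adjoin_induction with
        | mem x hx =>
          refine Algebra.subset_adjoin ?_
          simp only [Finset.coe_image, Set.mem_image, Finset.mem_coe]
          exact ⟨x, hx, rfl⟩
        | algebraMap r =>
          have : ι ((algebraMap (ULift.{u} ℤ)
              (SymTen.TS (ULift.{u} ℤ) (MvPolynomial (Fin n) (ULift.{u} ℤ)) d) r).1) =
              algebraMap A _ (algebraMap (ULift.{u} ℤ) A r) := by
            rw [← IsScalarTower.algebraMap_apply]
            exact ι.commutes r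
          rw [this]
          exact Subalgebra.algebraMap_mem _ _
        | add x y _ _ hx hy =>
          rw [Subalgebra.coe_add, map_add]
          exact Subalgebra.add_mem _ hx hy
        | mul x y _ _ hx hy =>
          rw [Subalgebra.coe_mul, map_mul]
          exact Subalgebra.mul_mem _ hx hy
      exact key _ hmem
    exact hle hz'

end BC

end Groth.Agent.H14Lib.GamFT
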