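import Mathlib
import Groth.Prelude.Def_SymTen
import Groth.Agent.H14Lib.GamFT

/-!
# Symmetric tensors of a graded algebra: general lemmas
-/

set_option autoImplicit false
universe u
open scoped TensorProduct

namespace Groth.Agent.H14Lib.SymProj

section Avoid

/-- homogeneous prime avoidance -/
theorem homog_avoid {R : Type*} [CommRing R] {σ : Type*} [SetLike σ R] [AddSubmonoidClass σ R]
    (𝒜 : ℕ → σ) [SetLike.GradedMonoid 𝒜] {ι : Type*} [DecidableEq ι] (P : ι → Ideal R)
    (hP : ∀ i, (P i).IsPrime) :
    ∀ (r : ℕ) (s : Finset ι), s.card = r → (∀ i ∈ s, ∃ n, 0 < n ∧ ∃ g ∈ 𝒜 n, g ∉ P i) →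
      ∃ n, 0 < n ∧ ∃ g ∈ 𝒜 n, ∀ i ∈ s, g ∉ P i := by
  intro r
  induction r with
  | zero =>
    intro s hs _
    rw [Finset.card_eq_zero] at hs
    subst hs
    exact ⟨1, Nat.one_pos, 0, zero_mem _, fun i hi => absurd hi (Finset.notMem_empty i)⟩
  | succ r ih =>
    intro s hs h
    rcases Nat.eq_zero_or_pos r with hr | hr
    · subst hr
      obtain ⟨j, rfl⟩ := Finset.card_eq_one.mp hs
      obtain ⟨n, hn, g, hg, hgj⟩ := h j (Finset.mem_singleton_self j)
      exact ⟨n, hn, g, hg, fun i hi => by rw [Finset.mem_singleton.mp hi]; exact hgj⟩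
    · have hIH : ∀ j ∈ s, ∃ n, 0 < n ∧ ∃ g ∈ 𝒜 n, ∀ i ∈ s.erase j, g ∉ P i := by
        intro j hj
        refine ih (s.erase j) ?_ ?_
        · rw [Finset.card_erase_of_mem hj, hs]; rfl
        · intro i hi
          exact h i (Finset.mem_of_mem_erase hi)
      choose! nn hnn z hz hgood using hIH
      by_cases hex : ∃ j ∈ s, z j ∉ P j
      · obtain ⟨j, hj, hzj⟩ := hex
        refine ⟨nn j, hnn j hj, z j, hz j hj, fun i hi => ?_⟩
        by_cases hij : i = j
        · rw [hij]; exact hzj
        · exact hgood j hj i (Finset.mem_erase.mpr ⟨hij, hi⟩)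
      · push Not at hex
        have hne : s.Nonempty := by
          rw [← Finset.card_pos, hs]; exact Nat.succ_pos r
        obtain ⟨j₀, hj₀⟩ := hne
        have hcard' : (s.erase j₀).card = r := by
          rw [Finset.card_erase_of_mem hj₀, hs]; rfl
        have hne' : (s.erase j₀).Nonempty := by
          rw [← Finset.card_pos, hcard']; exact hr
        obtain ⟨j₁, hj₁⟩ := hne'
        have hNpos : 0 < ∑ j ∈ s.erase j₀, nn j := by
          have h1 : nn j₁ ≤ ∑ j ∈ s.erase j₀, nn j :=
            Finset.single_le_sum (f := nn) (fun _ _ => Nat.zero_le _) hj₁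
          have h2 := hnn j₁ (Finset.mem_of_mem_erase hj₁)
          omega
        have hu_mem : ∏ j ∈ s.erase j₀, z j ∈ 𝒜 (∑ j ∈ s.erase j₀, nn j) :=
          SetLike.prod_mem_graded 𝒜 nn z (fun j hj => hz j (Finset.mem_of_mem_erase hj))
        have hv_mem : z j₀ ∈ 𝒜 (nn j₀) := hz j₀ hj₀
        have hn₀ := hnn j₀ hj₀
        refine ⟨nn j₀ * ∑ j ∈ s.erase j₀, nn j, Nat.mul_pos hn₀ hNpos,
          (∏ j ∈ s.erase j₀, z j) ^ nn j₀ + z j₀ ^ (∑ j ∈ s.erase j₀, nn j), ?_, ?_⟩
        · refine add_mem ?_ ?_
          · have := SetLike.pow_mem_graded (nn j₀) hu_mem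
            rwa [smul_eq_mul] at this
          · have := SetLike.pow_mem_graded (∑ j ∈ s.erase j₀, nn j) hv_mem
            rwa [smul_eq_mul, mul_comm] at this
        · intro i hi
          by_cases hij : i = j₀
          · rw [hij]
            intro hmem
            have hv : z j₀ ^ (∑ j ∈ s.erase j₀, nn j) ∈ P j₀ :=
              Ideal.pow_mem_of_mem _ (hex j₀ hj₀) _ hNpos
            have hu' : (∏ j ∈ s.erase j₀, z j) ^ nn j₀ ∈ P j₀ :=
              (Ideal.add_mem_iff_left _ hv).mp hmem
            have hu'' : ∏ j ∈ s.erase j₀, z j ∈ P j₀ := (hP j₀).mem_of_pow_mem _ hu'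
            haveI := hP j₀
            rw [Ideal.IsPrime.prod_mem_iff] at hu''
            obtain ⟨j, hj, hzj⟩ := hu''
            exact hgood j (Finset.mem_of_mem_erase hj) j₀
              (Finset.mem_erase.mpr ⟨(Finset.ne_of_mem_erase hj).symm, hj₀⟩) hzj
          · have hi' : i ∈ s.erase j₀ := Finset.mem_erase.mpr ⟨hij, hi⟩
            intro hmem
            have hu' : ∏ j ∈ s.erase j₀, z j ∈ P i := by
              rw [← Finset.mul_prod_erase _ _ hi']
              exact Ideal.mul_mem_right _ _ (hex i hi)
            have hun : (∏ j ∈ s.erase j₀, z j) ^ nn j₀ ∈ P i :=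
              Ideal.pow_mem_of_mem _ hu' _ hn₀
            have hv : z j₀ ^ (∑ j ∈ s.erase j₀, nn j) ∈ P i :=
              (Ideal.add_mem_iff_right _ hun).mp hmem
            exact hgood j₀ hj₀ i hi' ((hP i).mem_of_pow_mem _ hv)

/-- avoiding finitely many nonzero functionals with few scalars -/
theorem scalar_avoid {A K M : Type*} [CommRing A] [Field K] [AddCommGroup M] [Module A M]
    (φ : A →+* K) {ι : Type*} [DecidableEq ι] (L : ι → M → K)
    (hadd : ∀ i m m', L i (m + m') = L i m + L i m')
    (hsmul : ∀ i (a : A) m, L i (a • m) = φ a * L i m)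
    (N : ℕ) (μ : Fin N → A) (hμ : ∀ a a', a ≠ a' → φ (μ a - μ a') ≠ 0) :
    ∀ s : Finset ι, s.card ≤ N → (∀ i ∈ s, ∃ m, L i m ≠ 0) → ∃ m, ∀ i ∈ s, L i m ≠ 0 := by
  intro s
  induction s using Finset.induction_on with
  | empty => intro _ _; exact ⟨0, fun i hi => absurd hi (Finset.notMem_empty i)⟩
  | insert i₀ s hi₀ ih =>
    intro hcard h
    rw [Finset.card_insert_of_notMem hi₀] at hcard
    obtain ⟨m, hm⟩ := ih (by omega) (fun i hi => h i (Finset.mem_insert_of_mem hi))
    by_cases h0 : L i₀ m ≠ 0
    · refine ⟨m, fun i hi => ?_⟩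
      rcases Finset.mem_insert.mp hi with rfl | hi
      · exact h0
      · exact hm i hi
    · push Not at h0
      obtain ⟨m', hm'⟩ := h i₀ (Finset.mem_insert_self i₀ s)
      by_contra hcon
      push Not at hcon
      have key : ∀ a : Fin N, ∃ i ∈ s, L i (m' + μ a • m) = 0 := by
        intro a
        obtain ⟨i, hi, hLi⟩ := hcon (m' + μ a • m)
        rcases Finset.mem_insert.mp hi with rfl | hi
        · exfalso
          rw [hadd, hsmul, h0, mul_zero, add_zero] at hLi
          exact hm' hLi
        · exact ⟨i, hi, hLi⟩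
      choose g hg hg0 using key
      have hinj : Function.Injective g := by
        intro a a' haa
        by_contra hne
        have h1 := hg0 a
        have h2 := hg0 a'
        rw [haa] at h1
        rw [hadd, hsmul] at h1 h2
        have h3 : φ (μ a - μ a') * L (g a') m = 0 := by
          rw [map_sub, sub_mul]
          linear_combination h1 - h2
        rcases mul_eq_zero.mp h3 with h4 | h4
        · exact hμ a a' hne h4
        · exact hm (g a') (hg a') h4
      have hle : Fintype.card (Fin N) ≤ s.card := by
        have := Finset.card_le_card_of_injOn g (s := Finset.univ) (t := s)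
          (fun a _ => hg a) hinj.injOn
        simpa using this
      rw [Fintype.card_fin] at hle
      omega

end Avoid

section Graded

variable {A B : Type u} [CommRing A] [CommRing B] [Algebra A B]
  (𝒜 : ℕ → Submodule A B) [GradedAlgebra 𝒜]

/-- the set of products `e * g`, `e` of degree one, `g` of degree `k - 1` -/
def prodSet (k : ℕ) : Set B := {z | ∃ e ∈ 𝒜 1, ∃ g ∈ 𝒜 (k - 1), z = e * g}

theorem le_span_prodSet (hgen : Algebra.adjoin A (𝒜 1 : Set B) = ⊤) (k : ℕ) (hk : 0 < k) :
    𝒜 k ≤ Submodule.span A (prodSet 𝒜 k) := by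
  have stepA : ∀ m ∈ Submonoid.closure (𝒜 1 : Set B),
      ∃ n, m ∈ 𝒜 n ∧ (0 < n → m ∈ Submodule.span A (prodSet 𝒜 n)) := by
    intro m hm
    induction hm using Submonoid.closure_induction_left with
    | one => exact ⟨0, SetLike.one_mem_graded 𝒜, fun h => absurd h (lt_irrefl 0)⟩
    | mul_left x hx y hy ih =>
      obtain ⟨n, hyn, _⟩ := ih
      refine ⟨1 + n, SetLike.mul_mem_graded hx hyn, fun _ => Submodule.subset_span ?_⟩
      exact ⟨x, hx, y, by rwa [Nat.add_sub_cancel_left], rfl⟩
  have stepB : ∀ z : B, ∀ k, 0 < k → GradedAlgebra.proj 𝒜 k z ∈ Submodule.span A (prodSet 𝒜 k) := by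
    intro z
    have hz : z ∈ Submodule.span A (Submonoid.closure (𝒜 1 : Set B) : Set B) := by
      rw [← Algebra.adjoin_eq_span, hgen]
      trivial
    induction hz using Submodule.span_induction with
    | mem m hm =>
      intro k hk
      obtain ⟨n, hmn, hN⟩ := stepA m hm
      rw [GradedAlgebra.proj_apply]
      by_cases hnk : n = k
      · subst hnk
        rw [DirectSum.decompose_of_mem_same 𝒜 hmn]
        exact hN hk
      · rw [DirectSum.decompose_of_mem_ne 𝒜 hmn hnk]
        exact zero_mem _
    | zero => intro k _; rw [map_zero]; exact zero_mem _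
    | add x y _ _ hx hy => intro k hk; rw [map_add]; exact add_mem (hx k hk) (hy k hk)
    | smul a x _ hx => intro k hk; rw [map_smul]; exact Submodule.smul_mem _ _ (hx k hk)
  intro z hz
  have := stepB z k hk
  rwa [GradedAlgebra.proj_apply, DirectSum.decompose_of_mem_same 𝒜 hz] at this

end Graded

section Tensor

variable {A B : Type u} [CommRing A] [CommRing B] [Algebra A B] {d : ℕ}

theorem tprod_pow (m : Fin d → B) (n : ℕ) :
    (PiTensorProduct.tprod A m) ^ n = PiTensorProduct.tprod A (fun l => m l ^ n) := by
  induction n with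
  | zero =>
    simp only [pow_zero]
    rfl
  | succ n ih =>
    rw [pow_succ, ih, PiTensorProduct.tprod_mul_tprod]
    congr 1
    funext l
    simp [pow_succ]

theorem prod_tprod {κ : Type*} (s : Finset κ) (F : κ → Fin d → B) :
    ∏ i ∈ s, PiTensorProduct.tprod A (F i) = PiTensorProduct.tprod A (fun l => ∏ i ∈ s, F i l) := by
  classical
  induction s using Finset.induction_on with
  | empty =>
    simp only [Finset.prod_empty]
    rfl
  | insert a s ha ih =>
    rw [Finset.prod_insert ha, ih, PiTensorProduct.tprod_mul_tprod]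
    congr 1
    funext l
    simp [Finset.prod_insert ha]

theorem prod_update (m g : Fin d → B) :
    ∏ i : Fin d, PiTensorProduct.tprod A (Function.update m i (g i)) =
      PiTensorProduct.tprod A (fun l => g l * m l ^ (d - 1)) := by
  rw [prod_tprod]
  congr 1
  funext l
  rw [← Finset.mul_prod_erase Finset.univ _ (Finset.mem_univ l), Function.update_self]
  congr 1
  rw [Finset.prod_congr rfl (g := fun _ => m l)]
  · rw [Finset.prod_const, Finset.card_erase_of_mem (Finset.mem_univ l), Finset.card_univ,
      Fintype.card_fin]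
  · intro i hi
    rw [Function.update_of_ne (Finset.ne_of_mem_erase hi).symm]

theorem tprod_mem_span_of_mem_span (S : Set B) (β : Fin d → B)
    (hβ : ∀ i, β i ∈ Submodule.span A S) :
    PiTensorProduct.tprod A β ∈ Submodule.span A
      {z | ∃ γ : Fin d → B, (∀ i, γ i ∈ S) ∧ z = PiTensorProduct.tprod A γ} := by
  classical
  have key : ∀ s : Finset (Fin d), ∀ β : Fin d → B, (∀ i ∈ s, β i ∈ Submodule.span A S) →
      (∀ i, i ∉ s → β i ∈ S) → PiTensorProduct.tprod A β ∈ Submodule.span A
        {z | ∃ γ : Fin d → B, (∀ i, γ i ∈ S) ∧ z = PiTensorProduct.tprod A γ} := by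
    intro s
    induction s using Finset.induction_on with
    | empty =>
      intro β _ h
      exact Submodule.subset_span ⟨β, fun i => h i (Finset.notMem_empty i), rfl⟩
    | insert i₀ s hi₀ ih =>
      intro β h1 h2
      have hβ0 := h1 i₀ (Finset.mem_insert_self i₀ s)
      have main : ∀ z ∈ Submodule.span A S,
          PiTensorProduct.tprod A (Function.update β i₀ z) ∈ Submodule.span A
            {z | ∃ γ : Fin d → B, (∀ i, γ i ∈ S) ∧ z = PiTensorProduct.tprod A γ} := by
        intro z hz
        induction hz using Submodule.span_induction with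
        | mem z hz =>
          refine ih _ (fun i hi => ?_) (fun i hi => ?_)
          · have hne : i ≠ i₀ := fun h => hi₀ (h ▸ hi)
            rw [Function.update_of_ne hne]
            exact h1 i (Finset.mem_insert_of_mem hi)
          · by_cases hne : i = i₀
            · rw [hne, Function.update_self]; exact hz
            · rw [Function.update_of_ne hne]
              exact h2 i (fun h => by
                rcases Finset.mem_insert.mp h with h | h
                · exact hne h
                · exact hi h)
        | zero =>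
          rw [(PiTensorProduct.tprod A).map_coord_zero i₀ (Function.update_self ..)]
          exact zero_mem _
        | add x y _ _ hx hy =>
          rw [(PiTensorProduct.tprod A).map_update_add]
          exact add_mem hx hy
        | smul a x _ hx =>
          rw [(PiTensorProduct.tprod A).map_update_smul]
          exact Submodule.smul_mem _ _ hx
      have := main (β i₀) hβ0
      rwa [Function.update_eq_self] at this
  exact key Finset.univ β (fun i _ => hβ i) (fun i hi => absurd (Finset.mem_univ i) hi)

end Tensor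

end Groth.Agent.H14Lib.SymProj
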