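import Mathlib
import Groth.Agent.H14Lib.BCk6

/-!
# `TS^d_A(B)` is `Γ^d_A(B)` as soon as symmetric tensors lift along a free cover and
the linear forms `pit` descend : the common part
-/

open scoped TensorProduct

namespace Groth.Agent.H14Lib.TSG

universe u

open Groth.Agent.H14Lib.CH Groth.Agent.H14Lib.GamN Groth.Agent.H14Lib.BCk MvPolynomial

section Common

variable {A : Type u} [CommRing A] {B : Type u} [CommRing B] [Algebra A B] {d : ℕ}
  {P : Type u} [CommRing P] [Algebra A P] {I : Type u}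

theorem law_ext_poly {M N : Type u} [AddCommGroup M] [Module A M] [AddCommGroup N] [Module A N]
    (L1 L2 : M →ₚₗ[A] N)
    (h : ∀ (n : ℕ) (x : MvPolynomial (Fin n) A ⊗[A] M), L1.toFun' _ x = L2.toFun' _ x) :
    L1 = L2 :=
  Groth.Agent.S13174.result.1 (Subtype.ext (funext fun n => funext fun x => h n x))

theorem cf_mem_TS (Λ : Finset B) (ν : B →₀ ℕ) :
    cf (SymTen.tpowLaw A B d).law (fun b => b) Λ ν ∈ SymTen.TS A B d := by
  intro σ
  rw [← SymTen.perm_apply]
  exact perm_mem σ (cf_mem_coefSpan _ Λ ν)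

/-- corestriction of the tensor power law to the symmetric tensors -/
theorem exists_tau (A : Type u) [CommRing A] (B : Type u) [CommRing B] [Algebra A B] (d : ℕ) :
    ∃ τ : PolLaw.MulLaw A B (SymTen.TS A B d) d,
      PolLaw.postcomp (SymTen.TS A B d).val.toLinearMap τ.law = (SymTen.tpowLaw A B d).law := by
  apply exists_law_into_subalgebra
  intro n x
  exact toFun'_mem_range_subalgebra _ _ (fun Λ ν => cf_mem_TS Λ ν) _ x

theorem tau_val (τ : PolLaw.MulLaw A B (SymTen.TS A B d) d)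
    (hτ : PolLaw.postcomp (SymTen.TS A B d).val.toLinearMap τ.law = (SymTen.tpowLaw A B d).law)
    (S : Type u) [CommSemiring S] [Algebra A S] (w : S ⊗[A] B) :
    (SymTen.TS A B d).val.toLinearMap.lTensor S (τ.law.toFun' S w) =
      (SymTen.tpowLaw A B d).law.toFun' S w :=
  congrArg (fun L : B →ₚₗ[A] (⨂[A] _ : Fin d, B) => L.toFun' S w) hτ

theorem span_orbit_top (bas : Module.Basis I A P) :
    Submodule.span A (Set.range (fun ν : I →₀ ℕ =>
      (⟨orbSum bas d ν, orbSum_mem_TS bas ν⟩ : SymTen.TS A P d))) = ⊤ := by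
  rw [eq_top_iff]
  intro z _
  have hz := TS_mem_span_orbit bas z.2
  have himg : Set.range (orbSum bas d) = (SymTen.TS A P d).val.toLinearMap ''
      (Set.range (fun ν : I →₀ ℕ =>
        (⟨orbSum bas d ν, orbSum_mem_TS bas ν⟩ : SymTen.TS A P d))) := by
    ext t
    constructor
    · rintro ⟨ν, rfl⟩
      exact ⟨_, ⟨ν, rfl⟩, rfl⟩
    · rintro ⟨_, ⟨ν, rfl⟩, rfl⟩
      exact ⟨ν, rfl⟩
  rw [himg, ← Submodule.map_span] at hz
  obtain ⟨z', hz', hzz⟩ := hz
  have : z' = z := Subtype.ext hzz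
  rwa [← this]

theorem TSmap_val (q : P →ₐ[A] B) (z : SymTen.TS A P d) :
    ((SymTen.TSmap A d q z : SymTen.TS A B d) : ⨂[A] _ : Fin d, B) = SymTen.tmap A d q z.1 := rfl

theorem rho_orbit (bas : Module.Basis I A P) (q : P →ₐ[A] B)
    (τ : PolLaw.MulLaw A B (SymTen.TS A B d) d)
    (hτ : PolLaw.postcomp (SymTen.TS A B d).val.toLinearMap τ.law = (SymTen.tpowLaw A B d).law)
    (ν : I →₀ ℕ) :
    SymTen.TSmap A d q ⟨orbSum bas d ν, orbSum_mem_TS bas ν⟩ =
      TensorProduct.lid A _ (kap (A := A) A I _ ν (τ.law.toFun' (MvPolynomial I A)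
        (∑ i ∈ ν.support, (X i : MvPolynomial I A) ⊗ₜ[A] q (bas i)))) := by
  apply Subtype.val_injective
  rw [TSmap_val]
  show SymTen.tmap A d q (orbSum bas d ν) = (SymTen.TS A B d).val.toLinearMap _
  rw [← lid_lTensor'', ← kap_lTensor, tau_val τ hτ]
  have h1 : orbSum bas d ν = TensorProduct.lid A _ (kap (A := A) A I _ ν
        ((SymTen.tpowLaw A P d).law.toFun' (MvPolynomial I A)
          (∑ i ∈ ν.support, (X i : MvPolynomial I A) ⊗ₜ[A] bas i))) := orbit_eq bas ν
  rw [h1]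
  have h2 : SymTen.tmap A d q (TensorProduct.lid A _ (kap (A := A) A I _ ν
        ((SymTen.tpowLaw A P d).law.toFun' (MvPolynomial I A)
          (∑ i ∈ ν.support, (X i : MvPolynomial I A) ⊗ₜ[A] bas i)))) =
      (SymTen.tmap A d q).toLinearMap (TensorProduct.lid A _ (kap (A := A) A I _ ν
        ((SymTen.tpowLaw A P d).law.toFun' (MvPolynomial I A)
          (∑ i ∈ ν.support, (X i : MvPolynomial I A) ⊗ₜ[A] bas i)))) := rfl
  rw [h2, ← lid_lTensor'', ← kap_lTensor, tmap_tpowLaw]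
  simp only [map_sum, LinearMap.lTensor_tmul, AlgHom.toLinearMap_apply]

theorem unique_of (bas : Module.Basis I A P) (q : P →ₐ[A] B)
    (Ha : ∀ z ∈ SymTen.TS A B d, ∃ z' ∈ SymTen.TS A P d, SymTen.tmap A d q z' = z)
    (τ : PolLaw.MulLaw A B (SymTen.TS A B d) d)
    (hτ : PolLaw.postcomp (SymTen.TS A B d).val.toLinearMap τ.law = (SymTen.tpowLaw A B d).law)
    {C' : Type u} [CommRing C'] [Algebra A C'] (f₁ f₂ : SymTen.TS A B d →ₐ[A] C')
    (h : PolLaw.postcomp f₁.toLinearMap τ.law = PolLaw.postcomp f₂.toLinearMap τ.law) :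
    f₁ = f₂ := by
  have key : ∀ ν : I →₀ ℕ,
      f₁ (SymTen.TSmap A d q ⟨orbSum bas d ν, orbSum_mem_TS bas ν⟩) =
        f₂ (SymTen.TSmap A d q ⟨orbSum bas d ν, orbSum_mem_TS bas ν⟩) := by
    intro ν
    rw [rho_orbit bas q τ hτ ν]
    have e : ∀ f : SymTen.TS A B d →ₐ[A] C', f (TensorProduct.lid A _ (kap (A := A) A I _ ν
        (τ.law.toFun' (MvPolynomial I A)
          (∑ i ∈ ν.support, (X i : MvPolynomial I A) ⊗ₜ[A] q (bas i))))) =
        TensorProduct.lid A _ (kap (A := A) A I _ ν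
          ((PolLaw.postcomp f.toLinearMap τ.law).toFun' (MvPolynomial I A)
            (∑ i ∈ ν.support, (X i : MvPolynomial I A) ⊗ₜ[A] q (bas i)))) := by
      intro f
      have : (PolLaw.postcomp f.toLinearMap τ.law).toFun' (MvPolynomial I A)
            (∑ i ∈ ν.support, (X i : MvPolynomial I A) ⊗ₜ[A] q (bas i)) =
          f.toLinearMap.lTensor _ (τ.law.toFun' (MvPolynomial I A)
            (∑ i ∈ ν.support, (X i : MvPolynomial I A) ⊗ₜ[A] q (bas i))) := rfl
      rw [this, kap_lTensor, lid_lTensor'']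
      rfl
    rw [e f₁, e f₂, h]
  have hlin : f₁.toLinearMap ∘ₗ (SymTen.TSmap A d q).toLinearMap =
      f₂.toLinearMap ∘ₗ (SymTen.TSmap A d q).toLinearMap := by
    apply LinearMap.ext_on (span_orbit_top bas)
    rintro _ ⟨ν, rfl⟩
    exact key ν
  ext z
  obtain ⟨z', hz', hzz⟩ := Ha z.1 z.2
  have hz : z = SymTen.TSmap A d q ⟨z', hz'⟩ := Subtype.ext hzz.symm
  rw [hz]
  exact LinearMap.congr_fun hlin ⟨z', hz'⟩

theorem isGammaD_of (bas : Module.Basis I A P) (q : P →ₐ[A] B) (hq : Function.Surjective q)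
    (Ha : ∀ z ∈ SymTen.TS A B d, ∃ z' ∈ SymTen.TS A P d, SymTen.tmap A d q z' = z)
    (Hb : ∀ (C' : Type u) [CommRing C'] [Algebra A C'] (F : PolLaw.MulLaw A B C' d)
      (z' : ⨂[A] _ : Fin d, P), z' ∈ SymTen.TS A P d → SymTen.tmap A d q z' = 0 →
        pit F.law bas q d z' = 0)
    (τ : PolLaw.MulLaw A B (SymTen.TS A B d) d)
    (hτ : PolLaw.postcomp (SymTen.TS A B d).val.toLinearMap τ.law = (SymTen.tpowLaw A B d).law) :
    PolLaw.IsGammaD τ := by
  intro C' _ _ F
  have hρ : Function.Surjective (SymTen.TSmap A d q) := by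
    intro z
    obtain ⟨z', hz', h⟩ := Ha z.1 z.2
    exact ⟨⟨z', hz'⟩, Subtype.ext h⟩
  let g : SymTen.TS A P d →ₗ[A] C' := (pit F.law bas q d) ∘ₗ (SymTen.TS A P d).val.toLinearMap
  have hker : LinearMap.ker (SymTen.TSmap A d q).toLinearMap ≤ LinearMap.ker g := by
    intro z' hz'
    rw [LinearMap.mem_ker] at hz' ⊢
    exact Hb C' F z'.1 z'.2 (congrArg Subtype.val hz')
  let f₀ : SymTen.TS A B d →ₗ[A] C' :=
    (Submodule.liftQ _ g hker) ∘ₗ
      ((SymTen.TSmap A d q).toLinearMap.quotKerEquivOfSurjective hρ).symm.toLinearMap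
  have hf₀ : ∀ z', f₀ (SymTen.TSmap A d q z') = g z' := by
    intro z'
    show Submodule.liftQ _ g hker
      (((SymTen.TSmap A d q).toLinearMap.quotKerEquivOfSurjective hρ).symm
        (SymTen.TSmap A d q z')) = g z'
    have : ((SymTen.TSmap A d q).toLinearMap.quotKerEquivOfSurjective hρ).symm
        (SymTen.TSmap A d q z') = Submodule.Quotient.mk z' := by
      rw [LinearEquiv.symm_apply_eq]
      rfl
    rw [this, Submodule.liftQ_apply]
  have hg : ∀ z', g z' = pit F.law bas q d z'.1 := fun _ => rfl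
  have hone : f₀ 1 = 1 := by
    rw [← map_one (SymTen.TSmap A d q), hf₀, hg]
    exact pit_one F bas q
  have hmul : ∀ x y, f₀ (x * y) = f₀ x * f₀ y := by
    intro x y
    obtain ⟨x', rfl⟩ := hρ x
    obtain ⟨y', rfl⟩ := hρ y
    rw [← map_mul, hf₀, hf₀, hf₀, hg, hg, hg]
    exact pit_mul F bas q (TS_le_coefSpan bas x'.2) (TS_le_coefSpan bas y'.2)
  let f : SymTen.TS A B d →ₐ[A] C' := AlgHom.ofLinearMap f₀ hone hmul
  have hfF : PolLaw.postcomp f.toLinearMap τ.law = F.law := by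
    apply law_ext_poly
    intro n x
    show f.toLinearMap.lTensor _ (τ.law.toFun' _ x) = _
    obtain ⟨x', rfl⟩ := LinearMap.lTensor_surjective (MvPolynomial (Fin n) A)
      (g := q.toLinearMap) hq x
    obtain ⟨y₀, hy₀⟩ := toFun'_mem_range_subalgebra (SymTen.tpowLaw A P d).law (SymTen.TS A P d)
      (fun Λ ν => cf_mem_TS Λ ν) (MvPolynomial (Fin n) A) x'
    have h1 : τ.law.toFun' _ (q.toLinearMap.lTensor (MvPolynomial (Fin n) A) x') =
        (SymTen.TSmap A d q).toLinearMap.lTensor _ y₀ := by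
      apply lTensor_val_injective (SymTen.TS A B d) n
      rw [tau_val τ hτ, ← tmap_tpowLaw, ← hy₀, ← LinearMap.comp_apply, ← LinearMap.lTensor_comp,
        ← LinearMap.comp_apply, ← LinearMap.lTensor_comp]
      rfl
    rw [h1, ← LinearMap.comp_apply, ← LinearMap.lTensor_comp]
    have h2 : f.toLinearMap ∘ₗ (SymTen.TSmap A d q).toLinearMap =
        (pit F.law bas q d) ∘ₗ (SymTen.TS A P d).val.toLinearMap :=
      LinearMap.ext fun z' => hf₀ z'
    rw [h2, LinearMap.lTensor_comp, LinearMap.comp_apply, hy₀, pit_tpowLaw F.law F.homog]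
  refine ⟨f, hfF, fun f' hf' => ?_⟩
  exact unique_of bas q Ha τ hτ f' f (hf'.trans hfF.symm)

end Common

end Groth.Agent.H14Lib.TSG
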