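import Mathlib
import Groth.Agent.H14Lib.TSG1
import Groth.Agent.H14Lib.GamFT

/-!
# The flat case : factorisation through finite free modules
-/

open scoped TensorProduct

namespace Groth.Agent.H14Lib.TSG

universe u

open Groth.Agent.H14Lib.CH Groth.Agent.H14Lib.GamN Groth.Agent.H14Lib.BCk MvPolynomial
open Groth.Agent.H14Lib.GamFT

section Flat

variable {A : Type u} [CommRing A] {B : Type u} [CommRing B] [Algebra A B] {d : ℕ}
  {P : Type u} [CommRing P] [Algebra A P] {I : Type u}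

open Classical in
theorem exists_fact [Module.Flat A B] (bas : Module.Basis I A P) (q : P →ₗ[A] B)
    (Mon : Finset I) (K : Finset P) (hK : ∀ κ ∈ K, q κ = 0) :
    ∃ (m : ℕ) (a : P →ₗ[A] (Fin m →₀ A)) (y : (Fin m →₀ A) →ₗ[A] B),
      (∀ κ ∈ K, a κ = 0) ∧ (∀ i ∈ Mon, y (a (bas i)) = q (bas i)) := by
  set Mon₁ : Finset I := Mon ∪ K.biUnion (fun κ => (bas.repr κ).support) with hMon₁
  haveI : Finite ↥(↑Mon₁ : Set I) := Mon₁.finite_toSet.to_subtype
  let x : (↥(↑Mon₁ : Set I) →₀ A) →ₗ[A] B :=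
    Finsupp.linearCombination A (fun i : ↥(↑Mon₁ : Set I) => q (bas i.1))
  let ρ : P →ₗ[A] (↥(↑Mon₁ : Set I) →₀ A) :=
    (Finsupp.lsubtypeDomain (↑Mon₁ : Set I)) ∘ₗ bas.repr.toLinearMap
  have hxρ : ∀ p : P, (∀ i ∈ (bas.repr p).support, i ∈ Mon₁) → x (ρ p) = q p := by
    intro p hp
    show Finsupp.linearCombination A (fun i : ↥(↑Mon₁ : Set I) => q (bas i.1))
      (Finsupp.subtypeDomain (fun i => i ∈ (↑Mon₁ : Set I)) (bas.repr p)) = q p
    rw [Finsupp.linearCombination_apply]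
    rw [Finsupp.sum_subtypeDomain_index (p := fun i => i ∈ (↑Mon₁ : Set I))
      (h := fun i b => b • q (bas i)) (fun i hi => hp i hi)]
    conv_rhs => rw [← bas.linearCombination_repr p, Finsupp.apply_linearCombination]
    rw [Finsupp.linearCombination_apply]
    rfl
  let f : (↥K →₀ A) →ₗ[A] (↥(↑Mon₁ : Set I) →₀ A) :=
    Finsupp.linearCombination A (fun κ : ↥K => ρ κ.1)
  have hsupp : ∀ κ ∈ K, ∀ i ∈ (bas.repr κ).support, i ∈ Mon₁ := by
    intro κ hκ i hi
    rw [hMon₁]
    exact Finset.mem_union_right _ (Finset.mem_biUnion.mpr ⟨κ, hκ, hi⟩)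
  have hxf : x ∘ₗ f = 0 := by
    apply Finsupp.lhom_ext
    intro κ b
    simp only [LinearMap.comp_apply, LinearMap.zero_apply, f, Finsupp.linearCombination_single,
      map_smul]
    rw [hxρ κ.1 (hsupp κ.1 κ.2), hK κ.1 κ.2, smul_zero]
  obtain ⟨m, a₀, y, hxy, ha₀⟩ := Module.Flat.exists_factorization_of_comp_eq_zero_of_free hxf
  refine ⟨m, a₀ ∘ₗ ρ, y, ?_, ?_⟩
  · intro κ hκ
    have := LinearMap.congr_fun ha₀ (Finsupp.single (⟨κ, hκ⟩ : ↥K) (1 : A))
    simp only [LinearMap.comp_apply, LinearMap.zero_apply, f, Finsupp.linearCombination_single,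
      one_smul] at this
    exact this
  · intro i hi
    have h1 : y (a₀ (ρ (bas i))) = x (ρ (bas i)) := by
      rw [hxy]; rfl
    show y (a₀ (ρ (bas i))) = q (bas i)
    rw [h1, hxρ]
    intro j hj
    rw [Module.Basis.repr_self] at hj
    have hj' := Finset.mem_singleton.mp (Finsupp.support_single_subset hj)
    rw [hj', hMon₁]
    exact Finset.mem_union_left _ hi

theorem exists_cover [Module.Flat A B] (bas : Module.Basis I A P) (q : P →ₐ[A] B)
    (Mon : Finset I) (K : Finset P) (hK : ∀ κ ∈ K, q κ = 0) :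
    ∃ (m : ℕ) (a : P →ₗ[A] MvPolynomial (Fin m) A) (q' : MvPolynomial (Fin m) A →ₐ[A] B),
      (∀ κ ∈ K, a κ = 0) ∧ (∀ i ∈ Mon, q' (a (bas i)) = q (bas i)) := by
  obtain ⟨m, a₀, y, h1, h2⟩ := exists_fact bas q.toLinearMap Mon K hK
  let lin : (Fin m →₀ A) →ₗ[A] MvPolynomial (Fin m) A :=
    Finsupp.linearCombination A (fun j => (X j : MvPolynomial (Fin m) A))
  let q' : MvPolynomial (Fin m) A →ₐ[A] B := aeval (fun j => y (Finsupp.single j 1))
  have hq' : ∀ v, q' (lin v) = y v := by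
    intro v
    have : (q'.toLinearMap ∘ₗ lin) = y := by
      apply Finsupp.lhom_ext
      intro j b
      simp only [LinearMap.comp_apply, lin, Finsupp.linearCombination_single,
        AlgHom.toLinearMap_apply, map_smul, q', aeval_X]
      rw [← map_smul, Finsupp.smul_single, smul_eq_mul, mul_one]
    exact LinearMap.congr_fun this v
  refine ⟨m, lin ∘ₗ a₀, q', fun κ hκ => ?_, fun i hi => ?_⟩
  · rw [LinearMap.comp_apply, h1 κ hκ, map_zero]
  · rw [LinearMap.comp_apply, hq']
    exact h2 i hi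

end Flat

section Tm

variable {A : Type u} [CommRing A] {d : ℕ}
  {P : Type u} [CommRing P] [Algebra A P] {P' : Type u} [CommRing P'] [Algebra A P']

/-- the tensor power of a linear map -/
noncomputable def Tm (d : ℕ) (a : P →ₗ[A] P') : (⨂[A] _ : Fin d, P) →ₗ[A] (⨂[A] _ : Fin d, P') :=
  PiTensorProduct.map (fun _ : Fin d => a)

theorem Tm_tprod (a : P →ₗ[A] P') (e : Fin d → P) :
    Tm d a (PiTensorProduct.tprod A e) = PiTensorProduct.tprod A (fun k => a (e k)) :=
  PiTensorProduct.map_tprod _ _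

theorem Tm_perm (a : P →ₗ[A] P') (σ : Equiv.Perm (Fin d)) (t : ⨂[A] _ : Fin d, P) :
    Tm d a (SymTen.perm A P d σ t) = SymTen.perm A P' d σ (Tm d a t) := by
  induction t using PiTensorProduct.induction_on with
  | smul_tprod r e =>
    simp only [map_smul, SymTen.perm_tprod, Tm_tprod]
  | add x y hx hy => simp only [map_add, hx, hy]

theorem Tm_tpow (a : P →ₗ[A] P') (S : Type u) [CommSemiring S] [Algebra A S] (z : S ⊗[A] P) :
    (Tm d a).lTensor S ((SymTen.tpowLaw A P d).law.toFun' S z) =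
      (SymTen.tpowLaw A P' d).law.toFun' S (a.lTensor S z) := by
  obtain ⟨c, rfl⟩ := exists_repr_id z
  rw [tpowLaw_sum, map_sum, map_sum]
  simp only [LinearMap.lTensor_tmul, Tm_tprod]
  rw [tpowLaw_sum (A := A) (P := P') (d := d) S c.support (fun i => c i) (fun i => a i)]

theorem tmap_comp' {B : Type u} [CommRing B] [Algebra A B] (h : P' →ₐ[A] P) (q : P →ₐ[A] B)
    (t : ⨂[A] _ : Fin d, P') :
    SymTen.tmap A d q (SymTen.tmap A d h t) = SymTen.tmap A d (q.comp h) t := by
  induction t using PiTensorProduct.induction_on with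
  | smul_tprod r e => simp only [map_smul, SymTen.tmap_tprod, AlgHom.comp_apply]
  | add x y hx hy => simp only [map_add, hx, hy]

end Tm

end Groth.Agent.H14Lib.TSG
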