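import Mathlib
import Groth.Agent.H14Lib.TSG3

/-!
# The flat case : lifting of symmetric tensors and descent of the linear forms
-/

open scoped TensorProduct

namespace Groth.Agent.H14Lib.TSG

universe u

open Groth.Agent.H14Lib.CH Groth.Agent.H14Lib.GamN Groth.Agent.H14Lib.BCk MvPolynomial
open Groth.Agent.H14Lib.GamFT

section Flat

variable {A : Type u} [CommRing A] {B : Type u} [CommRing B] [Algebra A B] {d : ℕ}
  {P : Type u} [CommRing P] [Algebra A P] {I : Type u}

open Classical in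
theorem TS_mem_span_orbit' (bas : Module.Basis I A P) {z : ⨂[A] _ : Fin d, P}
    (hz : z ∈ SymTen.TS A P d) (Mon : Finset I)
    (hMon : ∀ x ∈ ((basT bas d).repr z).support, ∀ k, x k ∈ Mon) :
    z ∈ Submodule.span A (orbSum bas d '' {ν | ∀ i ∈ ν.support, i ∈ Mon}) := by
  set a := (basT bas d).repr z with ha
  have hsum : z = ∑ x ∈ a.support, a x • PiTensorProduct.tprod A (fun k => bas (x k)) := by
    conv_lhs => rw [← (basT bas d).linearCombination_repr z]
    rw [Finsupp.linearCombination_apply, Finsupp.sum]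
    refine Finset.sum_congr rfl fun x _ => ?_
    rw [basT_apply]
  rw [hsum, ← Finset.sum_fiberwise_of_maps_to (g := typ) (t := a.support.image typ)
    (fun x hx => Finset.mem_image_of_mem _ hx)]
  refine Submodule.sum_mem _ fun ν hν => ?_
  obtain ⟨x₀, hx₀, hν₀⟩ := Finset.mem_image.mp hν
  have hset : a.support.filter (fun x => typ x = ν) =
      (Fintype.piFinset (fun _ : Fin d => ν.support)).filter (fun x => typ x = ν) := by
    ext x
    simp only [Finset.mem_filter, Fintype.mem_piFinset]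
    constructor
    · rintro ⟨_, h⟩
      exact ⟨fun k => mem_support_of_typ h k, h⟩
    · rintro ⟨_, h⟩
      refine ⟨?_, h⟩
      obtain ⟨τ, hτ⟩ := exists_perm_of_typ_eq x x₀ (h.trans hν₀.symm)
      rw [Finsupp.mem_support_iff, hτ, ha, repr_symm bas hz]
      exact Finsupp.mem_support_iff.mp hx₀
  have hval : ∑ x ∈ a.support.filter (fun x => typ x = ν),
        a x • PiTensorProduct.tprod A (fun k => bas (x k)) =
      a x₀ • ∑ x ∈ a.support.filter (fun x => typ x = ν),
        PiTensorProduct.tprod A (fun k => bas (x k)) := by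
    rw [Finset.smul_sum]
    refine Finset.sum_congr rfl fun x hx => ?_
    have h : typ x = ν := (Finset.mem_filter.mp hx).2
    obtain ⟨τ, hτ⟩ := exists_perm_of_typ_eq x x₀ (h.trans hν₀.symm)
    rw [hτ, ha, repr_symm bas hz]
  rw [hval, hset]
  refine Submodule.smul_mem _ _ (Submodule.subset_span ⟨ν, ?_, rfl⟩)
  intro i hi
  rw [Finsupp.mem_support_iff, ← hν₀, typ_apply] at hi
  obtain ⟨⟨k, hk⟩⟩ : Nonempty {k // x₀ k = i} := by
    by_contra hne
    rw [not_nonempty_iff] at hne
    exact hi Fintype.card_eq_zero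
  rw [← hk]
  exact hMon x₀ hx₀ k

theorem pit_orbit_eq [Module.Flat A B] {C' : Type u} [CommRing C'] [Algebra A C']
    (F : PolLaw.MulLaw A B C' d) (bas : Module.Basis I A P) (q : P →ₐ[A] B)
    {I' : Type u} {P' : Type u} [CommRing P'] [Algebra A P'] (bas' : Module.Basis I' A P')
    (q' : P' →ₐ[A] B) (a : P →ₗ[A] P') (ν : I →₀ ℕ)
    (hν : ∀ i ∈ ν.support, q' (a (bas i)) = q (bas i)) :
    pit F.law bas q d (orbSum bas d ν) = pit F.law bas' q' d (Tm d a (orbSum bas d ν)) := by
  have h1 : orbSum bas d ν = TensorProduct.lid A _ (kap (A := A) A I _ ν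
        ((SymTen.tpowLaw A P d).law.toFun' (MvPolynomial I A)
          (∑ i ∈ ν.support, (X i : MvPolynomial I A) ⊗ₜ[A] bas i))) := orbit_eq bas ν
  rw [h1]
  have e2 : pit F.law bas' q' d (Tm d a (TensorProduct.lid A _ (kap (A := A) A I _ ν
        ((SymTen.tpowLaw A P d).law.toFun' (MvPolynomial I A)
          (∑ i ∈ ν.support, (X i : MvPolynomial I A) ⊗ₜ[A] bas i))))) =
      ((pit F.law bas' q' d) ∘ₗ (Tm d a)) (TensorProduct.lid A _ (kap (A := A) A I _ ν
        ((SymTen.tpowLaw A P d).law.toFun' (MvPolynomial I A)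
          (∑ i ∈ ν.support, (X i : MvPolynomial I A) ⊗ₜ[A] bas i)))) := rfl
  rw [e2, ← lid_lTensor'', ← kap_lTensor, ← lid_lTensor'', ← kap_lTensor,
    pit_tpowLaw F.law F.homog, LinearMap.lTensor_comp, LinearMap.comp_apply, Tm_tpow,
    pit_tpowLaw F.law F.homog]
  congr 3
  simp only [map_sum, LinearMap.lTensor_tmul, AlgHom.toLinearMap_apply]
  exact Finset.sum_congr rfl fun i hi => by rw [hν i hi]

theorem Tm_eq_zero_of_mem_Nul {P' : Type u} [CommRing P'] [Algebra A P'] (q : P →ₐ[A] B)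
    (a : P →ₗ[A] P') {n : ℕ} (c : Fin n → A)
    (g : Fin n → {t : ⨂[A] _ : Fin d, P | ∃ (e : Fin d → P) (k : Fin d),
      q (e k) = 0 ∧ t = PiTensorProduct.tprod A e})
    (ha : ∀ i, ∀ (e : Fin d → P) (k : Fin d), q (e k) = 0 →
      (g i).1 = PiTensorProduct.tprod A e → ∃ k', a (e k') = 0) :
    Tm d a (∑ i, c i • (g i).1) = 0 := by
  rw [map_sum]
  refine Finset.sum_eq_zero fun i _ => ?_
  obtain ⟨e, k, hk, he⟩ := (g i).2
  obtain ⟨k', hk'⟩ := ha i e k hk he
  rw [map_smul, he, Tm_tprod, MultilinearMap.map_coord_zero _ k' hk', smul_zero]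

open Classical in
theorem exists_cover_of_mem_Nul [Module.Flat A B] (bas : Module.Basis I A P) (q : P →ₐ[A] B)
    (Mon : Finset I) {ι : Type} [Fintype ι] (w : ι → ⨂[A] _ : Fin d, P)
    (hw : ∀ j, w j ∈ Nul q d) :
    ∃ (m : ℕ) (a : P →ₗ[A] MvPolynomial (Fin m) A) (q' : MvPolynomial (Fin m) A →ₐ[A] B),
      (∀ j, Tm d a (w j) = 0) ∧ (∀ i ∈ Mon, q' (a (bas i)) = q (bas i)) := by
  have hw' : ∀ j, ∃ (n : ℕ) (c : Fin n → A)
      (g : Fin n → {t : ⨂[A] _ : Fin d, P | ∃ (e : Fin d → P) (k : Fin d),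
        q (e k) = 0 ∧ t = PiTensorProduct.tprod A e}), ∑ i, c i • (g i).1 = w j :=
    fun j => Submodule.mem_span_set'.mp (hw j)
  choose n c g hsum using hw'
  choose e k hk he using fun (j : ι) (i : Fin (n j)) => (g j i).2
  set K : Finset P := Finset.univ.biUnion (fun j : ι =>
    Finset.univ.image (fun i : Fin (n j) => e j i (k j i))) with hKdef
  have hK : ∀ κ ∈ K, q κ = 0 := by
    intro κ hκ
    obtain ⟨j, _, hκ⟩ := Finset.mem_biUnion.mp hκ
    obtain ⟨i, _, rfl⟩ := Finset.mem_image.mp hκ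
    exact hk j i
  obtain ⟨m, a, q', ha, hq'⟩ := exists_cover bas q Mon K hK
  refine ⟨m, a, q', fun j => ?_, hq'⟩
  rw [← hsum j, map_sum]
  refine Finset.sum_eq_zero fun i _ => ?_
  rw [map_smul, he j i, Tm_tprod, MultilinearMap.map_coord_zero _ (k j i)
    (ha _ (Finset.mem_biUnion.mpr ⟨j, Finset.mem_univ _,
      Finset.mem_image.mpr ⟨i, Finset.mem_univ _, rfl⟩⟩)), smul_zero]

open Classical in
theorem Hb_of_flat [Module.Flat A B] (bas : Module.Basis I A P) (q : P →ₐ[A] B)
    (hq : Function.Surjective q) :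
    ∀ (C' : Type u) [CommRing C'] [Algebra A C'] (F : PolLaw.MulLaw A B C' d)
      (z' : ⨂[A] _ : Fin d, P), z' ∈ SymTen.TS A P d → SymTen.tmap A d q z' = 0 →
        pit F.law bas q d z' = 0 := by
  intro C' _ _ F z' hz' h0
  have hN := mem_Nul_of_tmap_eq_zero d hq z' h0
  set Mon : Finset I := ((basT bas d).repr z').support.biUnion
    (fun x => Finset.univ.image x) with hMon
  obtain ⟨m, a, q', ha, hq'⟩ := exists_cover_of_mem_Nul bas q Mon (fun _ : Unit => z')
    (fun _ => hN)
  have hspan := TS_mem_span_orbit' bas hz' Mon (fun x hx k =>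
    Finset.mem_biUnion.mpr ⟨x, hx, Finset.mem_image.mpr ⟨k, Finset.mem_univ _, rfl⟩⟩)
  have key : ∀ t ∈ Submodule.span A (orbSum bas d '' {ν | ∀ i ∈ ν.support, i ∈ Mon}),
      pit F.law bas q d t = pit F.law (basU m A) q' d (Tm d a t) := by
    intro t ht
    induction ht using Submodule.span_induction with
    | mem x hx =>
      obtain ⟨ν, hν, rfl⟩ := hx
      exact pit_orbit_eq F bas q (basU m A) q' a ν (fun i hi => hq' i (hν i hi))
    | zero => simp
    | add x y _ _ hx hy => rw [map_add, hx, hy, map_add, map_add]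
    | smul r x _ hx => rw [map_smul, hx, map_smul, map_smul]
  rw [key z' hspan, ha (), map_zero]

open Classical in
theorem Ha_of_flat [Module.Flat A B] (bas : Module.Basis I A P) (q : P →ₐ[A] B)
    (hq : Function.Surjective q) :
    ∀ z ∈ SymTen.TS A B d, ∃ z' ∈ SymTen.TS A P d, SymTen.tmap A d q z' = z := by
  intro z hz
  obtain ⟨t, rfl⟩ := tmap_surjective d hq z
  have hw : ∀ σ : Equiv.Perm (Fin d), SymTen.perm A P d σ t - t ∈ Nul q d := by
    intro σ
    apply mem_Nul_of_tmap_eq_zero d hq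
    rw [map_sub, SymTen.perm_apply, SymTen.tmap_reindex, hz σ, sub_self]
  set Mon : Finset I := ((basT bas d).repr t).support.biUnion
    (fun x => Finset.univ.image x) with hMon
  obtain ⟨m, a, q', ha, hq'⟩ := exists_cover_of_mem_Nul bas q Mon
    (fun σ : Equiv.Perm (Fin d) => SymTen.perm A P d σ t - t) hw
  have ht' : Tm d a t ∈ SymTen.TS A (MvPolynomial (Fin m) A) d := by
    intro σ
    rw [← SymTen.perm_apply, ← Tm_perm]
    have := ha σ
    rw [map_sub, sub_eq_zero] at this
    exact this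
  have hsum : t = ∑ x ∈ ((basT bas d).repr t).support,
      ((basT bas d).repr t) x • PiTensorProduct.tprod A (fun k => bas (x k)) := by
    conv_lhs => rw [← (basT bas d).linearCombination_repr t]
    rw [Finsupp.linearCombination_apply, Finsupp.sum]
    refine Finset.sum_congr rfl fun x _ => ?_
    rw [basT_apply]
  have htm : SymTen.tmap A d q' (Tm d a t) = SymTen.tmap A d q t := by
    conv_lhs => rw [hsum]
    conv_rhs => rw [hsum]
    simp only [map_sum, map_smul, Tm_tprod, SymTen.tmap_tprod]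
    refine Finset.sum_congr rfl fun x hx => ?_
    congr 2
    funext k
    exact hq' (x k) (Finset.mem_biUnion.mpr ⟨x, hx,
      Finset.mem_image.mpr ⟨k, Finset.mem_univ _, rfl⟩⟩)
  let h : MvPolynomial (Fin m) A →ₐ[A] P := aeval (fun j => Function.surjInv hq (q' (X j)))
  have hqh : q.comp h = q' := by
    apply MvPolynomial.algHom_ext
    intro j
    simp only [AlgHom.comp_apply, h, aeval_X, Function.surjInv_eq hq]
  refine ⟨SymTen.tmap A d h (Tm d a t), ?_, ?_⟩
  · intro σ
    rw [← SymTen.tmap_reindex, ht' σ]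
  · rw [tmap_comp', hqh, htm]

end Flat

end Groth.Agent.H14Lib.TSG
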