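import Mathlib
import Groth.Agent.H14Lib.TSG4

/-!
# Flatness of the symmetric tensors of a flat algebra
-/

open scoped TensorProduct

namespace Groth.Agent.H14Lib.TSG

universe u

open Groth.Agent.H14Lib.CH Groth.Agent.H14Lib.GamN Groth.Agent.H14Lib.BCk MvPolynomial
open Groth.Agent.H14Lib.GamFT

section Free

variable {A : Type u} [CommRing A] {P : Type u} [CommRing P] [Algebra A P] {d : ℕ} {I : Type u}

theorem choose_congr (ν ν' : I →₀ ℕ) (h : ∃ y : Fin d → I, typ y = ν)
    (h' : ∃ y : Fin d → I, typ y = ν') (e : ν = ν') : h.choose = h'.choose := by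
  subst e
  rfl

open Classical in
/-- the retraction of the tensor power onto the symmetric tensors, for a free algebra -/
noncomputable def retr (bas : Module.Basis I A P) (d : ℕ) :
    (⨂[A] _ : Fin d, P) →ₗ[A] SymTen.TS A P d :=
  (basT bas d).constr A (fun x : Fin d → I =>
    if x = (⟨x, rfl⟩ : ∃ y : Fin d → I, typ y = typ x).choose then
      (⟨orbSum bas d (typ x), orbSum_mem_TS bas _⟩ : SymTen.TS A P d) else 0)

open Classical in
theorem retr_orbSum (bas : Module.Basis I A P) (ν : I →₀ ℕ) :
    retr bas d (orbSum bas d ν) = ⟨orbSum bas d ν, orbSum_mem_TS bas ν⟩ := by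
  by_cases hne : ((Fintype.piFinset (fun _ : Fin d => ν.support)).filter
      (fun x => typ x = ν)).Nonempty
  · obtain ⟨x₀, hx₀⟩ := hne
    have hν₀ : typ x₀ = ν := (Finset.mem_filter.mp hx₀).2
    have h : ∃ y : Fin d → I, typ y = ν := ⟨x₀, hν₀⟩
    have hρ : typ h.choose = ν := h.choose_spec
    have hmem : h.choose ∈ (Fintype.piFinset (fun _ : Fin d => ν.support)).filter
        (fun x => typ x = ν) := by
      rw [Finset.mem_filter, Fintype.mem_piFinset]
      exact ⟨fun k => mem_support_of_typ hρ k, hρ⟩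
    conv_lhs => rw [orbSum]
    rw [map_sum]
    have hterm : ∀ x ∈ (Fintype.piFinset (fun _ : Fin d => ν.support)).filter
        (fun x => typ x = ν),
        retr bas d (PiTensorProduct.tprod A (fun k => bas (x k))) =
          if x = h.choose then (⟨orbSum bas d ν, orbSum_mem_TS bas ν⟩ : SymTen.TS A P d)
            else 0 := by
      intro x hx
      have hx' : typ x = ν := (Finset.mem_filter.mp hx).2
      rw [← basT_apply, retr, Module.Basis.constr_basis]
      rw [choose_congr (typ x) ν ⟨x, rfl⟩ h hx']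
      by_cases hxc : x = h.choose
      · rw [if_pos hxc, if_pos hxc]
        apply Subtype.ext
        show orbSum bas d (typ x) = orbSum bas d ν
        rw [hx']
      · rw [if_neg hxc, if_neg hxc]
    rw [Finset.sum_congr rfl hterm, Finset.sum_ite_eq' _ h.choose, if_pos hmem]
  · rw [Finset.not_nonempty_iff_eq_empty] at hne
    have h0 : orbSum bas d ν = 0 := by
      rw [orbSum, hne, Finset.sum_empty]
    apply Subtype.ext
    show ((retr bas d (orbSum bas d ν) : SymTen.TS A P d) : ⨂[A] _ : Fin d, P) = orbSum bas d ν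
    rw [h0, map_zero]
    rfl

theorem retr_val (bas : Module.Basis I A P) (z : SymTen.TS A P d) : retr bas d z.1 = z := by
  have key : ∀ t ∈ Submodule.span A (Set.range (orbSum bas d)),
      ((retr bas d t : SymTen.TS A P d) : ⨂[A] _ : Fin d, P) = t := by
    intro t ht
    induction ht using Submodule.span_induction with
    | mem x hx =>
      obtain ⟨ν, rfl⟩ := hx
      rw [retr_orbSum]
    | zero => simp
    | add x y _ _ hx hy =>
      rw [map_add, Subalgebra.coe_add, hx, hy]
    | smul r x _ hx =>
      rw [map_smul, Subalgebra.coe_smul, hx]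
  exact Subtype.ext (key z.1 (TS_mem_span_orbit bas z.2))

theorem flat_TS_of_basis (bas : Module.Basis I A P) : Module.Flat A (SymTen.TS A P d) := by
  haveI : Module.Free A (⨂[A] _ : Fin d, P) := Module.Free.of_basis (basT bas d)
  exact Module.Flat.of_retract (SymTen.TS A P d).val.toLinearMap (retr bas d)
    (LinearMap.ext fun z => retr_val bas z)

end Free

section FlatTS

variable {A : Type u} [CommRing A] {B : Type u} [CommRing B] [Algebra A B] {d : ℕ}
  {P : Type u} [CommRing P] [Algebra A P] {I : Type u}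

theorem tmap_Tm_eq {P' : Type u} [CommRing P'] [Algebra A P'] (bas : Module.Basis I A P)
    (q : P →ₐ[A] B) (q' : P' →ₐ[A] B) (a : P →ₗ[A] P') (t : ⨂[A] _ : Fin d, P)
    (h : ∀ x ∈ ((basT bas d).repr t).support, ∀ k, q' (a (bas (x k))) = q (bas (x k))) :
    SymTen.tmap A d q' (Tm d a t) = SymTen.tmap A d q t := by
  have hsum : t = ∑ x ∈ ((basT bas d).repr t).support,
      ((basT bas d).repr t) x • PiTensorProduct.tprod A (fun k => bas (x k)) := by
    conv_lhs => rw [← (basT bas d).linearCombination_repr t]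
    rw [Finsupp.linearCombination_apply, Finsupp.sum]
    refine Finset.sum_congr rfl fun x _ => ?_
    rw [basT_apply]
  conv_lhs => rw [hsum]
  conv_rhs => rw [hsum]
  simp only [map_sum, map_smul, Tm_tprod, SymTen.tmap_tprod]
  refine Finset.sum_congr rfl fun x hx => ?_
  congr 2
  funext k
  exact h x hx k

theorem Tm_mem_TS {P' : Type u} [CommRing P'] [Algebra A P'] (a : P →ₗ[A] P')
    {t : ⨂[A] _ : Fin d, P} (ht : t ∈ SymTen.TS A P d) : Tm d a t ∈ SymTen.TS A P' d := by
  intro σ
  rw [← SymTen.perm_apply, ← Tm_perm, SymTen.perm_apply, ht σ]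

open Classical in
theorem flat_TS_of_flat [Module.Flat A B] : Module.Flat A (SymTen.TS A B d) := by
  apply Module.Flat.of_forall_exists_factorization
  intro l f x hx
  let q : MvPolynomial B A →ₐ[A] B := MvPolynomial.aeval (fun b => b)
  have hq : Function.Surjective q := fun b => ⟨MvPolynomial.X b, by simp [q]⟩
  let bas := MvPolynomial.basisMonomials B A
  have hl : ∀ i : Fin l, ∃ z' ∈ SymTen.TS A (MvPolynomial B A) d,
      SymTen.tmap A d q z' = (x (Finsupp.single i 1)).1 :=
    fun i => Ha_of_flat bas q hq _ (x (Finsupp.single i 1)).2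
  choose zt hzt hzq using hl
  have hfsum : f = ∑ i, f i • Finsupp.single i (1 : A) := by
    conv_lhs => rw [← Finsupp.univ_sum_single f]
    refine Finset.sum_congr rfl fun i _ => ?_
    rw [Finsupp.smul_single, smul_eq_mul, mul_one]
  have hw0 : SymTen.tmap A d q (∑ i, f i • zt i) = 0 := by
    rw [map_sum]
    simp only [map_smul, hzq]
    have h' : (SymTen.TS A B d).val.toLinearMap (x f) = 0 := by rw [hx, map_zero]
    rw [hfsum, map_sum, map_sum] at h'
    simp only [map_smul, AlgHom.toLinearMap_apply, Subalgebra.coe_val] at h'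
    exact h' 
  have hN := mem_Nul_of_tmap_eq_zero d hq _ hw0
  set Mon : Finset (B →₀ ℕ) := Finset.univ.biUnion (fun i : Fin l =>
    ((basT bas d).repr (zt i)).support.biUnion (fun x => Finset.univ.image x)) with hMon
  obtain ⟨m, a, q', ha, hq'⟩ := exists_cover_of_mem_Nul bas q Mon
    (fun _ : Unit => ∑ i, f i • zt i) (fun _ => hN)
  let x'' : (Fin l →₀ A) →ₗ[A] SymTen.TS A (MvPolynomial (Fin m) A) d :=
    Finsupp.linearCombination A (fun i : Fin l =>
      (⟨Tm d a (zt i), Tm_mem_TS a (hzt i)⟩ : SymTen.TS A (MvPolynomial (Fin m) A) d))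
  have hx'' : x'' f = 0 := by
    apply Subtype.val_injective
    show (SymTen.TS A (MvPolynomial (Fin m) A) d).val.toLinearMap (x'' f) = 0
    rw [hfsum, map_sum, map_sum]
    simp only [map_smul, x'', Finsupp.linearCombination_single, one_smul,
      AlgHom.toLinearMap_apply, Subalgebra.coe_val]
    have := ha ()
    rw [map_sum] at this
    simp only [map_smul] at this
    exact this
  haveI := flat_TS_of_basis (d := d) (basU m A)
  obtain ⟨k, a', y', hxy, haf⟩ := Module.Flat.iff_forall_exists_factorization.mp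
    (inferInstance : Module.Flat A (SymTen.TS A (MvPolynomial (Fin m) A) d)) hx''
  refine ⟨k, a', (SymTen.TSmap A d q').toLinearMap ∘ₗ y', ?_, haf⟩
  rw [LinearMap.comp_assoc, ← hxy]
  apply Finsupp.lhom_ext
  intro i b
  have h1 : Finsupp.single i b = b • Finsupp.single i (1 : A) := by
    rw [Finsupp.smul_single, smul_eq_mul, mul_one]
  rw [h1, map_smul, map_smul]
  congr 1
  apply Subtype.ext
  simp only [LinearMap.comp_apply, x'', Finsupp.linearCombination_single, one_smul,
    AlgHom.toLinearMap_apply]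
  rw [TSmap_val, ← hzq i]
  symm
  apply tmap_Tm_eq bas q q' a (zt i)
  intro x hx k
  apply hq'
  rw [hMon]
  exact Finset.mem_biUnion.mpr ⟨i, Finset.mem_univ _, Finset.mem_biUnion.mpr ⟨x, hx,
    Finset.mem_image.mpr ⟨k, Finset.mem_univ _, rfl⟩⟩⟩

end FlatTS

section Iso

variable {A : Type u} [CommRing A] {B : Type u} [CommRing B] [Algebra A B] {d : ℕ}
  {C C' : Type u} [CommRing C] [Algebra A C] [CommRing C'] [Algebra A C']

/-- two algebras of divided powers are isomorphic -/
theorem nonempty_algEquiv_of_isGammaD (γ : PolLaw.MulLaw A B C d) (hγ : PolLaw.IsGammaD γ)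
    (γ' : PolLaw.MulLaw A B C' d) (hγ' : PolLaw.IsGammaD γ') : Nonempty (C ≃ₐ[A] C') := by
  obtain ⟨f, hf, -⟩ := hγ C' γ'
  obtain ⟨g, hg, -⟩ := hγ' C γ
  have h1 : g.comp f = AlgHom.id A C := by
    apply (hγ C γ).unique
    · show PolLaw.postcomp (g.comp f).toLinearMap γ.law = γ.law
      rw [AlgHom.comp_toLinearMap, ← postcomp_postcomp, hf, hg]
    · exact postcomp_id γ.law
  have h2 : f.comp g = AlgHom.id A C' := by
    apply (hγ' C' γ').unique
    · show PolLaw.postcomp (f.comp g).toLinearMap γ'.law = γ'.law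
      rw [AlgHom.comp_toLinearMap, ← postcomp_postcomp, hg, hf]
    · exact postcomp_id γ'.law
  exact ⟨AlgEquiv.ofAlgHom f g h2 h1⟩

end Iso

end Groth.Agent.H14Lib.TSG
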