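import Mathlib
import Groth.Agent.H14Lib.TSG5
import Groth.Agent.H14Lib.SymProj1

/-!
# Symmetric tensors of a flat algebra are generated by the elementary symmetric tensors
-/

open scoped TensorProduct

namespace Groth.Agent.H14Lib.ElSym

universe u

open MvPolynomial

section Trunc

variable {L : Type*} {S : Type*} [CommRing S]

/-- polynomials all of whose monomials have degree `> N` -/
def Ideg (L : Type*) (S : Type*) [CommRing S] (N : ℕ) : Ideal (MvPolynomial L S) where
  carrier := {p | ∀ m : L →₀ ℕ, m.degree ≤ N → coeff m p = 0}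
  add_mem' := by
    intro p q hp hq m hm
    rw [coeff_add, hp m hm, hq m hm, add_zero]
  zero_mem' := by
    intro m _
    exact coeff_zero m
  smul_mem' := by
    intro c p hp m hm
    classical
    rw [smul_eq_mul, coeff_mul]
    refine Finset.sum_eq_zero fun uv huv => ?_
    have h : uv.1 + uv.2 = m := Finset.HasAntidiagonal.mem_antidiagonal.mp huv
    have hd : uv.2.degree ≤ N := by
      rw [← h, map_add] at hm
      omega
    rw [hp _ hd, mul_zero]

theorem mul_mem_Ideg {a b : ℕ} {p q : MvPolynomial L S} (hp : p ∈ Ideg L S a)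
    (hq : q ∈ Ideg L S b) : p * q ∈ Ideg L S (a + b + 1) := by
  classical
  intro m hm
  rw [coeff_mul]
  refine Finset.sum_eq_zero fun uv huv => ?_
  have h : uv.1 + uv.2 = m := Finset.HasAntidiagonal.mem_antidiagonal.mp huv
  rw [← h, map_add] at hm
  by_cases h1 : uv.1.degree ≤ a
  · rw [hp _ h1, zero_mul]
  · have h2 : uv.2.degree ≤ b := by omega
    rw [hq _ h2, mul_zero]

theorem monomial_mem_Ideg {N : ℕ} {m : L →₀ ℕ} (hm : N < m.degree) (c : S) :
    monomial m c ∈ Ideg L S N := by
  classical
  intro m' hm'
  rw [coeff_monomial, if_neg]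
  rintro rfl
  omega

theorem map_mem_Ideg {S' : Type*} [CommRing S'] (f : S →+* S') {N : ℕ} {p : MvPolynomial L S}
    (hp : p ∈ Ideg L S N) : MvPolynomial.map f p ∈ Ideg L S' N := by
  intro m hm
  rw [coeff_map, hp m hm, map_zero]

theorem prod_one_add_of_mul_eq_zero {Q : Type*} [CommRing Q] {κ : Type*} (T : Finset κ)
    (u : κ → Q) (h : ∀ s ∈ T, ∀ t ∈ T, u s * u t = 0) :
    ∏ s ∈ T, (1 + u s) = 1 + ∑ s ∈ T, u s := by
  classical
  induction T using Finset.induction_on with
  | empty => simp
  | insert a T ha ih =>
    rw [Finset.prod_insert ha, Finset.sum_insert ha,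
      ih (fun s hs t ht => h s (Finset.mem_insert_of_mem hs) t (Finset.mem_insert_of_mem ht))]
    have : u a * ∑ s ∈ T, u s = 0 := by
      rw [Finset.mul_sum]
      exact Finset.sum_eq_zero fun s hs =>
        h a (Finset.mem_insert_self _ _) s (Finset.mem_insert_of_mem hs)
    linear_combination this

end Trunc

section Main

variable (R : Type u) [CommRing R] (A : Type u) [CommRing A] [Algebra R A] (n : ℕ)

/-- the subalgebra generated by the elementary symmetric tensors -/
noncomputable def Sg : Subalgebra R (⨂[R] _ : Fin n, A) :=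
  Algebra.adjoin R {t : ⨂[R] _ : Fin n, A | ∃ (a : A) (j : ℕ),
      t = ∑ I ∈ (Finset.univ : Finset (Fin n)).powersetCard j,
        PiTensorProduct.tprod R (fun i : Fin n => if i ∈ I then a else (1 : A))}

variable {A n}

/-- the embedding of the `i`-th factor -/
noncomputable def io (i : Fin n) : A →+* ⨂[R] _ : Fin n, A :=
  (PiTensorProduct.singleAlgHom (R := R) (A := fun _ : Fin n => A) i).toRingHom

theorem prod_io (I : Finset (Fin n)) (b : Fin n → A) :
    ∏ i ∈ I, io R i (b i) = PiTensorProduct.tprod R (fun l => if l ∈ I then b l else 1) := by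
  classical
  have h : ∀ i, io R i (b i) = PiTensorProduct.tprod R (Pi.mulSingle i (b i)) := fun i => rfl
  simp only [h]
  rw [Groth.Agent.H14Lib.SymProj.prod_tprod]
  congr 1
  funext l
  exact Finset.prod_pi_mulSingle l b I

variable (n)

/-- the norm-like multiplicative map on polynomials -/
noncomputable def Nm {L : Type*} (x : MvPolynomial L A) : MvPolynomial L (⨂[R] _ : Fin n, A) :=
  ∏ i : Fin n, MvPolynomial.map (io R i) x

theorem Nm_mul {L : Type*} (x y : MvPolynomial L A) : Nm R n (x * y) = Nm R n x * Nm R n y := by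
  simp only [Nm, map_mul, Finset.prod_mul_distrib]

theorem Nm_one {L : Type*} : Nm R n (1 : MvPolynomial L A) = 1 := by
  simp only [Nm, map_one, Finset.prod_const_one]

theorem Nm_congr {L : Type*} {N : ℕ} {x y : MvPolynomial L A} (h : x - y ∈ Ideg L A N) :
    Nm R n x - Nm R n y ∈ Ideg L (⨂[R] _ : Fin n, A) N := by
  rw [← Ideal.Quotient.eq]
  simp only [Nm, map_prod]
  refine Finset.prod_congr rfl fun i _ => ?_
  rw [Ideal.Quotient.eq, ← map_sub]
  exact map_mem_Ideg _ h

/-- all the coefficients of the norm lie in the subalgebra generated by the elementary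
symmetric tensors -/
def Good {L : Type*} (x : MvPolynomial L A) : Prop := ∀ m, coeff m (Nm R n x) ∈ Sg R A n

theorem Good_one {L : Type*} : Good R n (1 : MvPolynomial L A) := by
  classical
  intro m
  rw [Nm_one, coeff_one]
  split_ifs
  · exact one_mem _
  · exact zero_mem _

variable {R n}

theorem Good_mul {L : Type*} {x y : MvPolynomial L A} (hx : Good R n x) (hy : Good R n y) :
    Good R n (x * y) := by
  classical
  intro m
  rw [Nm_mul, coeff_mul]
  exact Subalgebra.sum_mem _ fun uv _ => Subalgebra.mul_mem _ (hx _) (hy _)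

theorem Good_prod {L : Type*} {κ : Type*} (T : Finset κ) (f : κ → MvPolynomial L A)
    (h : ∀ s ∈ T, Good R n (f s)) : Good R n (∏ s ∈ T, f s) := by
  classical
  induction T using Finset.induction_on with
  | empty => simpa using Good_one R n
  | insert a T ha ih =>
    rw [Finset.prod_insert ha]
    exact Good_mul (h a (Finset.mem_insert_self _ _))
      (ih fun s hs => h s (Finset.mem_insert_of_mem hs))

theorem Good_basic {L : Type*} (m : L →₀ ℕ) (b : A) : Good R n (1 + monomial m b) := by
  classical
  intro e
  have h1 : Nm R n (1 + monomial m b) = ∑ I ∈ (Finset.univ : Finset (Fin n)).powerset,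
      monomial (I.card • m) (PiTensorProduct.tprod R (fun l => if l ∈ I then b else 1)) := by
    simp only [Nm, map_add, map_one, map_monomial]
    rw [Finset.prod_one_add]
    refine Finset.sum_congr rfl fun I _ => ?_
    rw [← monomial_sum_prod, Finset.sum_const]
    congr 1
    exact prod_io R I (fun _ => b)
  rw [h1, coeff_sum, Finset.sum_powerset]
  refine Subalgebra.sum_mem _ fun j _ => ?_
  by_cases hj : j • m = e
  · have : ∑ I ∈ Finset.powersetCard j (Finset.univ : Finset (Fin n)),
        coeff e (monomial (I.card • m)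
          (PiTensorProduct.tprod R (fun l => if l ∈ I then b else (1 : A)))) =
        ∑ I ∈ Finset.powersetCard j (Finset.univ : Finset (Fin n)),
          PiTensorProduct.tprod R (fun l => if l ∈ I then b else (1 : A)) := by
      refine Finset.sum_congr rfl fun I hI => ?_
      rw [(Finset.mem_powersetCard.mp hI).2, hj, coeff_monomial, if_pos rfl]
    rw [this]
    exact Algebra.subset_adjoin ⟨b, j, rfl⟩
  · rw [Finset.sum_eq_zero]
    · exact zero_mem _
    · intro I hI
      rw [(Finset.mem_powersetCard.mp hI).2, coeff_monomial, if_neg hj]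

theorem exists_good {L : Type*} (N : ℕ) (x : MvPolynomial L A) (hx : x - 1 ∈ Ideg L A 0) :
    ∃ y : MvPolynomial L A, Good R n y ∧ y - 1 ∈ Ideg L A 0 ∧ x - y ∈ Ideg L A N := by
  classical
  induction N with
  | zero => exact ⟨1, Good_one R n, by simp, hx⟩
  | succ N ih =>
    obtain ⟨y, hy, hy1, hxy⟩ := ih
    set z := x - y with hz
    set T := z.support.filter (fun m => m.degree = N + 1) with hT
    set w := ∏ m ∈ T, (1 + monomial m (coeff m z)) with hw
    have hdeg : ∀ m ∈ T, m.degree = N + 1 := fun m hm => (Finset.mem_filter.mp hm).2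
    refine ⟨y * w, Good_mul hy (Good_prod T _ fun m _ => Good_basic m _), ?_, ?_⟩
    · have hw1 : w - 1 ∈ Ideg L A 0 := by
        rw [← Ideal.Quotient.eq, hw, map_prod, map_one]
        refine Finset.prod_eq_one fun m hm => ?_
        rw [map_add, map_one, Ideal.Quotient.eq_zero_iff_mem.mpr
          (monomial_mem_Ideg (by rw [hdeg m hm]; omega) _), add_zero]
      have : y * w - 1 = (y - 1) * w + (w - 1) := by ring
      rw [this]
      exact Ideal.add_mem _ (Ideal.mul_mem_right _ _ hy1) hw1
    · set zz := ∑ m ∈ T, monomial m (coeff m z) with hzz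
      have hwq : Ideal.Quotient.mk (Ideg L A (N + 1)) w =
          1 + Ideal.Quotient.mk (Ideg L A (N + 1)) zz := by
        rw [hw, map_prod, hzz, map_sum]
        simp only [map_add, map_one]
        apply prod_one_add_of_mul_eq_zero
        intro s hs t ht
        rw [← map_mul, monomial_mul, Ideal.Quotient.eq_zero_iff_mem]
        apply monomial_mem_Ideg
        rw [map_add, hdeg s hs, hdeg t ht]
        omega
      have hzzN : zz ∈ Ideg L A N :=
        Ideal.sum_mem _ fun m hm => monomial_mem_Ideg (by rw [hdeg m hm]; omega) _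
      have h1 : (y - 1) * zz ∈ Ideg L A (N + 1) := by
        have := mul_mem_Ideg hy1 hzzN
        rwa [zero_add] at this
      have h2 : z - zz ∈ Ideg L A (N + 1) := by
        intro m hm
        rw [coeff_sub, hzz, coeff_sum]
        simp only [coeff_monomial]
        rw [Finset.sum_ite_eq']
        by_cases hmT : m ∈ T
        · rw [if_pos hmT, sub_self]
        · rw [if_neg hmT, sub_zero]
          by_cases hmN : m.degree ≤ N
          · exact hxy m hmN
          · have : m.degree = N + 1 := by omega
            by_contra hne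
            exact hmT (Finset.mem_filter.mpr ⟨mem_support_iff.mpr hne, this⟩)
      rw [← Ideal.Quotient.eq, map_mul, hwq]
      have e1 : Ideal.Quotient.mk (Ideg L A (N + 1)) x =
          Ideal.Quotient.mk _ y + Ideal.Quotient.mk _ zz := by
        rw [← map_add, Ideal.Quotient.eq]
        have : x - (y + zz) = z - zz := by rw [hz]; ring
        rw [this]
        exact h2
      have e2 : Ideal.Quotient.mk (Ideg L A (N + 1)) y * Ideal.Quotient.mk _ zz =
          Ideal.Quotient.mk _ zz := by
        rw [← map_mul, Ideal.Quotient.eq]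
        have : y * zz - zz = (y - 1) * zz := by ring
        rw [this]
        exact h1
      rw [e1, mul_add, mul_one, e2]

theorem good_of_sub_one_mem {L : Type*} (x : MvPolynomial L A) (hx : x - 1 ∈ Ideg L A 0) :
    Good R n x := by
  intro m
  obtain ⟨y, hy, -, hxy⟩ := exists_good (R := R) (n := n) m.degree x hx
  have := Nm_congr R n hxy m le_rfl
  rw [coeff_sub, sub_eq_zero] at this
  rw [this]
  exact hy m

end Main

end Groth.Agent.H14Lib.ElSym
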