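import Mathlib
import Groth.Agent.H14Lib.DPcyc1
import Groth.Agent.H14Lib.ElSym1

/-!
# The tensor power of the dual numbers of the plane, and its coordinate functionals
-/

open scoped TensorProduct

namespace Groth.Agent.H14Lib.DPcyc

universe u

open Groth.Agent.H14Lib.ElSym

section Model

variable (κ : Type u) [Field κ] (d : ℕ)

/-- the model algebra -/
abbrev TT : Type u := ⨂[κ] _ : Fin d, TrivSqZeroExt κ (Fin 2 → κ)

variable {κ d}

/-- the square zero elements -/
noncomputable def zz (l : Fin d) (v : Fin 2 → κ) : TT κ d :=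
  io κ l (TrivSqZeroExt.inr v : TrivSqZeroExt κ (Fin 2 → κ))

theorem zz_add (l : Fin d) (u v : Fin 2 → κ) : zz l (u + v) = zz l u + zz l v := by
  rw [zz, TrivSqZeroExt.inr_add, map_add]
  rfl

theorem zz_mul (l : Fin d) (u v : Fin 2 → κ) : zz l u * zz l v = 0 := by
  rw [zz, zz, ← map_mul, TrivSqZeroExt.inr_mul_inr, map_zero]

theorem zz_smul (l : Fin d) (c : κ) (v : Fin 2 → κ) :
    zz l (c • v) = algebraMap κ (TT κ d) c * zz l v := by
  rw [zz, TrivSqZeroExt.inr_smul, Algebra.smul_def, map_mul]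
  congr 1
  exact (PiTensorProduct.singleAlgHom (R := κ)
    (A := fun _ : Fin d => TrivSqZeroExt κ (Fin 2 → κ)) l).commutes c

/-- the coordinate functional attached to a word -/
noncomputable def lam (w : Fin d → Fin 2) : TT κ d →ₗ[κ] κ :=
  PiTensorProduct.lift ((MultilinearMap.mkPiAlgebra κ (Fin d) κ).compLinearMap
    (fun l => (LinearMap.proj (w l)) ∘ₗ TrivSqZeroExt.sndHom κ (Fin 2 → κ)))

theorem lam_tprod (w : Fin d → Fin 2) (t : Fin d → TrivSqZeroExt κ (Fin 2 → κ)) :
    lam w (PiTensorProduct.tprod κ t) = ∏ l, (t l).snd (w l) := by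
  rw [lam, PiTensorProduct.lift.tprod, MultilinearMap.compLinearMap_apply,
    MultilinearMap.mkPiAlgebra_apply]
  rfl

/-- the word attached to a subset -/
def wI (I : Finset (Fin d)) : Fin d → Fin 2 := fun l => if l ∈ I then 0 else 1

theorem prod_zz (v : Fin 2 → κ) :
    ∏ l : Fin d, zz l v = PiTensorProduct.tprod κ
      (fun _ => (TrivSqZeroExt.inr v : TrivSqZeroExt κ (Fin 2 → κ))) := by
  have := prod_io κ (Finset.univ : Finset (Fin d))
    (fun _ => (TrivSqZeroExt.inr v : TrivSqZeroExt κ (Fin 2 → κ)))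
  simp only [Finset.mem_univ, if_true] at this
  exact this

theorem lam_prod_zz (I : Finset (Fin d)) (v : Fin 2 → κ) :
    lam (wI I) (∏ l : Fin d, zz l v) = v 0 ^ I.card * v 1 ^ (d - I.card) := by
  classical
  rw [prod_zz, lam_tprod]
  simp only [TrivSqZeroExt.snd_inr, wI]
  have : ∀ l : Fin d, v (if l ∈ I then 0 else 1) = if l ∈ I then v 0 else v 1 := by
    intro l
    split_ifs <;> rfl
  simp only [this]
  rw [Finset.prod_ite, Finset.prod_const, Finset.prod_const, Finset.filter_mem_eq_inter,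
    Finset.univ_inter, Finset.filter_not, Finset.filter_mem_eq_inter, Finset.univ_inter,
    ← Finset.compl_eq_univ_sdiff, Finset.card_compl, Fintype.card_fin]

theorem prod_zz_compl (I : Finset (Fin d)) (v1 v2 : Fin 2 → κ) :
    (∏ l ∈ I, zz l v1) * ∏ l ∈ Iᶜ, zz l v2 = PiTensorProduct.tprod κ
      (fun l => if l ∈ I then (TrivSqZeroExt.inr v1 : TrivSqZeroExt κ (Fin 2 → κ))
        else TrivSqZeroExt.inr v2) := by
  have h1 := prod_io κ I (fun _ => (TrivSqZeroExt.inr v1 : TrivSqZeroExt κ (Fin 2 → κ)))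
  have h2 := prod_io κ Iᶜ (fun _ => (TrivSqZeroExt.inr v2 : TrivSqZeroExt κ (Fin 2 → κ)))
  have e1 : ∏ l ∈ I, zz l v1 = ∏ l ∈ I, io κ l
      (TrivSqZeroExt.inr v1 : TrivSqZeroExt κ (Fin 2 → κ)) := rfl
  have e2 : ∏ l ∈ Iᶜ, zz l v2 = ∏ l ∈ Iᶜ, io κ l
      (TrivSqZeroExt.inr v2 : TrivSqZeroExt κ (Fin 2 → κ)) := rfl
  rw [e1, e2, h1, h2, PiTensorProduct.tprod_mul_tprod]
  congr 1
  funext l
  by_cases hl : l ∈ I
  · simp [hl]
  · simp [hl]

theorem lam_prod_zz_compl (I I' : Finset (Fin d)) :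
    lam (wI I) ((∏ l ∈ I', zz l (Pi.single 0 1)) * ∏ l ∈ I'ᶜ, zz l (Pi.single 1 1)) =
      if I' = I then (1 : κ) else 0 := by
  classical
  rw [prod_zz_compl, lam_tprod]
  by_cases h : I' = I
  · rw [if_pos h, h]
    refine Finset.prod_eq_one fun l _ => ?_
    by_cases hl : l ∈ I
    · simp [hl, wI]
    · simp [hl, wI]
  · rw [if_neg h]
    have : ∃ l, ¬ (l ∈ I' ↔ l ∈ I) := by
      by_contra hcon
      push Not at hcon
      exact h (Finset.ext hcon)
    obtain ⟨l, hl⟩ := this
    refine Finset.prod_eq_zero (Finset.mem_univ l) ?_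
    by_cases h1 : l ∈ I'
    · have h2 : l ∉ I := fun h2 => hl ⟨fun _ => h2, fun _ => h1⟩
      simp [h1, h2, wI]
    · have h2 : l ∈ I := by
        by_contra h2
        exact hl ⟨fun h => absurd h h1, fun h => absurd h h2⟩
      simp [h1, h2, wI]

theorem lam_es (I : Finset (Fin d)) (k k' : ℕ) (hk : k + k' = d) :
    lam (wI I) ((∑ I' ∈ (Finset.univ : Finset (Fin d)).powersetCard k,
        ∏ l ∈ I', zz l (Pi.single 0 1)) *
      (∑ I'' ∈ (Finset.univ : Finset (Fin d)).powersetCard k',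
        ∏ l ∈ I'', zz l (Pi.single 1 1))) = if I.card = k then (1 : κ) else 0 := by
  classical
  rw [es_mul_es_compl _ _ (fun l => zz_mul l _ _) k k' (by rw [Fintype.card_fin]; exact hk),
    map_sum]
  simp only [lam_prod_zz_compl]
  rw [Finset.sum_ite_eq' ]
  by_cases h : I.card = k
  · rw [if_pos h, if_pos (Finset.mem_powersetCard.mpr ⟨Finset.subset_univ _, h⟩)]
  · rw [if_neg h, if_neg]
    intro h'
    exact h (Finset.mem_powersetCard.mp h').2

end Model

section FiniteField

variable {κ : Type*} [Field κ] [Fintype κ]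

theorem ff_identity {d : ℕ} (hd : Fintype.card κ < d) (a b : κ) :
    a * b ^ (d - 1) = a ^ Fintype.card κ * b ^ (d - Fintype.card κ) := by
  rw [FiniteField.pow_card]
  congr 1
  have hq : 1 < Fintype.card κ := Fintype.one_lt_card
  by_cases hb : b = 0
  · rw [hb, zero_pow (by omega), zero_pow (by omega)]
  · have e : d - 1 = (d - Fintype.card κ) + (Fintype.card κ - 1) := by omega
    rw [e, pow_add, FiniteField.pow_card_sub_one_eq_one b hb, mul_one]

end FiniteField

end Groth.Agent.H14Lib.DPcyc
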