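import Mathlib

/-!
# Non-cyclic localisations have two independent functionals on the fibre
-/

open scoped TensorProduct

namespace Groth.Agent.H14Lib.DPcyc

universe u

theorem exists_functionals {A M : Type u} [CommRing A] [AddCommGroup M] [Module A M]
    [Module.Finite A M] (p : Ideal A) [p.IsPrime]
    (hnc : ¬ ∃ x : LocalizedModule p.primeCompl M,
      Submodule.span (Localization.AtPrime p) {x} = ⊤) :
    ∃ (π1 π2 : M →ₗ[A] p.ResidueField) (m1 m2 : M),
      π1 m1 = 1 ∧ π2 m1 = 0 ∧ π1 m2 = 0 ∧ π2 m2 = 1 := by
  classical
  let j : M → p.ResidueField ⊗[Localization.AtPrime p] LocalizedModule p.primeCompl M :=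
    fun m => (1 : p.ResidueField) ⊗ₜ[Localization.AtPrime p]
      (LocalizedModule.mkLinearMap p.primeCompl M m)
  have hj : ∀ m, j m = (1 : p.ResidueField) ⊗ₜ[Localization.AtPrime p]
      (LocalizedModule.mk m (1 : p.primeCompl)) := fun m => rfl
  have hjadd : ∀ m m', j (m + m') = j m + j m' := by
    intro m m'
    simp only [j, map_add, TensorProduct.tmul_add]
  have hjsmul : ∀ (a : A) m, j (a • m) = (algebraMap A p.ResidueField a) • j m := by
    intro a m
    simp only [j, map_smul]
    rw [← algebraMap_smul (Localization.AtPrime p) a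
      ((LocalizedModule.mkLinearMap p.primeCompl M) m), ← TensorProduct.smul_tmul,
      TensorProduct.smul_tmul', Algebra.smul_def, mul_one, smul_eq_mul, mul_one,
      ← IsScalarTower.algebraMap_apply]
  -- spanning
  have hmem : ∀ (c : p.ResidueField) (y : LocalizedModule p.primeCompl M),
      c ⊗ₜ[Localization.AtPrime p] y ∈ Submodule.span p.ResidueField (Set.range j) := by
    intro c y
    induction y using LocalizedModule.induction_on with
    | h m s =>
      have e : LocalizedModule.mk m s =
          (Localization.mk 1 s : Localization.AtPrime p) • LocalizedModule.mk m (1 : p.primeCompl) := by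
        rw [LocalizedModule.mk_smul_mk, one_smul, mul_one]
      rw [e, ← TensorProduct.smul_tmul]
      have e2 : ((Localization.mk 1 s : Localization.AtPrime p) • c) ⊗ₜ[Localization.AtPrime p]
          LocalizedModule.mk m (1 : p.primeCompl) =
          ((Localization.mk 1 s : Localization.AtPrime p) • c) • j m := by
        rw [hj, TensorProduct.smul_tmul', smul_eq_mul, mul_one]
      rw [e2]
      exact Submodule.smul_mem _ _ (Submodule.subset_span ⟨m, rfl⟩)
  have hspan : Submodule.span p.ResidueField (Set.range j) = ⊤ := by
    rw [eq_top_iff]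
    intro w _
    clear * - hmem
    induction w using TensorProduct.induction_on with
    | zero => exact Submodule.zero_mem _
    | tmul c y => exact hmem c y
    | add x y hx hy => exact Submodule.add_mem _ hx hy
  obtain ⟨b, hbS, hbspan, hbli⟩ := exists_linearIndependent (K := p.ResidueField)
    (t := Set.range j)
  have hb_top : ⊤ ≤ Submodule.span p.ResidueField (Set.range (Subtype.val : b → _)) := by
    rw [Subtype.range_coe, hbspan, hspan]
  let B : Module.Basis b p.ResidueField
      (p.ResidueField ⊗[Localization.AtPrime p] LocalizedModule p.primeCompl M) :=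
    Module.Basis.mk hbli hb_top
  have hB : ∀ i : b, B i = i.1 := fun i => by rw [Module.Basis.mk_apply]
  haveI : Finite b := Module.Finite.finite_basis B
  letI : Fintype b := Fintype.ofFinite b
  have hpre : ∀ i : b, ∃ m : M, j m = i.1 := fun i => hbS i.2
  choose mm hmm using hpre
  by_cases hcard : Fintype.card b ≤ 1
  · exfalso
    apply hnc
    have hsub : Subsingleton b := Fintype.card_le_one_iff_subsingleton.mp hcard
    let f : b → LocalizedModule p.primeCompl M :=
      fun i => LocalizedModule.mk (mm i) (1 : p.primeCompl)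
    have hf : Submodule.span (Localization.AtPrime p) (Set.range f) = ⊤ := by
      apply IsLocalRing.span_eq_top_of_tmul_eq_basis f B
      intro i
      rw [hB, ← hmm i, hj]
    by_cases hne : Nonempty b
    · obtain ⟨i0⟩ := hne
      refine ⟨f i0, ?_⟩
      rw [eq_top_iff, ← hf]
      apply Submodule.span_mono
      rintro _ ⟨i, rfl⟩
      rw [Subsingleton.elim i i0]
      exact Set.mem_singleton _
    · refine ⟨0, ?_⟩
      rw [eq_top_iff, ← hf]
      apply Submodule.span_mono
      rintro _ ⟨i, rfl⟩
      exact absurd ⟨i⟩ hne
  · push Not at hcard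
    obtain ⟨i1, i2, hne⟩ := Fintype.one_lt_card_iff.mp hcard
    have mk : ∀ i : b, ∃ π : M →ₗ[A] p.ResidueField, ∀ m, π m = B.coord i (j m) := by
      intro i
      refine ⟨{ toFun := fun m => B.coord i (j m), map_add' := ?_, map_smul' := ?_ }, fun m => rfl⟩
      · intro m m'
        rw [hjadd, map_add]
      · intro a m
        rw [hjsmul, map_smul, RingHom.id_apply, smul_eq_mul, Algebra.smul_def]
    obtain ⟨π1, hπ1⟩ := mk i1
    obtain ⟨π2, hπ2⟩ := mk i2
    refine ⟨π1, π2, mm i1, mm i2, ?_, ?_, ?_, ?_⟩
    · rw [hπ1, hmm, ← hB, Module.Basis.coord_apply, Module.Basis.repr_self, Finsupp.single_eq_same]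
    · rw [hπ2, hmm, ← hB, Module.Basis.coord_apply, Module.Basis.repr_self,
        Finsupp.single_eq_of_ne hne.symm]
    · rw [hπ1, hmm, ← hB, Module.Basis.coord_apply, Module.Basis.repr_self,
        Finsupp.single_eq_of_ne hne]
    · rw [hπ2, hmm, ← hB, Module.Basis.coord_apply, Module.Basis.repr_self, Finsupp.single_eq_same]

end Groth.Agent.H14Lib.DPcyc
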