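import Mathlib
import Groth.Prelude.Def_PolLaw
import Groth.Agent.H14Lib.DPcyc2
import Groth.Agent.H14Lib.DPcyc3

/-!
# If the divided powers span `Γ^d` then the residue fields are big or the module is locally cyclic
-/

open scoped TensorProduct

namespace Groth.Agent.H14Lib.DPcyc

universe u

theorem main {A M : Type u} [CommRing A] [AddCommGroup M] [Module A M] [Module.Finite A M]
    (d : ℕ)
    (h : Submodule.span A (Set.range (DividedPowerAlgebra.dp A d : M → DividedPowerAlgebra A M)) =
      PolLaw.gammaPiece A M d)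
    (p : PrimeSpectrum A) :
    (d : Cardinal) ≤ Cardinal.mk p.asIdeal.ResidueField ∨
      ∃ x : LocalizedModule p.asIdeal.primeCompl M,
        Submodule.span (Localization.AtPrime p.asIdeal) {x} = ⊤ := by
  classical
  by_contra hcon
  push Not at hcon
  obtain ⟨hlt, hnc⟩ := hcon
  have hnc' : ¬ ∃ x : LocalizedModule p.asIdeal.primeCompl M,
      Submodule.span (Localization.AtPrime p.asIdeal) {x} = ⊤ := fun ⟨x, hx⟩ => hnc x hx
  haveI : Finite p.asIdeal.ResidueField :=
    Cardinal.lt_aleph0_iff_finite.mp (hlt.trans (Cardinal.natCast_lt_aleph0 (n := d)))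
  letI : Fintype p.asIdeal.ResidueField := Fintype.ofFinite _
  have hq : Fintype.card p.asIdeal.ResidueField < d := by
    rw [Cardinal.mk_fintype] at hlt
    exact_mod_cast hlt
  have hq2 : 1 < Fintype.card p.asIdeal.ResidueField := Fintype.one_lt_card
  obtain ⟨π1, π2, m1, m2, h11, h21, h12, h22⟩ := exists_functionals p.asIdeal hnc'
  let π : M → (Fin 2 → p.asIdeal.ResidueField) := fun m => ![π1 m, π2 m]
  letI algI : Algebra A (TT p.asIdeal.ResidueField d) :=
    Algebra.compHom (TT p.asIdeal.ResidueField d) (algebraMap A p.asIdeal.ResidueField)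
  let z : Fin d → M → TT p.asIdeal.ResidueField d := fun l m => zz l (π m)
  have hadd : ∀ l u v, z l (u + v) = z l u + z l v := by
    intro l u v
    have : π (u + v) = π u + π v := by
      funext i
      fin_cases i <;> simp [π]
    simp only [z, this, zz_add]
  have hsmul : ∀ l (r : A) m, z l (r • m) =
      algebraMap A (TT p.asIdeal.ResidueField d) r * z l m := by
    intro l r m
    have : π (r • m) = (algebraMap A p.asIdeal.ResidueField r) • π m := by
      funext i
      fin_cases i <;> simp [π, Algebra.smul_def]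
    simp only [z, this, zz_smul]
    rfl
  have hz : ∀ l ∈ (Finset.univ : Finset (Fin d)), ∀ u v, z l u * z l v = 0 :=
    fun l _ u v => zz_mul l _ _
  let Φ := Phi z Finset.univ hadd hsmul hz
  have hd0 : 0 < d := by omega
  let l0 : Fin d := ⟨0, hd0⟩
  obtain ⟨Iq, -, hIq⟩ := Finset.exists_subset_card_eq (s := (Finset.univ : Finset (Fin d)))
    (n := Fintype.card p.asIdeal.ResidueField) (by
      rw [Finset.card_univ, Fintype.card_fin]
      omega)
  let Λ : DividedPowerAlgebra A M → p.asIdeal.ResidueField :=
    fun x => lam (wI {l0}) (Φ x) - lam (wI Iq) (Φ x)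
  have hΛadd : ∀ x y, Λ (x + y) = Λ x + Λ y := by
    intro x y
    simp only [Λ, map_add]
    ring
  have hΛsmul : ∀ (a : A) x, Λ (a • x) = algebraMap A p.asIdeal.ResidueField a * Λ x := by
    intro a x
    have e : Φ (a • x) = (algebraMap A p.asIdeal.ResidueField a) • Φ x := by
      rw [Algebra.smul_def, map_mul, AlgHom.commutes]
      exact (Algebra.smul_def (algebraMap A p.asIdeal.ResidueField a) (Φ x)).symm
    simp only [Λ]
    rw [e, map_smul, map_smul, smul_eq_mul, smul_eq_mul]
    ring
  have hkill : ∀ m, Λ (DividedPowerAlgebra.dp A d m) = 0 := by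
    intro m
    have e : Φ (DividedPowerAlgebra.dp A d m) = ∏ l : Fin d, zz l (π m) := by
      rw [Phi_dp, coeff_EE]
      have : (Finset.univ : Finset (Fin d)).powersetCard d = {Finset.univ} := by
        have := Finset.powersetCard_self (Finset.univ : Finset (Fin d))
        rwa [Finset.card_univ, Fintype.card_fin] at this
      rw [this, Finset.sum_singleton]
    simp only [Λ, e, lam_prod_zz, Finset.card_singleton, hIq]
    have := ff_identity hq (π m 0) (π m 1)
    rw [pow_one, this, sub_self]
  have hspan0 : ∀ x ∈ Submodule.span A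
      (Set.range (DividedPowerAlgebra.dp A d : M → DividedPowerAlgebra A M)), Λ x = 0 := by
    intro x hx
    induction hx using Submodule.span_induction with
    | mem x hx =>
      obtain ⟨m, rfl⟩ := hx
      exact hkill m
    | zero => simp [Λ]
    | add x y _ _ hx hy => rw [hΛadd, hx, hy, add_zero]
    | smul a x _ hx => rw [hΛsmul, hx, mul_zero]
  let x0 := DividedPowerAlgebra.dp A 1 m1 * DividedPowerAlgebra.dp A (d - 1) m2
  have hx0 : x0 ∈ PolLaw.gammaPiece A M d := by
    apply Submodule.subset_span
    refine ⟨2, ![1, d - 1], ![m1, m2], ?_, ?_⟩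
    · simp only [Fin.sum_univ_two, Matrix.cons_val_zero, Matrix.cons_val_one]
      omega
    · simp [Fin.prod_univ_two, x0]
  have hΛx0 : Λ x0 = 1 := by
    have e1 : π m1 = Pi.single 0 1 := by
      funext i
      fin_cases i <;> simp [π, h11, h21]
    have e2 : π m2 = Pi.single 1 1 := by
      funext i
      fin_cases i <;> simp [π, h12, h22]
    have e : Φ x0 = (∑ I' ∈ (Finset.univ : Finset (Fin d)).powersetCard 1,
          ∏ l ∈ I', zz l (Pi.single 0 1)) *
        (∑ I'' ∈ (Finset.univ : Finset (Fin d)).powersetCard (d - 1),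
          ∏ l ∈ I'', zz l (Pi.single 1 1)) := by
      simp only [x0, map_mul, Φ, Phi_dp, coeff_EE, z, e1, e2]
    simp only [Λ, e]
    rw [lam_es _ 1 (d - 1) (by omega), lam_es _ 1 (d - 1) (by omega), Finset.card_singleton,
      if_pos rfl, hIq, if_neg (by omega), sub_zero]
  rw [← h] at hx0
  have := hspan0 x0 hx0
  rw [hΛx0] at this
  exact one_ne_zero this

end Groth.Agent.H14Lib.DPcyc
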