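import Mathlib
import Groth.Prelude.Def_PolLaw2

/-!
# The determinant of an endomorphism of a finite module over a normal domain is integral
-/

open scoped TensorProduct

namespace Groth.Agent.H14Lib.DetLaw

universe u

theorem isIntegrallyClosed_mvPolynomial (A : Type u) [CommRing A] [IsDomain A]
    [IsIntegrallyClosed A] (n : ℕ) : IsIntegrallyClosed (MvPolynomial (Fin n) A) := by
  induction n with
  | zero => exact IsIntegrallyClosed.of_equiv (MvPolynomial.isEmptyRingEquiv A (Fin 0)).symm
  | succ n ih =>
    haveI := ih
    exact IsIntegrallyClosed.of_equiv (MvPolynomial.finSuccEquiv A n).symm.toRingEquiv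

open Polynomial in
/-- the determinant of the generic fibre of an endomorphism of a finite module over a normal
domain lies in the domain -/
theorem det_baseChange_mem_range {S : Type u} [CommRing S] [IsDomain S] [IsIntegrallyClosed S]
    (L : Type u) [Field L] [Algebra S L] [IsFractionRing S L]
    {N : Type u} [AddCommGroup N] [Module S N] [Module.Finite S N] (f : Module.End S N) :
    LinearMap.det (Module.End.baseChangeHom S L N f) ∈ (algebraMap S L).range := by
  classical
  obtain ⟨p, hpm, hp⟩ := LinearMap.exists_monic_and_aeval_eq_zero S f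
  set fL : Module.End L (L ⊗[S] N) := Module.End.baseChangeHom S L N f with hfL
  let Ω := AlgebraicClosure L
  set g : Module.End Ω (Ω ⊗[L] (L ⊗[S] N)) := Module.End.baseChangeHom L Ω (L ⊗[S] N) fL with hg
  have hdet : LinearMap.det g = algebraMap L Ω (LinearMap.det fL) :=
    LinearMap.det_baseChange fL
  -- `p` kills `g`
  have hpg : aeval g (p.map (algebraMap S Ω)) = 0 := by
    have h1 : aeval fL (p.map (algebraMap S L)) = 0 := by
      rw [aeval_map_algebraMap, hfL, aeval_algHom_apply, hp, map_zero]
    have h2 : aeval g ((p.map (algebraMap S L)).map (algebraMap L Ω)) = 0 := by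
      rw [aeval_map_algebraMap, hg, aeval_algHom_apply, h1, map_zero]
    rw [Polynomial.map_map, ← IsScalarTower.algebraMap_eq] at h2
    exact h2
  -- every root of the characteristic polynomial is integral
  have hroots : ∀ μ ∈ g.charpoly.roots, IsIntegral S μ := by
    intro μ hμ
    have hroot : g.charpoly.IsRoot μ := (Polynomial.mem_roots'.mp hμ).2
    have hev := (Module.End.hasEigenvalue_iff_isRoot_charpoly g μ).mpr hroot
    obtain ⟨v, hv⟩ := hev.exists_hasEigenvector
    have h3 := Module.End.aeval_apply_of_hasEigenvector (p := p.map (algebraMap S Ω)) hv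
    rw [hpg, LinearMap.zero_apply] at h3
    have h4 : (p.map (algebraMap S Ω)).eval μ = 0 := by
      rcases smul_eq_zero.mp h3.symm with h | h
      · exact h
      · exact absurd h hv.2
    refine ⟨p, hpm, ?_⟩
    rw [← Polynomial.eval_map]
    exact h4
  have hint : IsIntegral S (LinearMap.det g) := by
    rw [Module.End.det_eq_prod_roots_charpoly_of_splits (IsAlgClosed.splits _)]
    exact IsIntegral.multiset_prod hroots
  rw [hdet] at hint
  have hint' : IsIntegral S (LinearMap.det fL) :=
    (isIntegral_algebraMap_iff (algebraMap L Ω).injective).mp hint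
  obtain ⟨c, hc⟩ := IsIntegrallyClosed.isIntegral_iff.mp hint'
  exact ⟨c, hc⟩

section Nat

variable {A : Type u} [CommRing A] {B : Type u} [CommRing B] [Algebra A B]
  (M : Type u) [AddCommGroup M] [Module A M] [Module B M] [IsScalarTower A B M]

/-- naturality of the determinant of the action, for a test ring over which the module becomes
finite free -/
theorem detAct_map_of_free {S S' : Type u} [CommRing S] [Algebra A S] [CommRing S'] [Algebra A S']
    [Module.Free S (S ⊗[A] M)] [Module.Finite S (S ⊗[A] M)]
    (ψ : S →ₐ[A] S') (x : S ⊗[A] B) :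
    PolLaw.detAct M S' (Algebra.TensorProduct.map ψ (AlgHom.id A B) x) =
      ψ (PolLaw.detAct M S x) := by
  letI : Algebra S S' := ψ.toRingHom.toAlgebra
  haveI : IsScalarTower A S S' := IsScalarTower.of_algebraMap_eq fun a => (ψ.commutes a).symm
  let e : S' ⊗[S] (S ⊗[A] M) ≃ₗ[S'] S' ⊗[A] M :=
    TensorProduct.AlgebraTensorModule.cancelBaseChange A S S' S' M
  have he : ∀ (s' : S') (z : S ⊗[A] M), e (s' ⊗ₜ[S] z) = s' • ψ.toLinearMap.rTensor M z := by
    intro s' z
    induction z using TensorProduct.induction_on with
    | zero => simp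
    | tmul s m =>
      simp only [e, TensorProduct.AlgebraTensorModule.cancelBaseChange_tmul,
        LinearMap.rTensor_tmul, AlgHom.toLinearMap_apply, TensorProduct.smul_tmul', smul_eq_mul]
      congr 1
      rw [Algebra.smul_def, mul_comm]
      rfl
    | add z z' hz hz' => simp only [TensorProduct.tmul_add, map_add, smul_add, hz, hz']
  have hconj : PolLaw.actEnd M S' (Algebra.TensorProduct.map ψ (AlgHom.id A B) x) =
      e.conj ((PolLaw.actEnd M S x).baseChange S') := by
    apply LinearMap.ext
    intro w
    obtain ⟨w', rfl⟩ := e.surjective w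
    rw [LinearEquiv.conj_apply_apply, LinearEquiv.symm_apply_apply]
    induction w' using TensorProduct.induction_on with
    | zero => simp
    | tmul s' z =>
      rw [LinearMap.baseChange_tmul, he, he, map_smul, PolLaw.rTensor_actEnd]
    | add w w' hw hw' => simp only [map_add, hw, hw']
  rw [PolLaw.detAct, PolLaw.detAct, hconj, LinearEquiv.conj_apply, LinearMap.comp_assoc,
    LinearMap.det_conj, LinearMap.det_baseChange]
  rfl

end Nat

end Groth.Agent.H14Lib.DetLaw
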