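import Mathlib
import Groth.Agent.H14Lib.DetLaw1

/-!
# The determinant law of generic rank: polynomial rings over the fraction field
-/

set_option autoImplicit false

open scoped TensorProduct

namespace Groth.Agent.H14Lib.DetLaw

universe u

section Conj

variable {A : Type u} [CommRing A] {B : Type u} [CommRing B] [Algebra A B]
  (M : Type u) [AddCommGroup M] [Module A M] [Module B M] [IsScalarTower A B M]

/-- the action over an extension `S'` of the test ring `S` is the base change of the action -/
theorem det_actEnd_toAlgHom {S S' : Type u} [CommRing S] [Algebra A S] [CommRing S'] [Algebra A S']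
    [Algebra S S'] [IsScalarTower A S S'] (x : S ⊗[A] B) :
    LinearMap.det (PolLaw.actEnd M S' (Algebra.TensorProduct.map (IsScalarTower.toAlgHom A S S')
      (AlgHom.id A B) x)) =
    LinearMap.det (Module.End.baseChangeHom S S' (S ⊗[A] M) (PolLaw.actEnd M S x)) := by
  let ψ : S →ₐ[A] S' := IsScalarTower.toAlgHom A S S'
  let e : S' ⊗[S] (S ⊗[A] M) ≃ₗ[S'] S' ⊗[A] M :=
    TensorProduct.AlgebraTensorModule.cancelBaseChange A S S' S' M
  have he : ∀ (s' : S') (z : S ⊗[A] M), e (s' ⊗ₜ[S] z) = s' • ψ.toLinearMap.rTensor M z := by
    intro s' z
    induction z using TensorProduct.induction_on with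
    | zero => simp
    | tmul s m =>
      simp only [e, TensorProduct.AlgebraTensorModule.cancelBaseChange_tmul,
        LinearMap.rTensor_tmul, AlgHom.toLinearMap_apply, TensorProduct.smul_tmul', smul_eq_mul]
      congr 1
      rw [Algebra.smul_def, mul_comm]
      rfl
    | add z z' hz hz' => simp only [TensorProduct.tmul_add, map_add, smul_add, hz, hz']
  have hconj : PolLaw.actEnd M S' (Algebra.TensorProduct.map ψ (AlgHom.id A B) x) =
      e.conj ((PolLaw.actEnd M S x).baseChange S') := by
    apply LinearMap.ext
    intro w
    obtain ⟨w', rfl⟩ := e.surjective w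
    rw [LinearEquiv.conj_apply_apply, LinearEquiv.symm_apply_apply]
    induction w' using TensorProduct.induction_on with
    | zero => simp
    | tmul s' z =>
      rw [LinearMap.baseChange_tmul, he, he, map_smul, PolLaw.rTensor_actEnd]
    | add w w' hw hw' => simp only [map_add, hw, hw']
  show LinearMap.det (PolLaw.actEnd M S' (Algebra.TensorProduct.map ψ (AlgHom.id A B) x)) = _
  rw [hconj, LinearEquiv.conj_apply, LinearMap.comp_assoc, LinearMap.det_conj]
  rfl

end Conj

section J

variable (A : Type u) [CommRing A] [IsDomain A] (n : ℕ)

/-- `A[t] → K[t]` -/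
noncomputable def iota : MvPolynomial (Fin n) A →ₐ[A] MvPolynomial (Fin n) (FractionRing A) :=
  MvPolynomial.mapAlgHom (Algebra.ofId A (FractionRing A))

theorem iota_apply (p : MvPolynomial (Fin n) A) :
    iota A n p = MvPolynomial.map (algebraMap A (FractionRing A)) p := rfl

theorem iota_injective : Function.Injective (iota A n) :=
  MvPolynomial.map_injective (algebraMap A (FractionRing A))
    (IsFractionRing.injective A (FractionRing A))

attribute [local instance] MvPolynomial.algebraMvPolynomial

theorem isUnit_aux (y : ((nonZeroDivisors A).map (MvPolynomial.C (σ := Fin n)) : Submonoid _)) :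
    IsUnit (algebraMap (MvPolynomial (Fin n) A) (FractionRing (MvPolynomial (Fin n) A)) y) := by
  obtain ⟨y, a, ha, rfl⟩ := y
  apply IsUnit.mk0
  rw [Ne, map_eq_zero_iff _ (IsFractionRing.injective _ _)]
  intro h
  have h2 : a = 0 := MvPolynomial.C_injective (Fin n) A (by simpa using h)
  exact nonZeroDivisors.ne_zero ha h2

/-- `K[t] → Frac(A[t])` as a ring map -/
noncomputable def jRing :
    MvPolynomial (Fin n) (FractionRing A) →+* FractionRing (MvPolynomial (Fin n) A) :=
  IsLocalization.lift (M := (nonZeroDivisors A).map (MvPolynomial.C (σ := Fin n)))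
    (S := MvPolynomial (Fin n) (FractionRing A))
    (g := algebraMap (MvPolynomial (Fin n) A) (FractionRing (MvPolynomial (Fin n) A)))
    (isUnit_aux A n)

theorem jRing_map (p : MvPolynomial (Fin n) A) :
    jRing A n (MvPolynomial.map (algebraMap A (FractionRing A)) p) =
      algebraMap (MvPolynomial (Fin n) A) (FractionRing (MvPolynomial (Fin n) A)) p :=
  IsLocalization.lift_eq (M := (nonZeroDivisors A).map (MvPolynomial.C (σ := Fin n)))
    (S := MvPolynomial (Fin n) (FractionRing A)) (isUnit_aux A n) p

theorem jRing_injective : Function.Injective (jRing A n) := by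
  refine (IsLocalization.lift_injective_iff
    (M := (nonZeroDivisors A).map (MvPolynomial.C (σ := Fin n)))
    (S := MvPolynomial (Fin n) (FractionRing A)) (isUnit_aux A n)).2 ?_
  intro x y
  constructor
  · intro h
    have : x = y := MvPolynomial.map_injective (algebraMap A (FractionRing A))
      (IsFractionRing.injective A (FractionRing A)) h
    rw [this]
  · intro h
    have : x = y := IsFractionRing.injective _ _ h
    rw [this]

/-- `K[t] → Frac(A[t])` as an `A`-algebra map -/
noncomputable def jn :
    MvPolynomial (Fin n) (FractionRing A) →ₐ[A] FractionRing (MvPolynomial (Fin n) A) :=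
  { jRing A n with
    commutes' := fun a => by
      have h := jRing_map A n (MvPolynomial.C a)
      rw [MvPolynomial.map_C] at h
      show jRing A n (algebraMap A (MvPolynomial (Fin n) (FractionRing A)) a) = _
      rw [MvPolynomial.algebraMap_apply, h, IsScalarTower.algebraMap_apply A (MvPolynomial (Fin n) A)
        (FractionRing (MvPolynomial (Fin n) A)), MvPolynomial.algebraMap_apply]
      rfl }

theorem jn_iota (p : MvPolynomial (Fin n) A) :
    jn A n (iota A n p) =
      algebraMap (MvPolynomial (Fin n) A) (FractionRing (MvPolynomial (Fin n) A)) p :=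
  jRing_map A n p

theorem jn_injective : Function.Injective (jn A n) := jRing_injective A n

theorem jn_comp_iota : (jn A n).comp (iota A n) =
    IsScalarTower.toAlgHom A (MvPolynomial (Fin n) A) (FractionRing (MvPolynomial (Fin n) A)) :=
  AlgHom.ext fun p => jn_iota A n p

end J

end Groth.Agent.H14Lib.DetLaw
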