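import Mathlib
import Groth.Agent.H14Lib.DetLaw2
import Groth.Agent.H14Lib.GamN9
import Groth.Agent.H14Lib.TSG1

/-!
# The determinant law of generic rank over a normal domain
-/

set_option autoImplicit false

open scoped TensorProduct

namespace Groth.Agent.H14Lib.DetLaw

universe u

section MapMap

variable {A : Type u} [CommRing A] {B : Type u} [CommRing B] [Algebra A B]
  {S S' S'' : Type u} [CommRing S] [Algebra A S] [CommRing S'] [Algebra A S']
  [CommRing S''] [Algebra A S'']

theorem map_map_id (φ : S →ₐ[A] S') (ψ : S' →ₐ[A] S'') (x : S ⊗[A] B) :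
    Algebra.TensorProduct.map ψ (AlgHom.id A B) (Algebra.TensorProduct.map φ (AlgHom.id A B) x) =
      Algebra.TensorProduct.map (ψ.comp φ) (AlgHom.id A B) x := by
  induction x using TensorProduct.induction_on with
  | zero => simp
  | tmul s b => simp
  | add x y hx hy => simp only [map_add, hx, hy]

end MapMap

section Main

variable {A : Type u} [CommRing A] [IsDomain A]
  {B : Type u} [CommRing B] [Algebra A B]
  (M : Type u) [AddCommGroup M] [Module A M] [Module B M] [IsScalarTower A B M]
  [Module.Finite A M]

instance free_Rn (n : ℕ) : Module.Free (MvPolynomial (Fin n) (FractionRing A))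
    (MvPolynomial (Fin n) (FractionRing A) ⊗[A] M) :=
  Module.Free.of_equiv (TensorProduct.AlgebraTensorModule.cancelBaseChange A (FractionRing A)
    (MvPolynomial (Fin n) (FractionRing A)) (MvPolynomial (Fin n) (FractionRing A)) M)

theorem finrank_Rn (n : ℕ) : Module.finrank (MvPolynomial (Fin n) (FractionRing A))
    (MvPolynomial (Fin n) (FractionRing A) ⊗[A] M) =
      Module.finrank (FractionRing A) (FractionRing A ⊗[A] M) := by
  rw [← (TensorProduct.AlgebraTensorModule.cancelBaseChange A (FractionRing A)
    (MvPolynomial (Fin n) (FractionRing A)) (MvPolynomial (Fin n) (FractionRing A)) M).finrank_eq,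
    Module.finrank_baseChange]

/-- the determinant over `K[t]` -/
noncomputable def delta (n : ℕ) (x : MvPolynomial (Fin n) A ⊗[A] B) :
    MvPolynomial (Fin n) (FractionRing A) :=
  PolLaw.detAct M (MvPolynomial (Fin n) (FractionRing A))
    (Algebra.TensorProduct.map (iota A n) (AlgHom.id A B) x)

theorem delta_one (n : ℕ) : delta (A := A) (B := B) M n 1 = 1 := by
  rw [delta, map_one, PolLaw.detAct_one]

theorem delta_mul (n : ℕ) (x y : MvPolynomial (Fin n) A ⊗[A] B) :
    delta M n (x * y) = delta M n x * delta M n y := by
  rw [delta, map_mul, PolLaw.detAct_mul]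
  rfl

theorem delta_smul (n : ℕ) (r : MvPolynomial (Fin n) A) (x : MvPolynomial (Fin n) A ⊗[A] B) :
    delta M n (r • x) =
      (iota A n r) ^ Module.finrank (FractionRing A) (FractionRing A ⊗[A] M) * delta M n x := by
  have h1 : Algebra.TensorProduct.map (iota A n) (AlgHom.id A B) (r • x) =
      iota A n r • Algebra.TensorProduct.map (iota A n) (AlgHom.id A B) x := by
    induction x using TensorProduct.induction_on with
    | zero => simp
    | tmul p b =>
      simp only [TensorProduct.smul_tmul', Algebra.TensorProduct.map_tmul, smul_eq_mul, map_mul]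
    | add x y hx hy => simp only [smul_add, map_add, hx, hy]
  rw [delta, h1, PolLaw.detAct, map_smul, LinearMap.det_smul, finrank_Rn]
  rfl

theorem delta_compat (n m : ℕ) (φ : MvPolynomial (Fin n) A →ₐ[A] MvPolynomial (Fin m) A)
    (x : MvPolynomial (Fin n) A ⊗[A] B) (c : MvPolynomial (Fin n) A)
    (hc : iota A n c = delta M n x) :
    iota A m (φ c) = delta M m (Algebra.TensorProduct.map φ (AlgHom.id A B) x) := by
  let φK : MvPolynomial (Fin n) (FractionRing A) →ₐ[A] MvPolynomial (Fin m) (FractionRing A) :=
    (MvPolynomial.aeval (R := FractionRing A) (fun i => iota A m (φ (MvPolynomial.X i)))).restrictScalars A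
  have hφK : φK.comp (iota A n) = (iota A m).comp φ := by
    apply MvPolynomial.algHom_ext
    intro i
    simp [φK, iota_apply]
  have h1 : iota A m (φ c) = φK (iota A n c) := (AlgHom.congr_fun hφK c).symm
  rw [h1, hc, delta, ← detAct_map_of_free, delta, map_map_id, map_map_id, hφK]

variable [IsIntegrallyClosed A]

theorem exists_T (n : ℕ) (x : MvPolynomial (Fin n) A ⊗[A] B) :
    ∃ c : MvPolynomial (Fin n) A,
      algebraMap (MvPolynomial (Fin n) A) (FractionRing (MvPolynomial (Fin n) A)) c =
        LinearMap.det (PolLaw.actEnd M (FractionRing (MvPolynomial (Fin n) A))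
          (Algebra.TensorProduct.map
            (IsScalarTower.toAlgHom A (MvPolynomial (Fin n) A) (FractionRing (MvPolynomial (Fin n) A)))
            (AlgHom.id A B) x)) := by
  haveI := isIntegrallyClosed_mvPolynomial A n
  rw [det_actEnd_toAlgHom]
  obtain ⟨c, hc⟩ := det_baseChange_mem_range (S := MvPolynomial (Fin n) A)
    (FractionRing (MvPolynomial (Fin n) A)) (PolLaw.actEnd M (MvPolynomial (Fin n) A) x)
  exact ⟨c, hc⟩

omit [IsIntegrallyClosed A] in
theorem key (n : ℕ) (x : MvPolynomial (Fin n) A ⊗[A] B) (c : MvPolynomial (Fin n) A)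
    (hc : algebraMap (MvPolynomial (Fin n) A) (FractionRing (MvPolynomial (Fin n) A)) c =
        LinearMap.det (PolLaw.actEnd M (FractionRing (MvPolynomial (Fin n) A))
          (Algebra.TensorProduct.map
            (IsScalarTower.toAlgHom A (MvPolynomial (Fin n) A) (FractionRing (MvPolynomial (Fin n) A)))
            (AlgHom.id A B) x))) :
    iota A n c = delta M n x := by
  apply jn_injective A n
  rw [jn_iota, hc, delta, ← detAct_map_of_free, map_map_id, jn_comp_iota]
  rfl

end Main

end Groth.Agent.H14Lib.DetLaw
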