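import Mathlib
import Groth.Prelude.Def_PolLaw2
import Groth.Agent.S13719
import Groth.Agent.S13722
import Groth.Agent.S13174

/-!
# The determinant law of a finitely generated projective module
-/

set_option autoImplicit false
universe u
open scoped TensorProduct

namespace Groth.Agent.H14Lib.DetProj

section Corner

variable {A : Type u} [CommRing A] {B : Type u} [CommRing B] [Algebra A B]
  {B₁ : Type u} [CommRing B₁] [Algebra A B₁]

open Groth.Agent.S13719 in
/-- the corner law of a multiplicative law is multiplicative -/
theorem cornerLaw_isMult (F : B →ₚₗ[A] A) (hF : PolLaw.IsMult F) (ι : B₁ →ₗ[A] B)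
    (hι : ∀ x y, ι (x * y) = ι x * ι y) (e' : B) (hsum : ι 1 + e' = 1) (hee' : ι 1 * e' = 0) :
    PolLaw.IsMult (cornerLaw F ι e') := by
  intro S _ _
  have he' : e' * e' = e' := by
    have : (ι 1 + e') * e' = e' := by rw [hsum, one_mul]
    rw [add_mul, hee', zero_add] at this; exact this
  refine ⟨?_, fun x y => ?_⟩
  · show F.toFun' S (ι.lTensor S 1 + 1 ⊗ₜ[A] e') = 1
    rw [Algebra.TensorProduct.one_def, LinearMap.lTensor_tmul, ← TensorProduct.tmul_add, hsum,
      ← Algebra.TensorProduct.one_def, (hF S).1]
  · show F.toFun' S (ι.lTensor S (x * y) + 1 ⊗ₜ[A] e') =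
      F.toFun' S (ι.lTensor S x + 1 ⊗ₜ[A] e') * F.toFun' S (ι.lTensor S y + 1 ⊗ₜ[A] e')
    rw [← (hF S).2]
    congr 1
    rw [add_mul, mul_add, mul_add, ← fact1 ι hι, fact2 ι hι e' hee',
      mul_comm (1 ⊗ₜ[A] e') (ι.lTensor S y), fact2 ι hι e' hee',
      Algebra.TensorProduct.tmul_mul_tmul, he', mul_one, add_zero, zero_add]

end Corner

section Setup

variable {A : Type u} [CommRing A] {B : Type u} [CommRing B] [Algebra A B]
  {M : Type u} [AddCommGroup M] [Module A M] [Module B M] [IsScalarTower A B M]
  {Q : Type u} [AddCommGroup Q] [Module A Q]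

/-- `B × A` acts on `M × Q` componentwise -/
@[reducible] noncomputable def prodModule : Module (B × A) (M × Q) where
  smul p x := (p.1 • x.1, p.2 • x.2)
  one_smul x := by
    show ((1 : B × A).1 • x.1, (1 : B × A).2 • x.2) = x
    simp
  mul_smul p p' x := by
    show ((p * p').1 • x.1, (p * p').2 • x.2) = (p.1 • (p'.1 • x.1), p.2 • (p'.2 • x.2))
    simp [mul_smul]
  smul_zero p := by
    show (p.1 • (0 : M × Q).1, p.2 • (0 : M × Q).2) = 0
    simp
  smul_add p x y := by
    show (p.1 • (x + y).1, p.2 • (x + y).2) = (p.1 • x.1, p.2 • x.2) + (p.1 • y.1, p.2 • y.2)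
    simp [smul_add]
  add_smul p p' x := by
    show ((p + p').1 • x.1, (p + p').2 • x.2) = (p.1 • x.1, p.2 • x.2) + (p'.1 • x.1, p'.2 • x.2)
    simp [add_smul]
  zero_smul x := by
    show ((0 : B × A).1 • x.1, (0 : B × A).2 • x.2) = 0
    simp

attribute [local instance] prodModule

omit [Algebra A B] [Module A M] [IsScalarTower A B M] in
theorem prod_smul_def (p : B × A) (x : M × Q) : p • x = (p.1 • x.1, p.2 • x.2) := rfl

instance prodTower : IsScalarTower A (B × A) (M × Q) where
  smul_assoc a p x := by
    rw [prod_smul_def, prod_smul_def]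
    ext
    · simp [smul_assoc]
    · simp [mul_smul]

end Setup

section Law

variable (A : Type u) [CommRing A] (B : Type u) [CommRing B] [Algebra A B]
  (M : Type u) [AddCommGroup M] [Module A M] [Module B M] [IsScalarTower A B M]
  (Q : Type u) [AddCommGroup Q] [Module A Q]

attribute [local instance] prodModule

/-- the action of `ι x + 1 ⊗ (0,1)` on `S ⊗ (M × Q)` is `x` on `S ⊗ M` and the identity on
`S ⊗ Q` -/
theorem actEnd_corner (S : Type u) [CommRing S] [Algebra A S] (x : S ⊗[A] B)
    (z : S ⊗[A] (M × Q)) :
    TensorProduct.prodRight A S S M Q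
        (PolLaw.actEnd (M × Q) S ((LinearMap.inl A B A).lTensor S x + 1 ⊗ₜ[A] ((0, 1) : B × A)) z) =
      (PolLaw.actEnd M S x (TensorProduct.prodRight A S S M Q z).1,
        (TensorProduct.prodRight A S S M Q z).2) := by
  rw [map_add, LinearMap.add_apply, map_add]
  have h1 : ∀ z : S ⊗[A] (M × Q), TensorProduct.prodRight A S S M Q
      (PolLaw.actEnd (M × Q) S ((LinearMap.inl A B A).lTensor S x) z) =
      (PolLaw.actEnd M S x (TensorProduct.prodRight A S S M Q z).1, 0) := by
    intro z
    induction x using TensorProduct.induction_on with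
    | zero => simp; rfl
    | tmul s b =>
      induction z using TensorProduct.induction_on with
      | zero => simp; rfl
      | tmul t mq =>
        rw [LinearMap.lTensor_tmul, PolLaw.actEnd_tmul_tmul, TensorProduct.prodRight_tmul,
          TensorProduct.prodRight_tmul, PolLaw.actEnd_tmul_tmul]
        simp [prod_smul_def]
      | add z z' hz hz' =>
        rw [map_add, map_add, hz, hz', map_add, Prod.fst_add, map_add]
        simp
    | add x y hx hy =>
      rw [map_add, map_add, LinearMap.add_apply, map_add, hx, hy, map_add, LinearMap.add_apply]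
      simp
  have h2 : ∀ z : S ⊗[A] (M × Q), TensorProduct.prodRight A S S M Q
      (PolLaw.actEnd (M × Q) S ((1 : S) ⊗ₜ[A] ((0, 1) : B × A)) z) =
      (0, (TensorProduct.prodRight A S S M Q z).2) := by
    intro z
    induction z using TensorProduct.induction_on with
    | zero => simp; rfl
    | tmul t mq =>
      rw [PolLaw.actEnd_tmul_tmul, TensorProduct.prodRight_tmul, TensorProduct.prodRight_tmul]
      simp [prod_smul_def]
    | add z z' hz hz' =>
      rw [map_add, map_add, hz, hz', map_add, Prod.snd_add]
      simp
  rw [h1, h2]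
  simp


/-- over a local test ring the corner determinant is the determinant of the action on `S ⊗ M` -/
theorem detAct_corner [Module.Finite A M] [Module.Flat A M] [Module.Finite A Q] [Module.Flat A Q]
    (S : Type u) [CommRing S] [IsLocalRing S] [Algebra A S] (x : S ⊗[A] B) :
    PolLaw.detAct (M × Q) S ((LinearMap.inl A B A).lTensor S x + 1 ⊗ₜ[A] ((0, 1) : B × A)) =
      PolLaw.detAct M S x := by
  haveI : Module.Free S (S ⊗[A] M) := Module.free_of_flat_of_isLocalRing
  haveI : Module.Free S (S ⊗[A] Q) := Module.free_of_flat_of_isLocalRing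
  unfold PolLaw.detAct
  set Ψ := TensorProduct.prodRight A S S M Q with hΨ
  set f := PolLaw.actEnd (M × Q) S
    ((LinearMap.inl A B A).lTensor S x + 1 ⊗ₜ[A] ((0, 1) : B × A)) with hf
  have hconj : Ψ.toLinearMap ∘ₗ f ∘ₗ Ψ.symm.toLinearMap =
      LinearMap.prodMap (PolLaw.actEnd M S x) LinearMap.id := by
    apply LinearMap.ext
    intro w
    rw [LinearMap.comp_apply, LinearMap.comp_apply, LinearEquiv.coe_coe, LinearEquiv.coe_coe, hf,
      hΨ, actEnd_corner, LinearEquiv.apply_symm_apply]
    rfl
  rw [← LinearMap.det_conj f Ψ, hconj, LinearMap.det_prodMap, LinearMap.det_id, mul_one]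

end Law

section Exists

variable (A : Type u) [CommRing A] (B : Type u) [CommRing B] [Algebra A B]
  (M : Type u) [AddCommGroup M] [Module A M] [Module B M] [IsScalarTower A B M]

attribute [local instance] prodModule

/-- the determinant law of a finitely generated projective module exists -/
theorem exists_detLaw [Module.Finite A M] [Module.Projective A M] :
    ∃ N : B →ₚₗ[A] A, PolLaw.IsMult N ∧
      ∀ (S : Type u) [CommRing S] [IsLocalRing S] [Algebra A S] (x : S ⊗[A] B),
        N.toFun' S x = PolLaw.detAct M S x ⊗ₜ[A] (1 : A) := by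
  classical
  obtain ⟨n, f, hf⟩ := Module.Finite.exists_fin' A M
  obtain ⟨g, hg⟩ := Module.projective_lifting_property f LinearMap.id hf
  have hfg : ∀ m, f (g m) = m := fun m => LinearMap.congr_fun hg m
  let Q := LinearMap.ker f
  let r : (Fin n → A) →ₗ[A] Q :=
    LinearMap.codRestrict (LinearMap.ker f) (LinearMap.id - g ∘ₗ f) (by
      intro v
      rw [LinearMap.mem_ker, LinearMap.sub_apply, map_sub, LinearMap.id_apply,
        LinearMap.comp_apply, hfg, sub_self])
  have hr : ∀ q : Q, r q.1 = q := by
    intro q
    apply Subtype.ext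
    show (q.1 - g (f q.1)) = q.1
    rw [LinearMap.mem_ker.mp q.2, map_zero, sub_zero]
  let Φ : (M × Q) ≃ₗ[A] (Fin n → A) :=
    LinearEquiv.ofLinearMap (LinearMap.coprod g Q.subtype) (LinearMap.prod f r)
      (by
        apply LinearMap.ext
        intro v
        show g (f v) + (v - g (f v)) = v
        abel)
      (by
        apply LinearMap.ext
        rintro ⟨m, q⟩
        show (f (g m + q.1), r (g m + q.1)) = (m, q)
        have h1 : f (g m + q.1) = m := by
          rw [map_add, hfg, LinearMap.mem_ker.mp q.2, add_zero]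
        have h2 : r (g m + q.1) = q := by
          apply Subtype.ext
          show (g m + q.1) - g (f (g m + q.1)) = q.1
          rw [h1]; abel
        rw [h1, h2])
  haveI : Module.Free A (M × Q) := Module.Free.of_equiv Φ.symm
  haveI : Module.Finite A (M × Q) := Module.Finite.equiv Φ.symm
  haveI : Module.Finite A Q := Module.Finite.of_surjective r (fun q => ⟨q.1, hr q⟩)
  haveI : Module.Projective A Q :=
    Module.Projective.of_split (LinearMap.ker f).subtype r (LinearMap.ext fun q => hr q)
  refine ⟨Groth.Agent.S13719.cornerLaw (PolLaw.detPLaw (A := A) (B := B × A) (M := M × Q))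
    (LinearMap.inl A B A) ((0, 1) : B × A), ?_, ?_⟩
  · apply cornerLaw_isMult
    · exact (PolLaw.detLaw (A := A) (B := B × A) (M := M × Q) _ rfl).mult
    · intro x y
      ext <;> simp
    · ext <;> simp
    · ext <;> simp
  · intro S _ _ _ x
    show PolLaw.detFun A (B × A) (M × Q) S
      ((LinearMap.inl A B A).lTensor S x + 1 ⊗ₜ[A] ((0, 1) : B × A)) = _
    rw [PolLaw.detFun_eq_detAct, detAct_corner]

end Exists

section Local

variable {A : Type u} [CommRing A] {B : Type u} [CommRing B] [Algebra A B]

/-- an element of `P ⊗ A` vanishing in all localizations of `P` at maximal ideals is zero -/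
theorem eq_of_forall_localization {P : Type u} [CommRing P] [Algebra A P] (w w' : P ⊗[A] A)
    (h : ∀ (J : Ideal P) [J.IsMaximal],
      Algebra.TensorProduct.map (IsScalarTower.toAlgHom A P (Localization.AtPrime J)) (AlgHom.id A A) w =
      Algebra.TensorProduct.map (IsScalarTower.toAlgHom A P (Localization.AtPrime J)) (AlgHom.id A A) w') :
    w = w' := by
  apply (Algebra.TensorProduct.rid A P P).injective
  rw [← sub_eq_zero]
  apply eq_zero_of_localization
  intro J hJ
  haveI := hJ
  have h1 := congrArg (Algebra.TensorProduct.rid A (Localization.AtPrime J) (Localization.AtPrime J)) (h J)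
  have key : ∀ v : P ⊗[A] A, Algebra.TensorProduct.rid A (Localization.AtPrime J) (Localization.AtPrime J)
      (Algebra.TensorProduct.map (IsScalarTower.toAlgHom A P (Localization.AtPrime J)) (AlgHom.id A A) v) =
      algebraMap P (Localization.AtPrime J) (Algebra.TensorProduct.rid A P P v) := by
    intro v
    induction v using TensorProduct.induction_on with
    | zero => simp
    | tmul p a => simp [Algebra.smul_def, IsScalarTower.algebraMap_apply A P (Localization.AtPrime J)]
    | add x y hx hy => simp only [map_add, hx, hy]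
  rw [key, key] at h1
  rw [map_sub, h1, sub_self]

/-- two laws agreeing on all local test rings are equal -/
theorem law_ext_of_local (N N' : B →ₚₗ[A] A)
    (h : ∀ (L : Type u) [CommRing L] [IsLocalRing L] [Algebra A L] (x : L ⊗[A] B),
      N.toFun' L x = N'.toFun' L x) : N = N' := by
  apply (Groth.Agent.S13174.result (A := A) (M := B) (N := A)).1
  apply Subtype.ext
  funext n x
  show N.toFun' _ x = N'.toFun' _ x
  apply eq_of_forall_localization
  intro J hJ
  rw [Groth.Agent.S13722.compat, Groth.Agent.S13722.compat]
  exact h _ _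

end Local


end Groth.Agent.H14Lib.DetProj
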