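import Mathlib
import Groth.Agent.H14Lib.ElSym1

/-!
# Symmetric tensors of a flat algebra are generated by the elementary symmetric tensors, II
-/

open scoped TensorProduct

namespace Groth.Agent.H14Lib.ElSym

universe u

open MvPolynomial Groth.Agent.H14Lib.CH Groth.Agent.H14Lib.GamN Groth.Agent.H14Lib.BCk

section Main

variable (R : Type u) [CommRing R] {A : Type u} [CommRing A] [Algebra R A] (n : ℕ)

open Classical in
/-- orbit sum of a family -/
noncomputable def osum {L : Type*} (a : L → A) (ν : L →₀ ℕ) : ⨂[R] _ : Fin n, A :=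
  ∑ x ∈ (Fintype.piFinset (fun _ : Fin n => ν.support)).filter (fun x => typ x = ν),
    PiTensorProduct.tprod R (fun k => a (x k))

theorem Nm_linear {L : Type*} (Λ : Finset L) (a : L → A) :
    Nm R n (∑ l ∈ Λ, monomial (Finsupp.single l 1) (a l)) =
      ∑ x ∈ Fintype.piFinset (fun _ : Fin n => Λ),
        monomial (typ x) (PiTensorProduct.tprod R (fun k => a (x k))) := by
  classical
  simp only [Nm, map_sum, map_monomial]
  rw [Finset.prod_univ_sum]
  refine Finset.sum_congr rfl fun x _ => ?_
  rw [← monomial_sum_prod]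
  congr 1
  rw [prod_io R Finset.univ (fun k => a (x k))]
  simp

theorem coeff_Nm_linear {L : Type*} (a : L → A) (ν : L →₀ ℕ) :
    coeff ν (Nm R n (∑ l ∈ ν.support, monomial (Finsupp.single l 1) (a l))) = osum R n a ν := by
  classical
  rw [Nm_linear, coeff_sum, osum, Finset.sum_filter]
  refine Finset.sum_congr rfl fun x _ => ?_
  by_cases h : typ x = ν
  · rw [if_pos h, coeff_monomial, if_pos h]
  · rw [if_neg h, coeff_monomial, if_neg h]

theorem coeff_Nm_one_add {L : Type*} (y : MvPolynomial L A) (hy : y.IsHomogeneous 1)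
    (ν : L →₀ ℕ) (hν : ν.degree = n) :
    coeff ν (Nm R n (1 + y)) = coeff ν (Nm R n y) := by
  classical
  simp only [Nm, map_add, map_one]
  rw [Finset.prod_one_add, coeff_sum]
  rw [Finset.sum_eq_single Finset.univ]
  · intro I _ hI
    have hh : (∏ i ∈ I, MvPolynomial.map (io R i) y).IsHomogeneous (∑ i ∈ I, 1) :=
      IsHomogeneous.prod I _ _ fun i _ => hy.map _
    apply hh.coeff_eq_zero
    rw [hν, Finset.sum_const, smul_eq_mul, mul_one]
    intro h
    apply hI
    exact (Finset.card_eq_iff_eq_univ I).mp (by rw [← h, Fintype.card_fin])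
  · intro h
    exact absurd (Finset.mem_powerset.mpr (Finset.subset_univ _)) h

theorem osum_mem {L : Type*} (a : L → A) (ν : L →₀ ℕ) : osum R n a ν ∈ Sg R A n := by
  classical
  by_cases hν : ν.degree = n
  · rw [← coeff_Nm_linear, ← coeff_Nm_one_add R n _ _ ν hν]
    · apply good_of_sub_one_mem
      rw [add_sub_cancel_left]
      exact Ideal.sum_mem _ fun l _ => monomial_mem_Ideg (by simp) _
    · exact IsHomogeneous.sum _ _ _ fun l _ => isHomogeneous_monomial _ (by simp)
  · rw [osum, Finset.sum_eq_zero]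
    · exact zero_mem _
    · intro x hx
      exfalso
      apply hν
      rw [← (Finset.mem_filter.mp hx).2, typ, map_sum]
      simp

variable (A)

theorem TS_le_Sg [Module.Flat R A] : SymTen.TS R A n ≤ Sg R A n := by
  classical
  intro z hz
  let q : MvPolynomial A R →ₐ[R] A := MvPolynomial.aeval (fun b => b)
  have hq : Function.Surjective q := fun b => ⟨MvPolynomial.X b, by simp [q]⟩
  let bas := MvPolynomial.basisMonomials A R
  obtain ⟨z', hz', rfl⟩ := Groth.Agent.H14Lib.TSG.Ha_of_flat bas q hq z hz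
  have hspan := Groth.Agent.H14Lib.BCk.TS_mem_span_orbit bas hz'
  refine Submodule.span_induction (p := fun t _ => SymTen.tmap R n q t ∈ Sg R A n)
    ?_ ?_ ?_ ?_ hspan
  · rintro t ⟨ν, rfl⟩
    have : SymTen.tmap R n q (orbSum bas n ν) = osum R n (fun i => q (bas i)) ν := by
      rw [orbSum, osum, map_sum]
      refine Finset.sum_congr rfl fun x _ => ?_
      rw [SymTen.tmap_tprod]
    rw [this]
    exact osum_mem R n _ ν
  · rw [map_zero]
    exact zero_mem _
  · intro x y _ _ hx hy
    rw [map_add]
    exact add_mem hx hy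
  · intro r x _ hx
    rw [map_smul]
    exact Subalgebra.smul_mem _ hx r

theorem Sg_le_TS : Sg R A n ≤ SymTen.TS R A n := by
  classical
  apply Algebra.adjoin_le
  rintro t ⟨a, j, rfl⟩ σ
  rw [map_sum]
  simp only [PiTensorProduct.reindex_tprod]
  refine Finset.sum_nbij' (fun I => I.map σ.toEmbedding) (fun I => I.map σ.symm.toEmbedding)
    ?_ ?_ ?_ ?_ ?_
  · intro I hI
    rw [Finset.mem_powersetCard] at hI ⊢
    exact ⟨Finset.subset_univ _, by rw [Finset.card_map, hI.2]⟩
  · intro I hI
    rw [Finset.mem_powersetCard] at hI ⊢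
    exact ⟨Finset.subset_univ _, by rw [Finset.card_map, hI.2]⟩
  · intro I _
    ext i
    simp
  · intro I _
    ext i
    simp
  · intro I _
    congr 1
    funext i
    simp only [Finset.mem_map_equiv]

theorem TS_eq_adjoin [Module.Flat R A] :
    SymTen.TS R A n = Algebra.adjoin R {t : ⨂[R] _ : Fin n, A | ∃ (a : A) (j : ℕ),
      t = ∑ I ∈ (Finset.univ : Finset (Fin n)).powersetCard j,
        PiTensorProduct.tprod R (fun i : Fin n => if i ∈ I then a else (1 : A))} :=
  le_antisymm (TS_le_Sg R A n) (Sg_le_TS R A n)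

end Main

end Groth.Agent.H14Lib.ElSym
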