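import Mathlib
import Groth.Prelude.Def_PolLaw
import Groth.Agent.H14Lib.CH1

/-!
# Multiplicative laws on a split algebra `R^d`
-/

set_option autoImplicit false
universe u
open scoped TensorProduct

namespace Groth.Agent.H14Lib.EtNorm

open Polynomial Groth.Agent.H14Lib.CH

section MP

variable {R : Type u} [CommRing R]

/-- a polynomial that is multiplicative on all algebras has orthogonal idempotent coefficients -/
theorem coeff_mul_of_mult (g : R[X])
    (h : ∀ (S : Type u) [CommRing S] [Algebra R S] (s s' : S),
      aeval (s * s') g = aeval s g * aeval s' g)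
    (j k : ℕ) : g.coeff j * g.coeff k = if j = k then g.coeff j else 0 := by
  have h1 := h R[X][X] (C X) X
  have hae : ∀ z : R[X][X], aeval z g = (g.map (C : R →+* R[X])).comp z := by
    intro z
    rw [Polynomial.comp, Polynomial.eval₂_map, Polynomial.aeval_def]
    rfl
  rw [hae, hae, hae, Polynomial.comp_X, Polynomial.comp_C] at h1
  have hqe : (g.map (C : R →+* R[X])).eval X = g := by
    rw [Polynomial.eval_map, Polynomial.eval₂_C_X]
  rw [hqe] at h1
  have h2 := congrArg (fun p : R[X][X] => (p.coeff k).coeff j) h1
  simp only [Polynomial.comp_C_mul_X_coeff, Polynomial.coeff_C_mul, Polynomial.coeff_map] at h2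
  rw [Polynomial.coeff_X_pow, Polynomial.coeff_mul_C] at h2
  by_cases hjk : j = k
  · rw [if_pos hjk] at h2 ⊢
    rw [← h2, mul_one, hjk]
  · rw [if_neg hjk] at h2 ⊢
    rw [← h2, mul_zero]

theorem aeval_add_idem {S : Type*} [CommSemiring S] [Algebra R S] (g : R[X])
    (hc : ∀ j k, g.coeff j * g.coeff k = if j = k then g.coeff j else 0) (a t : S) :
    aeval (a + t * algebraMap R S (g.coeff 0)) g = aeval a g := by
  rw [aeval_eq_sum_range, aeval_eq_sum_range]
  refine Finset.sum_congr rfl fun k _ => ?_
  rcases Nat.eq_zero_or_pos k with rfl | hk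
  · simp
  · have hidem : g.coeff k ^ k = g.coeff k := by
      have h1 : IsIdempotentElem (g.coeff k) := by
        have := hc k k
        rw [if_pos rfl] at this
        exact this
      obtain ⟨m, rfl⟩ := Nat.exists_eq_succ_of_ne_zero hk.ne'
      exact h1.pow_succ_eq m
    have h0 : g.coeff k * g.coeff 0 = 0 := by
      have := hc k 0
      rw [if_neg hk.ne'] at this
      exact this
    have key : ∀ y : S, g.coeff k • y ^ k = (g.coeff k • y) ^ k := by
      intro y
      rw [_root_.smul_pow, hidem]
    rw [key, key]
    congr 1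
    rw [smul_add, Algebra.smul_def (g.coeff k) (t * _), mul_left_comm, ← map_mul, h0, map_zero,
      mul_zero, add_zero]

theorem eq_zero_of_idem_nilp {r : R} (h1 : IsIdempotentElem r) (h2 : IsNilpotent r) : r = 0 := by
  obtain ⟨n, hn⟩ := h2
  rw [← h1.pow_succ_eq n, pow_succ, hn, zero_mul]

theorem eq_X_of {d : ℕ} (g : Fin d → R[X])
    (hc : ∀ i j k, (g i).coeff j * (g i).coeff k = if j = k then (g i).coeff j else 0)
    (h0 : ∀ i, (g i).coeff 0 = 0) (hprod : ∏ i, g i = X ^ d) : ∀ i, g i = X := by
  classical
  have hg : ∀ i, g i = X * (g i).divX := by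
    intro i
    have := Polynomial.X_mul_divX_add (g i)
    rw [h0 i, map_zero, add_zero] at this
    exact this.symm
  have hh : ∏ i, (g i).divX = 1 := by
    have h1 : X ^ d * ∏ i, (g i).divX = X ^ d * 1 := by
      rw [mul_one]
      conv_rhs => rw [← hprod, Finset.prod_congr rfl (fun i _ => hg i)]
      rw [Finset.prod_mul_distrib, Finset.prod_const, Finset.card_univ, Fintype.card_fin]
    ext n
    have := congrArg (fun p : R[X] => p.coeff (n + d)) h1
    simpa only [Polynomial.coeff_X_pow_mul] using this
  intro i
  have hunit : IsUnit (g i).divX := by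
    refine IsUnit.of_mul_eq_one (∏ j ∈ Finset.univ.erase i, (g j).divX) ?_
    rw [Finset.mul_prod_erase Finset.univ (fun j => (g j).divX) (Finset.mem_univ i)]
    exact hh
  obtain ⟨hu0, hnil⟩ := Polynomial.coeff_isUnit_isNilpotent_of_isUnit hunit
  have hidem : ∀ k, IsIdempotentElem ((g i).coeff k) := by
    intro k
    have := hc i k k
    rw [if_pos rfl] at this
    exact this
  have hone : (g i).divX = 1 := by
    ext k
    rw [Polynomial.coeff_divX, Polynomial.coeff_one]
    by_cases hk : k = 0
    · subst hk
      rw [if_pos rfl]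
      rw [Polynomial.coeff_divX] at hu0
      have := hidem (0 + 1)
      exact hu0.mul_left_cancel (this.trans (mul_one _).symm)
    · rw [if_neg hk]
      have := hnil k hk
      rw [Polynomial.coeff_divX] at this
      exact eq_zero_of_idem_nilp (hidem (k + 1)) this
  rw [hg i, hone, mul_one]

end MP

end Groth.Agent.H14Lib.EtNorm
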