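import Mathlib
import Groth.Prelude.Def_PolLaw
import Groth.Agent.H14Lib.EtNorm1

/-!
# Multiplicative laws on a split algebra `R^d`: the product law is the only one with nil kernel
-/

set_option autoImplicit false
universe u
open scoped TensorProduct

namespace Groth.Agent.H14Lib.EtNorm

open Polynomial Groth.Agent.H14Lib.CH

section Split

variable {R : Type u} [CommRing R] {d : ℕ}

/-- `1 ⊗ (1 - e_i) + s ⊗ e_i` -/
noncomputable def EE (S : Type u) [CommSemiring S] [Algebra R S] (i : Fin d) (s : S) :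
    S ⊗[R] (Fin d → R) :=
  (1 : S) ⊗ₜ[R] (1 - Pi.single i (1 : R)) + s ⊗ₜ[R] (Pi.single i (1 : R))

/-- coordinates -/
noncomputable abbrev coord (R : Type u) [CommRing R] (d : ℕ) (S : Type u) [CommSemiring S]
    [Algebra R S] : S ⊗[R] (Fin d → R) ≃ₐ[S] (Fin d → S) :=
  Algebra.TensorProduct.piScalarRight R S S (Fin d)

theorem coord_EE (S : Type u) [CommSemiring S] [Algebra R S] (i : Fin d) (s : S) :
    coord R d S (EE (R := R) S i s) = Function.update (1 : Fin d → S) i s := by
  funext j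
  unfold EE
  rw [map_add, Pi.add_apply, Algebra.TensorProduct.piScalarRight_tmul_apply,
    Algebra.TensorProduct.piScalarRight_tmul_apply]
  by_cases h : j = i
  · subst h; simp
  · simp [Function.update_of_ne h, Pi.single_eq_of_ne h]

theorem eq_prod_EE (S : Type u) [CommSemiring S] [Algebra R S] (z : S ⊗[R] (Fin d → R)) :
    z = ∏ i, EE S i (coord R d S z i) := by
  apply (coord R d S).injective
  rw [map_prod]
  funext j
  rw [Finset.prod_apply]
  simp only [coord_EE]
  rw [Finset.prod_eq_single j]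
  · rw [Function.update_self]
  · intro i _ hij
    rw [Function.update_of_ne (Ne.symm hij)]
    rfl
  · intro h; exact absurd (Finset.mem_univ j) h

theorem EE_mul (S : Type u) [CommSemiring S] [Algebra R S] (i : Fin d) (s s' : S) :
    EE S i s * EE S i s' = EE (R := R) S i (s * s') := by
  unfold EE
  have h1 : ((1 : Fin d → R) - Pi.single i 1) * (1 - Pi.single i 1) = 1 - Pi.single i 1 := by
    funext j
    by_cases h : j = i
    · subst h; simp
    · simp [Pi.single_eq_of_ne h]
  have h2 : ((1 : Fin d → R) - Pi.single i 1) * Pi.single i 1 = 0 := by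
    funext j
    by_cases h : j = i
    · subst h; simp
    · simp [Pi.single_eq_of_ne h]
  have h3 : (Pi.single i (1 : R) : Fin d → R) * (1 - Pi.single i 1) = 0 := by
    rw [mul_comm]; exact h2
  have h4 : (Pi.single i (1 : R) : Fin d → R) * Pi.single i 1 = Pi.single i 1 := by
    funext j
    by_cases h : j = i
    · subst h; simp
    · simp [Pi.single_eq_of_ne h]
  rw [add_mul, mul_add, mul_add]
  simp only [Algebra.TensorProduct.tmul_mul_tmul, h1, h2, h3, h4, TensorProduct.tmul_zero,
    add_zero, zero_add, one_mul, mul_one]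

theorem EE_map {S S' : Type u} [CommSemiring S] [Algebra R S] [CommSemiring S'] [Algebra R S']
    (φ : S →ₐ[R] S') (i : Fin d) (s : S) :
    φ.toLinearMap.rTensor (Fin d → R) (EE S i s) = EE S' i (φ s) := by
  unfold EE
  rw [map_add, LinearMap.rTensor_tmul, LinearMap.rTensor_tmul]
  simp

variable (G : PolLaw.MulLaw R (Fin d → R) R d)

/-- the polynomial giving `G` on the `i`-th factor -/
noncomputable def gpoly (i : Fin d) : R[X] :=
  TensorProduct.rid R R[X] (G.law.toFun' R[X] (EE R[X] i X))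

theorem G_EE (S : Type u) [CommSemiring S] [Algebra R S] (i : Fin d) (s : S) :
    G.law.toFun' S (EE S i s) = (aeval s (gpoly G i)) ⊗ₜ[R] (1 : R) := by
  have h := PolynomialLaw.isCompat_apply' (f := G.law) (aeval s : R[X] →ₐ[R] S) (EE R[X] i X)
  rw [EE_map, aeval_X] at h
  rw [← h, eq_rid_tmul_one (G.law.toFun' R[X] (EE R[X] i X)), LinearMap.rTensor_tmul]
  rfl

theorem gpoly_mult (S : Type u) [CommSemiring S] [Algebra R S] (i : Fin d) (s s' : S) :
    aeval (s * s') (gpoly G i) = aeval s (gpoly G i) * aeval s' (gpoly G i) := by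
  apply tmul_one_inj (A := R)
  rw [← G_EE, ← EE_mul, (G.mult S).2, G_EE, G_EE, Algebra.TensorProduct.tmul_mul_tmul, mul_one]

theorem G_formula (S : Type u) [CommSemiring S] [Algebra R S] (z : S ⊗[R] (Fin d → R)) :
    G.law.toFun' S z = (∏ i, aeval (coord R d S z i) (gpoly G i)) ⊗ₜ[R] (1 : R) := by
  let GH : (S ⊗[R] (Fin d → R)) →* (S ⊗[R] R) :=
    { toFun := G.law.toFun' S, map_one' := (G.mult S).1, map_mul' := (G.mult S).2 }
  conv_lhs => rw [eq_prod_EE S z]
  show GH (∏ i, EE S i (coord R d S z i)) = _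
  rw [map_prod]
  show ∏ i, G.law.toFun' S (EE S i (coord R d S z i)) = _
  simp only [G_EE]
  rw [prod_tmul', Finset.prod_const_one]

theorem hcoef (i : Fin d) (j k : ℕ) :
    (gpoly G i).coeff j * (gpoly G i).coeff k = if j = k then (gpoly G i).coeff j else 0 :=
  coeff_mul_of_mult (gpoly G i) (fun S _ _ s s' => gpoly_mult G S i s s') j k

theorem single_mem_ker (i : Fin d) :
    (Pi.single i ((gpoly G i).coeff 0) : Fin d → R) ∈ PolLaw.ker G.law := by
  change ∀ (S : Type u) [CommSemiring S] [Algebra R S] (x w : S ⊗[R] (Fin d → R)),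
    G.law.toFun' S (x + w * (1 ⊗ₜ[R] Pi.single i ((gpoly G i).coeff 0))) = G.law.toFun' S x
  intro S _ _ x w
  rw [G_formula, G_formula]
  congr 1
  refine Finset.prod_congr rfl fun j _ => ?_
  have hcj : coord R d S (x + w * (1 ⊗ₜ[R] Pi.single i ((gpoly G i).coeff 0))) j =
      coord R d S x j + coord R d S w j *
        ((Pi.single i ((gpoly G i).coeff 0) : Fin d → R) j • (1 : S)) := by
    rw [map_add, map_mul, Pi.add_apply, Pi.mul_apply,
      Algebra.TensorProduct.piScalarRight_tmul_apply]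
  rw [hcj]
  by_cases h : j = i
  · subst h
    rw [Pi.single_eq_same, ← Algebra.algebraMap_eq_smul_one]
    exact aeval_add_idem _ (hcoef G j) _ _
  · rw [Pi.single_eq_of_ne h, zero_smul, mul_zero, add_zero]

theorem coeff_zero_eq_zero (hker : PolLaw.ker G.law ≤ nilradical (Fin d → R)) (i : Fin d) :
    (gpoly G i).coeff 0 = 0 := by
  have h1 := hker (single_mem_ker G i)
  rw [mem_nilradical] at h1
  obtain ⟨n, hn⟩ := h1
  have h2 := congrFun hn i
  rw [Pi.pow_apply, Pi.single_eq_same, Pi.zero_apply] at h2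
  refine eq_zero_of_idem_nilp ?_ ⟨n, h2⟩
  have := hcoef G i 0 0
  rw [if_pos rfl] at this
  exact this

theorem prod_gpoly : ∏ i, gpoly G i = X ^ d := by
  apply tmul_one_inj (A := R)
  have h := G.homog R[X] (X : R[X]) (1 : R[X] ⊗[R] (Fin d → R))
  rw [(G.mult R[X]).1, G_formula] at h
  have hc : ∀ i, coord R d R[X] ((X : R[X]) • (1 : R[X] ⊗[R] (Fin d → R))) i = X := by
    intro i
    rw [map_smul, map_one]
    simp
  simp only [hc, aeval_X_left_apply] at h
  rw [h, Algebra.TensorProduct.one_def, TensorProduct.smul_tmul', smul_eq_mul, mul_one]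

theorem split_formula (hker : PolLaw.ker G.law ≤ nilradical (Fin d → R))
    (S : Type u) [CommSemiring S] [Algebra R S] (z : S ⊗[R] (Fin d → R)) :
    G.law.toFun' S z = (∏ i, coord R d S z i) ⊗ₜ[R] (1 : R) := by
  have hX := eq_X_of (fun i => gpoly G i) (fun i j k => hcoef G i j k)
    (coeff_zero_eq_zero G hker) (prod_gpoly G)
  rw [G_formula]
  congr 1
  refine Finset.prod_congr rfl fun i _ => ?_
  rw [hX i, aeval_X]

theorem split_unique (G' : PolLaw.MulLaw R (Fin d → R) R d)
    (hker : PolLaw.ker G.law ≤ nilradical (Fin d → R))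
    (hker' : PolLaw.ker G'.law ≤ nilradical (Fin d → R)) : G.law = G'.law :=
  PolynomialLaw.ext (by
    funext S _ _ z
    rw [split_formula G hker, split_formula G' hker'])

theorem split_ker (hker : PolLaw.ker G.law ≤ nilradical (Fin d → R)) :
    PolLaw.ker G.law = ⊥ := by
  rw [eq_bot_iff]
  intro y hy
  rw [Ideal.mem_bot]
  funext i
  have h := hy R ((1 : R) ⊗ₜ[R] (1 - Pi.single i (1 : R))) ((1 : R) ⊗ₜ[R] Pi.single i (1 : R))
  rw [split_formula G hker, split_formula G hker] at h
  have h' := tmul_one_inj h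
  have hL : ∏ j, coord R d R ((1 : R) ⊗ₜ[R] (1 - Pi.single i (1 : R)) +
      (1 : R) ⊗ₜ[R] Pi.single i (1 : R) * (1 ⊗ₜ[R] y)) j = y i := by
    rw [Finset.prod_eq_single i]
    · simp [Algebra.TensorProduct.piScalarRight_tmul_apply]
    · intro j _ hj
      simp [Algebra.TensorProduct.piScalarRight_tmul_apply, Pi.single_eq_of_ne hj]
    · intro h0; exact absurd (Finset.mem_univ i) h0
  have hR : ∏ j, coord R d R ((1 : R) ⊗ₜ[R] (1 - Pi.single i (1 : R))) j = 0 :=
    Finset.prod_eq_zero (Finset.mem_univ i)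
      (by simp [Algebra.TensorProduct.piScalarRight_tmul_apply])
  rw [hL, hR] at h'
  exact h'

end Split

section Iso

variable {R : Type u} [CommRing R] {d : ℕ} {B' : Type u} [CommRing B'] [Algebra R B']
  (e : B' ≃ₐ[R] (Fin d → R))

theorem lT_symm_lT (S : Type u) [CommSemiring S] [Algebra R S] (x : S ⊗[R] B') :
    (e.symm : (Fin d → R) →ₐ[R] B').toLinearMap.lTensor S
      ((e : B' →ₐ[R] (Fin d → R)).toLinearMap.lTensor S x) = x := by
  rw [← LinearMap.comp_apply, ← LinearMap.lTensor_comp]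
  have : (e.symm : (Fin d → R) →ₐ[R] B').toLinearMap ∘ₗ
      (e : B' →ₐ[R] (Fin d → R)).toLinearMap = LinearMap.id := by
    ext b; simp
  rw [this, LinearMap.lTensor_id]
  rfl

variable (G : PolLaw.MulLaw R B' R d)

theorem ker_precomp_symm (hker : PolLaw.ker G.law ≤ nilradical B') :
    PolLaw.ker (G.precomp (e.symm : (Fin d → R) →ₐ[R] B')).law ≤ nilradical (Fin d → R) := by
  intro y hy
  have h1 : e.symm y ∈ PolLaw.ker G.law := by
    change ∀ (S : Type u) [CommSemiring S] [Algebra R S] (x w : S ⊗[R] B'),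
      G.law.toFun' S (x + w * (1 ⊗ₜ[R] e.symm y)) = G.law.toFun' S x
    intro S _ _ x w
    have h2 := hy S ((e : B' →ₐ[R] (Fin d → R)).toLinearMap.lTensor S x)
      ((e : B' →ₐ[R] (Fin d → R)).toLinearMap.lTensor S w)
    change G.law.toFun' S ((e.symm : (Fin d → R) →ₐ[R] B').toLinearMap.lTensor S _) =
      G.law.toFun' S ((e.symm : (Fin d → R) →ₐ[R] B').toLinearMap.lTensor S _) at h2
    rw [lT_symm_lT, PolLaw.lTensor_algHom_apply, map_add, map_mul, ← PolLaw.lTensor_algHom_apply,
      ← PolLaw.lTensor_algHom_apply, lT_symm_lT, lT_symm_lT] at h2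
    simpa using h2
  have h3 := hker h1
  rw [mem_nilradical] at h3 ⊢
  have := h3.map e
  simpa using this

include e in
theorem unique_of_iso (G' : PolLaw.MulLaw R B' R d)
    (hker : PolLaw.ker G.law ≤ nilradical B') (hker' : PolLaw.ker G'.law ≤ nilradical B') :
    G.law = G'.law := by
  have h := split_unique (G.precomp (e.symm : (Fin d → R) →ₐ[R] B'))
    (G'.precomp (e.symm : (Fin d → R) →ₐ[R] B')) (ker_precomp_symm e G hker)
    (ker_precomp_symm e G' hker')
  refine PolynomialLaw.ext ?_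
  funext S _ _ z
  have h2 := congrArg (fun L : (Fin d → R) →ₚₗ[R] R =>
    L.toFun' S ((e : B' →ₐ[R] (Fin d → R)).toLinearMap.lTensor S z)) h
  change G.law.toFun' S ((e.symm : (Fin d → R) →ₐ[R] B').toLinearMap.lTensor S _) =
    G'.law.toFun' S ((e.symm : (Fin d → R) →ₐ[R] B').toLinearMap.lTensor S _) at h2
  rwa [lT_symm_lT] at h2

include e in
theorem ker_bot_of_iso (hker : PolLaw.ker G.law ≤ nilradical B') : PolLaw.ker G.law = ⊥ := by
  have h := split_ker (G.precomp (e.symm : (Fin d → R) →ₐ[R] B')) (ker_precomp_symm e G hker)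
  rw [eq_bot_iff]
  intro b hb
  rw [Ideal.mem_bot]
  have h1 : e b ∈ PolLaw.ker (G.precomp (e.symm : (Fin d → R) →ₐ[R] B')).law := by
    change ∀ (S : Type u) [CommSemiring S] [Algebra R S] (x w : S ⊗[R] (Fin d → R)),
      (G.precomp (e.symm : (Fin d → R) →ₐ[R] B')).law.toFun' S (x + w * (1 ⊗ₜ[R] e b)) =
        (G.precomp (e.symm : (Fin d → R) →ₐ[R] B')).law.toFun' S x
    intro S _ _ x w
    change G.law.toFun' S ((e.symm : (Fin d → R) →ₐ[R] B').toLinearMap.lTensor S _) =
      G.law.toFun' S ((e.symm : (Fin d → R) →ₐ[R] B').toLinearMap.lTensor S _)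
    have h2 := hb S ((e.symm : (Fin d → R) →ₐ[R] B').toLinearMap.lTensor S x)
      ((e.symm : (Fin d → R) →ₐ[R] B').toLinearMap.lTensor S w)
    rw [PolLaw.lTensor_algHom_apply, map_add, map_mul, ← PolLaw.lTensor_algHom_apply,
      ← PolLaw.lTensor_algHom_apply]
    simpa using h2
  rw [h, Ideal.mem_bot] at h1
  simpa using h1

end Iso

end Groth.Agent.H14Lib.EtNorm
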