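import Mathlib
import Groth.Prelude.Def_PolLaw
import Groth.Prelude.Def_PolLaw2
import Groth.Agent.H14Lib.EtNorm2
import Groth.Agent.H14Lib.BC
import Groth.Agent.H14Lib.BCCH
import Groth.Agent.H14Lib.TSG1
import Groth.Agent.S13697
import Groth.Agent.Lib.Helper18.FinEtSplit

/-!
# The norm law of a finite étale free algebra: kernel and uniqueness
-/

set_option autoImplicit false
universe u
open scoped TensorProduct

namespace Groth.Agent.H14Lib.EtNorm

open Polynomial Groth.Agent.H14Lib.CH

section Norm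

variable {A B : Type u} [CommRing A] [CommRing B] [Algebra A B]

theorem ker_norm_le_nilradical [Module.Free A B] [Module.Finite A B] {d : ℕ}
    (N : PolLaw.MulLaw A B A d)
    (hN : ∀ (S : Type u) [CommRing S] [Algebra A S] (x : S ⊗[A] B),
      N.law.toFun' S x = Algebra.norm S x ⊗ₜ[A] (1 : A)) :
    PolLaw.ker N.law ≤ nilradical B := by
  classical
  intro b hb
  let bas : Module.Basis (Module.Free.ChooseBasisIndex A B) A B := Module.Free.chooseBasis A B
  let bas' : Module.Basis (Module.Free.ChooseBasisIndex A B) A[X] (A[X] ⊗[A] B) :=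
    Algebra.TensorProduct.basis A[X] bas
  have h1 := hb A[X] ((X : A[X]) ⊗ₜ[A] (1 : B)) ((-1 : A[X]) ⊗ₜ[A] (1 : B))
  rw [hN, hN] at h1
  have h2 := tmul_one_inj h1
  have hR : Algebra.norm A[X] ((X : A[X]) ⊗ₜ[A] (1 : B)) =
      X ^ Fintype.card (Module.Free.ChooseBasisIndex A B) := by
    have : (X : A[X]) ⊗ₜ[A] (1 : B) = algebraMap A[X] (A[X] ⊗[A] B) X := by
      rw [Algebra.TensorProduct.algebraMap_apply]
      rfl
    rw [this, Algebra.norm_algebraMap_of_basis bas']
  have hL : Algebra.norm A[X] ((X : A[X]) ⊗ₜ[A] (1 : B) +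
      (-1 : A[X]) ⊗ₜ[A] (1 : B) * (1 ⊗ₜ[A] b)) = (Algebra.leftMulMatrix bas b).charpoly := by
    rw [Algebra.norm_eq_matrix_det bas', Matrix.charpoly]
    congr 1
    ext i j
    rw [Algebra.leftMulMatrix_eq_repr_mul, Matrix.charmatrix_apply,
      Algebra.leftMulMatrix_eq_repr_mul, Algebra.TensorProduct.basis_apply, add_mul,
      Algebra.TensorProduct.tmul_mul_tmul, Algebra.TensorProduct.tmul_mul_tmul,
      Algebra.TensorProduct.tmul_mul_tmul, map_add, Finsupp.add_apply,
      Algebra.TensorProduct.basis_repr_tmul, Algebra.TensorProduct.basis_repr_tmul]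
    simp only [mul_one, one_mul, Finsupp.smul_apply, Finsupp.mapRange_apply, smul_eq_mul,
      Module.Basis.repr_self, Polynomial.algebraMap_apply, Algebra.algebraMap_self,
      RingHom.id_apply]
    rw [Matrix.diagonal_apply, Finsupp.single_apply]
    split_ifs with h1 h2 h2
    · simp; ring
    · exact absurd h1.symm h2
    · exact absurd h2.symm h1
    · simp
  rw [hL, hR] at h2
  have hCH := Matrix.aeval_self_charpoly (Algebra.leftMulMatrix bas b)
  rw [h2, map_pow, aeval_X, ← map_pow] at hCH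
  have h3 : b ^ Fintype.card (Module.Free.ChooseBasisIndex A B) = 0 :=
    Algebra.leftMulMatrix_injective bas (by rw [hCH, map_zero])
  exact mem_nilradical.mpr ⟨_, h3⟩

end Norm

section Local

theorem eq_zero_of_forall_prime_flat {A M : Type u} [CommRing A] [AddCommGroup M] [Module A M]
    (a : M)
    (h : ∀ p : Ideal A, p.IsPrime → ∃ (R' : Type u) (_ : CommRing R') (_ : Algebra A R')
      (_ : Module.Flat A R') (P : Ideal R') (_ : P.IsPrime),
      P.comap (algebraMap A R') = p ∧ (1 : R') ⊗ₜ[A] a = 0) : a = 0 := by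
  by_contra ha
  let I : Ideal A := LinearMap.ker (LinearMap.toSpanSingleton A M a)
  have hI : ∀ x, x ∈ I ↔ x • a = 0 := fun x => by
    show LinearMap.toSpanSingleton A M a x = 0 ↔ _
    rw [LinearMap.toSpanSingleton_apply]
  have hne : I ≠ ⊤ := by
    intro htop
    apply ha
    have : (1 : A) ∈ I := by rw [htop]; trivial
    rw [hI, one_smul] at this
    exact this
  obtain ⟨m, hm, hIm⟩ := Ideal.exists_le_maximal I hne
  obtain ⟨R', _, _, hfl, P, hP, hPm, h0⟩ := h m hm.isPrime
  let f : A ⧸ I →ₗ[A] M := I.liftQ (LinearMap.toSpanSingleton A M a) le_rfl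
  have hf : Function.Injective f := by
    rw [← LinearMap.ker_eq_bot]
    exact Submodule.ker_liftQ_eq_bot _ _ _ le_rfl
  have hf' := Module.Flat.lTensor_preserves_injective_linearMap (M := R') f hf
  have h1 : (1 : R') ⊗ₜ[A] (Ideal.Quotient.mk I (1 : A)) = 0 := by
    apply hf'
    rw [LinearMap.lTensor_tmul, map_zero]
    have : f (Ideal.Quotient.mk I (1 : A)) = a := by
      show I.liftQ _ _ (Submodule.Quotient.mk 1) = a
      rw [Submodule.liftQ_apply, LinearMap.toSpanSingleton_apply, one_smul]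
    rw [this, h0]
  have h2 := congrArg (TensorProduct.tensorQuotEquivQuotSMul R' I) h1
  rw [TensorProduct.tensorQuotEquivQuotSMul_tmul_mk, map_zero, one_smul,
    Submodule.Quotient.mk_eq_zero] at h2
  have hle : (I • ⊤ : Submodule A R') ≤ P.restrictScalars A := by
    rw [Submodule.smul_le]
    intro x hx r _
    show x • r ∈ P
    rw [Algebra.smul_def]
    refine Ideal.mul_mem_right _ _ ?_
    have : x ∈ P.comap (algebraMap A R') := by rw [hPm]; exact hIm hx
    exact this
  exact hP.ne_top ((Ideal.eq_top_iff_one P).mpr (hle h2))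

end Local

section Main

variable {A B : Type u} [CommRing A] [CommRing B] [Algebra A B]

theorem kerBC_le_nil {d : ℕ} (F : PolLaw.MulLaw A B A d) (hF : PolLaw.ker F.law ≤ nilradical B)
    (A' : Type u) [CommRing A'] [Algebra A A'] :
    PolLaw.kerBC F.law A' ≤ nilradical (A' ⊗[A] B) := by
  intro z hz
  have h1 : z ∈ (PolLaw.kerBC F.law A').radical := Ideal.le_radical hz
  rw [Groth.Agent.S13697.result F A'] at h1
  obtain ⟨n, hn⟩ := h1
  have hle : (PolLaw.ker F.law).map
      (Algebra.TensorProduct.includeRight : B →ₐ[A] A' ⊗[A] B) ≤ nilradical (A' ⊗[A] B) := by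
    rw [Ideal.map_le_iff_le_comap]
    intro b hb
    have := hF hb
    rw [mem_nilradical] at this
    rw [Ideal.mem_comap, mem_nilradical]
    exact this.map _
  have h2 := hle hn
  rw [mem_nilradical] at h2 ⊢
  obtain ⟨m, hm⟩ := h2
  exact ⟨n * m, by rw [pow_mul, hm]⟩

theorem eq_on_of_bcLaw_eq {d : ℕ} (F N : PolLaw.MulLaw A B A d) (R' : Type u) [CommRing R']
    [Algebra A R']
    (hlaw : (Groth.Agent.H14Lib.BC.bcLaw R' F).law = (Groth.Agent.H14Lib.BC.bcLaw R' N).law)
    (T : Type u) [CommSemiring T] [Algebra A T] [Algebra R' T] [IsScalarTower A R' T]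
    (y : T ⊗[A] B) : F.law.toFun' T y = N.law.toFun' T y := by
  have h1 : (Groth.Agent.H14Lib.BC.bcLaw R' F).law.toFun' T
      ((Groth.Agent.H14Lib.BC.cB (A := A) (B := B) R' T).symm y) =
      (Groth.Agent.H14Lib.BC.bcLaw R' N).law.toFun' T
      ((Groth.Agent.H14Lib.BC.cB (A := A) (B := B) R' T).symm y) := by rw [hlaw]
  rw [Groth.Agent.H14Lib.BC.bcLaw_apply, Groth.Agent.H14Lib.BC.bcLaw_apply] at h1
  unfold Groth.Agent.H14Lib.BC.bcFun at h1
  have h2 := (Groth.Agent.H14Lib.BC.eB (A := A) R' T).injective h1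
  rwa [AlgEquiv.apply_symm_apply] at h2

theorem law_eq_of_local {d : ℕ} (F N : PolLaw.MulLaw A B A d)
    (h : ∀ p : Ideal A, p.IsPrime → ∃ (R' : Type u) (_ : CommRing R') (_ : Algebra A R')
      (_ : Module.Flat A R') (P : Ideal R') (_ : P.IsPrime),
      P.comap (algebraMap A R') = p ∧
        (Groth.Agent.H14Lib.BC.bcLaw R' F).law = (Groth.Agent.H14Lib.BC.bcLaw R' N).law) :
    F.law = N.law := by
  apply Groth.Agent.H14Lib.TSG.law_ext_poly
  intro n x
  have key : Algebra.TensorProduct.rid A (MvPolynomial (Fin n) A) (MvPolynomial (Fin n) A)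
      (F.law.toFun' (MvPolynomial (Fin n) A) x) =
      Algebra.TensorProduct.rid A (MvPolynomial (Fin n) A) (MvPolynomial (Fin n) A)
      (N.law.toFun' (MvPolynomial (Fin n) A) x) := by
    rw [← sub_eq_zero]
    apply eq_zero_of_forall_prime_flat (A := A)
    intro p hp
    obtain ⟨R', _, _, hfl, P, hP, hPp, hlaw⟩ := h p hp
    refine ⟨R', inferInstance, inferInstance, hfl, P, hP, hPp, ?_⟩
    rw [TensorProduct.tmul_sub, sub_eq_zero]
    show (Algebra.TensorProduct.includeRight :
        MvPolynomial (Fin n) A →ₐ[A] R' ⊗[A] MvPolynomial (Fin n) A) _ =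
      (Algebra.TensorProduct.includeRight :
        MvPolynomial (Fin n) A →ₐ[A] R' ⊗[A] MvPolynomial (Fin n) A) _
    rw [Groth.Agent.H14Lib.BC.rid_nat, Groth.Agent.H14Lib.BC.rid_nat]
    congr 1
    rw [← PolLaw.rTensor_algHom_apply, ← PolLaw.rTensor_algHom_apply,
      PolynomialLaw.isCompat_apply', PolynomialLaw.isCompat_apply']
    exact eq_on_of_bcLaw_eq F N R' hlaw _ _
  exact (Algebra.TensorProduct.rid A (MvPolynomial (Fin n) A)
    (MvPolynomial (Fin n) A)).injective key

theorem exists_split [Module.Free A B] [Module.Finite A B] [Algebra.Etale A B] (d : ℕ)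
    (hd : Module.finrank A B = d) (p : Ideal A) [p.IsPrime] :
    ∃ (R' : Type u) (_ : CommRing R') (_ : Algebra A R') (_ : Module.Flat A R') (P : Ideal R')
      (_ : P.IsPrime), P.comap (algebraMap A R') = p ∧
        Nonempty (R' ⊗[A] B ≃ₐ[R'] (Fin d → R')) := by
  obtain ⟨R', _, _, hEt, P, hP, hLies, n, ⟨e⟩⟩ := Groth.Agent.Helper18.FinEtSplit.split A B p
  haveI : Nontrivial R' := by
    by_contra hnt
    rw [not_nontrivial_iff_subsingleton] at hnt
    exact hP.ne_top ((Ideal.eq_top_iff_one P).mpr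
      (by rw [Subsingleton.elim (1 : R') 0]; exact P.zero_mem))
  haveI : Nontrivial A := (algebraMap A R').domain_nontrivial
  have hn : n = d := by
    have h1 : Module.finrank R' (R' ⊗[A] B) = Module.finrank A B := Module.finrank_baseChange
    have h2 : Module.finrank R' (R' ⊗[A] B) = Module.finrank R' (Fin n → R') :=
      e.toLinearEquiv.finrank_eq
    rw [Module.finrank_fin_fun] at h2
    omega
  subst hn
  haveI : Module.Flat A R' := inferInstance
  refine ⟨R', inferInstance, inferInstance, inferInstance, P, hP, ?_, ⟨e⟩⟩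
  rw [hLies.over]

theorem main [Module.Free A B] [Module.Finite A B] [Algebra.Etale A B] (d : ℕ)
    (hd : Module.finrank A B = d) (N : PolLaw.MulLaw A B A d)
    (hN : ∀ (S : Type u) [CommRing S] [Algebra A S] (x : S ⊗[A] B),
      N.law.toFun' S x = Algebra.norm S x ⊗ₜ[A] (1 : A)) :
    PolLaw.ker N.law = ⊥ ∧
      ∀ F : PolLaw.MulLaw A B A d, PolLaw.ker F.law ≤ nilradical B → F = N := by
  have hNnil := ker_norm_le_nilradical N hN
  constructor
  · rw [eq_bot_iff]
    intro b hb
    rw [Ideal.mem_bot]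
    apply eq_zero_of_forall_prime_flat (A := A)
    intro p hp
    haveI := hp
    obtain ⟨R', _, _, hfl, P, hP, hPp, ⟨e⟩⟩ := exists_split (B := B) d hd p
    refine ⟨R', inferInstance, inferInstance, hfl, P, hP, hPp, ?_⟩
    have h1 : PolLaw.ker (Groth.Agent.H14Lib.BC.bcLaw R' N).law = ⊥ :=
      ker_bot_of_iso e _ (by
        rw [Groth.Agent.H14Lib.BC.ker_bcLaw]; exact kerBC_le_nil N hNnil R')
    have h2 : (1 : R') ⊗ₜ[A] b ∈ PolLaw.kerBC N.law R' :=
      Groth.Agent.S13699.map_ker_le N.law R' (Ideal.mem_map_of_mem _ hb)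
    rw [← Groth.Agent.H14Lib.BC.ker_bcLaw, h1, Ideal.mem_bot] at h2
    exact h2
  · intro F hF
    apply PolLaw.MulLaw.ext
    apply law_eq_of_local
    intro p hp
    haveI := hp
    obtain ⟨R', _, _, hfl, P, hP, hPp, ⟨e⟩⟩ := exists_split (B := B) d hd p
    exact ⟨R', inferInstance, inferInstance, hfl, P, hP, hPp,
      unique_of_iso e _ _
        (by rw [Groth.Agent.H14Lib.BC.ker_bcLaw]; exact kerBC_le_nil F hF R')
        (by rw [Groth.Agent.H14Lib.BC.ker_bcLaw]; exact kerBC_le_nil N hNnil R')⟩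

end Main

end Groth.Agent.H14Lib.EtNorm
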