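import Mathlib

universe u

namespace Groth.Agent.H14Lib.FEt

open scoped TensorProduct

section abs
variable (k : Type u) [Field k]

theorem fe_of_surjective {C D : Type u} [CommRing C] [CommRing D] [Algebra k C] [Algebra k D]
    [Module.Finite k C] [Algebra.Etale k C] (f : C →ₐ[k] D) (hf : Function.Surjective f) :
    Module.Finite k D ∧ Algebra.Etale k D := by
  have hfin : Module.Finite k D := Module.Finite.of_surjective f.toLinearMap hf
  have hun : Algebra.FormallyUnramified k D := Algebra.FormallyUnramified.of_surjective f hf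
  have hfe : Algebra.FormallyEtale k D := Algebra.FormallyEtale.of_formallyUnramified_of_field k D
  exact ⟨hfin, ⟨hfe, Algebra.FinitePresentation.of_finiteType.mp inferInstance⟩⟩

theorem isReduced_of_fe (C : Type u) [CommRing C] [Algebra k C] [Module.Finite k C]
    [Algebra.Etale k C] : IsReduced C :=
  Algebra.FormallyUnramified.isReduced_of_field k C

theorem ideal_eq_span_idem (C : Type u) [CommRing C] [Algebra k C] [Module.Finite k C]
    [Algebra.Etale k C] (I : Ideal C) :
    ∃ e : C, IsIdempotentElem e ∧ I = Ideal.span {e} := by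
  have hN : IsNoetherianRing C := IsNoetherianRing.of_finite k C
  have hfg : I.FG := IsNoetherian.noetherian I
  rw [← Ideal.isIdempotentElem_iff_of_fg I hfg]
  obtain ⟨h1, h2⟩ := fe_of_surjective k (Ideal.Quotient.mkₐ k (I * I))
    (Ideal.Quotient.mkₐ_surjective k (I * I))
  have hred : IsReduced (C ⧸ I * I) := isReduced_of_fe k _
  refine le_antisymm Ideal.mul_le_right ?_
  intro x hx
  have h2 : (Ideal.Quotient.mk (I * I) x) ^ 2 = 0 := by
    rw [← map_pow, Ideal.Quotient.eq_zero_iff_mem, pow_two]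
    exact Ideal.mul_mem_mul hx hx
  have h0 : Ideal.Quotient.mk (I * I) x = 0 := IsNilpotent.eq_zero ⟨2, h2⟩
  exact Ideal.Quotient.eq_zero_iff_mem.mp h0

end abs

theorem exists_maxSet (B : Type u) [CommRing B] [IsNoetherianRing B] :
    ∃ s : Finset (Ideal B), (∀ m ∈ s, m.IsMaximal) ∧
      ∀ e : B, IsIdempotentElem e → (∀ m ∈ s, e ∈ m) → e = 0 := by
  classical
  have hfin : (minimalPrimes B).Finite := minimalPrimes.finite_of_isNoetherianRing B
  have hex : ∀ p : Ideal B, p ∈ minimalPrimes B → ∃ m : Ideal B, m.IsMaximal ∧ p ≤ m := by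
    intro p hp
    have : p.IsPrime := hp.1.1
    exact Ideal.exists_le_maximal p this.ne_top
  choose! g hg using hex
  refine ⟨hfin.toFinset.image g, ?_, ?_⟩
  · intro m hm
    obtain ⟨p, hp, rfl⟩ := Finset.mem_image.mp hm
    exact (hg p (hfin.mem_toFinset.mp hp)).1
  · intro e he hall
    have hmem : ∀ p ∈ minimalPrimes B, e ∈ p := by
      intro p hp
      have hpp : p.IsPrime := hp.1.1
      have hm := hg p hp
      have hem : e ∈ g p := hall _ (Finset.mem_image.mpr ⟨p, hfin.mem_toFinset.mpr hp, rfl⟩)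
      have h0 : e * (1 - e) ∈ p := by
        have : e * (1 - e) = 0 := by rw [mul_sub, mul_one, he.eq, sub_self]
        rw [this]; exact p.zero_mem
      rcases hpp.mem_or_mem h0 with h | h
      · exact h
      · exfalso
        have : (1 : B) ∈ g p := by
          have := (g p).add_mem hem (hm.2 h)
          simpa using this
        exact hm.1.ne_top ((Ideal.eq_top_iff_one _).mpr this)
    have hnil : e ∈ nilradical B := by
      have : nilradical B = sInf (minimalPrimes B) := by
        rw [minimalPrimes, Ideal.sInf_minimalPrimes]; rfl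
      rw [this]
      exact Ideal.mem_sInf.mpr (fun {p} hp => hmem p hp)
    obtain ⟨n, hn⟩ := mem_nilradical.mp hnil
    rw [← he.pow_succ_eq n, pow_succ, hn, zero_mul]

variable {k : Type u} [Field k] {B : Type u} [CommRing B] [Algebra k B]

/-- finite étale subalgebra -/
def IsFE (E : Subalgebra k B) : Prop := Module.Finite k E ∧ Algebra.Etale k E

theorem eq_zero_of_mem_all (E : Subalgebra k B) (hE : IsFE E)
    (s : Finset (Ideal B)) (hs : ∀ e : B, IsIdempotentElem e → (∀ m ∈ s, e ∈ m) → e = 0)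
    (x : E) (hx : ∀ m ∈ s, (x : B) ∈ m) : x = 0 := by
  obtain ⟨h1, h2⟩ := hE
  let K : Ideal E := Ideal.comap (E.val : E →+* B) (⨅ m ∈ s, m)
  obtain ⟨e, he, hK⟩ := ideal_eq_span_idem k E K
  have heK : e ∈ K := by rw [hK]; exact Ideal.mem_span_singleton_self e
  have he0 : (e : B) = 0 := by
    apply hs
    · have := congrArg (fun z : E => (z : B)) he.eq
      simpa [IsIdempotentElem] using this
    · intro m hm
      have h : (e : B) ∈ ⨅ m ∈ s, m := heK
      exact Ideal.mem_iInf.mp (Ideal.mem_iInf.mp h m) hm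
  have hxK : x ∈ K := by
    show (x : B) ∈ ⨅ m ∈ s, m
    exact Ideal.mem_iInf.mpr fun m => Ideal.mem_iInf.mpr fun hm => hx m hm
  rw [hK, Ideal.mem_span_singleton'] at hxK
  obtain ⟨a, ha⟩ := hxK
  have h0 : e = 0 := Subtype.ext he0
  rw [← ha, h0, mul_zero]

theorem finrank_le [Algebra.FiniteType k B] (E : Subalgebra k B) (hE : IsFE E)
    (s : Finset (Ideal B)) (hmax : ∀ m ∈ s, m.IsMaximal)
    (hs : ∀ e : B, IsIdempotentElem e → (∀ m ∈ s, e ∈ m) → e = 0) :
    Module.finrank k E ≤ Module.finrank k (∀ m : s, B ⧸ m.1) := by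
  have hfin : ∀ m : s, Module.Finite k (B ⧸ m.1) := by
    intro m
    have := hmax m.1 m.2
    letI : Field (B ⧸ m.1) := Ideal.Quotient.field m.1
    exact finite_of_finite_type_of_isJacobsonRing k (B ⧸ m.1)
  let φ : E →ₗ[k] (∀ m : s, B ⧸ m.1) :=
    LinearMap.pi (fun m => (Ideal.Quotient.mkₐ k m.1).toLinearMap ∘ₗ E.val.toLinearMap)
  have hφ : Function.Injective φ := by
    rw [← LinearMap.ker_eq_bot, LinearMap.ker_eq_bot']
    intro x hx
    apply eq_zero_of_mem_all E hE s hs x
    intro m hm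
    have := congrFun hx ⟨m, hm⟩
    simpa [φ, Ideal.Quotient.eq_zero_iff_mem] using this
  exact LinearMap.finrank_le_finrank_of_injective hφ

theorem fe_congr {S T : Subalgebra k B} (h : S = T) (hS : IsFE S) : IsFE T := by
  subst h; exact hS

theorem fe_sup {E1 E2 : Subalgebra k B} (h1 : IsFE E1) (h2 : IsFE E2) : IsFE (E1 ⊔ E2) := by
  obtain ⟨a1, a2⟩ := h1
  obtain ⟨b1, b2⟩ := h2
  have hr : (Algebra.TensorProduct.productMap E1.val E2.val).range = E1 ⊔ E2 := by
    rw [Algebra.TensorProduct.productMap_range, Subalgebra.range_val, Subalgebra.range_val]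
  refine fe_congr hr ?_
  haveI : Algebra.Etale k (E1 ⊗[k] E2) := Algebra.Etale.comp k E1 (E1 ⊗[k] E2)
  exact fe_of_surjective k (Algebra.TensorProduct.productMap E1.val E2.val).rangeRestrict
    (AlgHom.rangeRestrict_surjective _)

theorem fe_range {C : Type u} [CommRing C] [Algebra k C] [Module.Finite k C] [Algebra.Etale k C]
    (f : C →ₐ[k] B) : IsFE f.range :=
  fe_of_surjective k f.rangeRestrict (AlgHom.rangeRestrict_surjective _)

theorem fe_bot : IsFE (⊥ : Subalgebra k B) := by
  have : (Algebra.ofId k B).range = ⊥ := by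
    ext x
    rw [Algebra.mem_bot]
    rfl
  exact fe_congr this (fe_range (Algebra.ofId k B))

theorem exists_largest [Algebra.FiniteType k B] (A : Subalgebra k B) :
    ∃ E : Subalgebra k B, E ≤ A ∧ IsFE E ∧
      ∀ E' : Subalgebra k B, E' ≤ A → IsFE E' → E' ≤ E := by
  classical
  haveI : IsNoetherianRing B := Algebra.FiniteType.isNoetherianRing k B
  obtain ⟨s, hmax, hs⟩ := exists_maxSet B
  let S : Set ℕ := {n | ∃ E : Subalgebra k B, E ≤ A ∧ IsFE E ∧ Module.finrank k E = n}
  have hne : S.Nonempty := ⟨_, ⊥, bot_le, fe_bot, rfl⟩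
  have hbdd : BddAbove S :=
    ⟨Module.finrank k (∀ m : s, B ⧸ m.1), by
      rintro n ⟨E, -, hE, rfl⟩
      exact finrank_le E hE s hmax hs⟩
  obtain ⟨E, hEA, hE, hEn⟩ := Nat.sSup_mem hne hbdd
  refine ⟨E, hEA, hE, fun E' hE'A hE' => ?_⟩
  have hsup : IsFE (E ⊔ E') := fe_sup hE hE'
  have hle : Module.finrank k ↥(E ⊔ E') ≤ Module.finrank k E := by
    rw [hEn]; exact le_csSup hbdd ⟨E ⊔ E', sup_le hEA hE'A, hsup, rfl⟩
  have heq : E = E ⊔ E' := by
    obtain ⟨h1, h2⟩ := hsup
    have hge : Module.finrank k E ≤ Module.finrank k ↥(E ⊔ E') :=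
      LinearMap.finrank_le_finrank_of_injective
        (f := (Subalgebra.inclusion (le_sup_left : E ≤ E ⊔ E')).toLinearMap)
        (Subalgebra.inclusion_injective (le_sup_left : E ≤ E ⊔ E'))
    have hfd : FiniteDimensional k ↥(Subalgebra.toSubmodule (E ⊔ E')) := h1
    have := Submodule.eq_of_le_of_finrank_eq (S₁ := Subalgebra.toSubmodule E)
      (S₂ := Subalgebra.toSubmodule (E ⊔ E')) (by exact (le_sup_left : E ≤ E ⊔ E'))
      (le_antisymm hge hle)
    exact Subalgebra.toSubmodule_injective this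
  rw [heq]; exact le_sup_right

end Groth.Agent.H14Lib.FEt
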