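import Mathlib
import Groth.Agent.H14Lib.FEt1

universe u

namespace Groth.Agent.H14Lib.FEt

open scoped TensorProduct

section abs
variable (k : Type u) [Field k]

theorem comap_surjective_of_fe {E A : Type u} [CommRing E] [CommRing A] [Algebra k E]
    [Module.Finite k E] [Algebra.Etale k E]
    (ι : E →+* A) (hι : Function.Injective ι) : Function.Surjective (PrimeSpectrum.comap ι) := by
  intro q
  obtain ⟨e, he, hq⟩ := ideal_eq_span_idem k E q.asIdeal
  haveI : IsArtinianRing E := IsArtinianRing.of_finite k E
  have hne : Ideal.span {ι e} ≠ ⊤ := by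
    intro htop
    rw [Ideal.span_singleton_eq_top] at htop
    have h1 : ι e = 1 := by
      have hid : ι e * ι e = ι e * 1 := by rw [← map_mul, he.eq, mul_one]
      exact htop.mul_left_cancel hid
    have : e = 1 := hι (by rw [h1, map_one])
    apply q.isPrime.ne_top
    rw [hq, this, Ideal.span_singleton_one]
  obtain ⟨P, hP, hle⟩ := Ideal.exists_le_maximal _ hne
  refine ⟨⟨P, hP.isPrime⟩, ?_⟩
  apply PrimeSpectrum.ext
  have hqmax : q.asIdeal.IsMaximal := inferInstance
  have hle' : q.asIdeal ≤ Ideal.comap ι P := by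
    rw [hq, Ideal.span_singleton_le_iff_mem]
    exact hle (Ideal.mem_span_singleton_self _)
  exact (hqmax.eq_of_le (Ideal.comap_ne_top _ hP.ne_top) hle').symm

theorem preconnected_of_idem {R : Type u} [CommRing R]
    (h : ∀ a : R, IsIdempotentElem a → a = 0 ∨ a = 1) : PreconnectedSpace (PrimeSpectrum R) := by
  rw [preconnectedSpace_iff_clopen]
  intro s hs
  obtain ⟨e, he, rfl⟩ := PrimeSpectrum.isClopen_iff.mp hs
  rcases h e he with h0 | h1
  · left; rw [h0]; simp
  · right; rw [h1]; simp

theorem comap_eq_iff {E A : Type u} [CommRing E] [CommRing A] [Algebra k E]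
    [Module.Finite k E] [Algebra.Etale k E]
    (ι : E →+* A) (hι : Function.Injective ι)
    (hprim : ∀ ε : A, IsIdempotentElem ε → ε ∈ Set.range ι)
    (p q : PrimeSpectrum A) :
    PrimeSpectrum.comap ι p = PrimeSpectrum.comap ι q ↔
      connectedComponent p = connectedComponent q := by
  haveI : IsArtinianRing E := IsArtinianRing.of_finite k E
  constructor
  · intro hpq
    obtain ⟨e, he, hq0⟩ := ideal_eq_span_idem k E (PrimeSpectrum.comap ι p).asIdeal
    set f : A := ι e with hf
    have hfp : f ∈ p.asIdeal := by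
      have : e ∈ (PrimeSpectrum.comap ι p).asIdeal := by
        rw [hq0]; exact Ideal.mem_span_singleton_self e
      exact this
    have hfq : f ∈ q.asIdeal := by
      have : e ∈ (PrimeSpectrum.comap ι q).asIdeal := by
        rw [← hpq, hq0]; exact Ideal.mem_span_singleton_self e
      exact this
    have hfid : IsIdempotentElem f := by
      show f * f = f
      rw [hf, ← map_mul, he.eq]
    have hprime : (Ideal.span {e}).IsPrime := hq0 ▸ (PrimeSpectrum.comap ι p).isPrime
    -- the quotient has only trivial idempotents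
    have hidem : ∀ a : A ⧸ Ideal.span {f}, IsIdempotentElem a → a = 0 ∨ a = 1 := by
      intro abar habar
      obtain ⟨a, rfl⟩ := Ideal.Quotient.mk_surjective abar
      have hmem : a * a - a ∈ Ideal.span {f} := by
        rw [← Ideal.Quotient.eq_zero_iff_mem, map_sub, map_mul, habar.eq, sub_self]
      obtain ⟨b, hb⟩ := Ideal.mem_span_singleton'.mp hmem
      have hff : f * (1 - f) = 0 := by rw [mul_sub, mul_one, hfid.eq, sub_self]
      have hεid : IsIdempotentElem (a * (1 - f)) := by
        show a * (1 - f) * (a * (1 - f)) = a * (1 - f)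
        have h1f : (1 - f) * (1 - f) = 1 - f := hfid.one_sub.eq
        have : a * (1 - f) * (a * (1 - f)) - a * (1 - f) = (a * a - a) * ((1 - f) * (1 - f)) +
            a * ((1 - f) * (1 - f) - (1 - f)) := by ring
        have h2 : a * (1 - f) * (a * (1 - f)) - a * (1 - f) = 0 := by
          rw [this, h1f, sub_self, mul_zero, add_zero, ← hb]
          calc b * f * (1 - f) = b * (f * (1 - f)) := by ring
            _ = 0 := by rw [hff, mul_zero]
        exact sub_eq_zero.mp h2
      obtain ⟨e1, he1⟩ := hprim _ hεid
      have he1id : IsIdempotentElem e1 := by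
        apply hι
        rw [map_mul, he1]; exact hεid.eq
      have hmk : Ideal.Quotient.mk (Ideal.span {f}) (a * (1 - f)) =
          Ideal.Quotient.mk (Ideal.span {f}) a := by
        rw [map_mul, map_sub, map_one,
          Ideal.Quotient.eq_zero_iff_mem.mpr (Ideal.mem_span_singleton_self f), sub_zero, mul_one]
      have h01 : e1 * (1 - e1) ∈ Ideal.span {e} := by
        have : e1 * (1 - e1) = 0 := by rw [mul_sub, mul_one, he1id.eq, sub_self]
        rw [this]; exact Ideal.zero_mem _
      rcases hprime.mem_or_mem h01 with h | h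
      · left
        obtain ⟨c, hc⟩ := Ideal.mem_span_singleton'.mp h
        rw [← hmk, ← he1, ← hc, map_mul, Ideal.Quotient.eq_zero_iff_mem]
        exact Ideal.mul_mem_left _ _ (Ideal.mem_span_singleton_self f)
      · right
        obtain ⟨c, hc⟩ := Ideal.mem_span_singleton'.mp h
        have h1 : (1 : A) - a * (1 - f) ∈ Ideal.span {f} := by
          rw [← he1, ← map_one ι, ← map_sub, ← hc, map_mul]
          exact Ideal.mul_mem_left _ _ (Ideal.mem_span_singleton_self f)
        rw [← hmk]
        have := Ideal.Quotient.eq_zero_iff_mem.mpr h1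
        rw [map_sub, map_one, sub_eq_zero] at this
        exact this.symm
    haveI := preconnected_of_idem hidem
    have hpre : IsPreconnected (Set.range (PrimeSpectrum.comap (Ideal.Quotient.mk (Ideal.span {f})))) :=
      isPreconnected_range (PrimeSpectrum.continuous_comap _)
    rw [range_comap_of_surjective _ _ Ideal.Quotient.mk_surjective, Ideal.mk_ker] at hpre
    have hp : p ∈ PrimeSpectrum.zeroLocus (Ideal.span {f} : Set A) := by
      rw [PrimeSpectrum.mem_zeroLocus]
      exact (Ideal.span_singleton_le_iff_mem _).mpr hfp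
    have hq : q ∈ PrimeSpectrum.zeroLocus (Ideal.span {f} : Set A) := by
      rw [PrimeSpectrum.mem_zeroLocus]
      exact (Ideal.span_singleton_le_iff_mem _).mpr hfq
    exact connectedComponent_eq (hpre.subset_connectedComponent hp hq)
  · intro hpq
    have hq : q ∈ connectedComponent p := by rw [hpq]; exact mem_connectedComponent
    have := (PrimeSpectrum.continuous_comap ι).image_connectedComponent_subset p
      (Set.mem_image_of_mem _ hq)
    rw [connectedComponent_eq_singleton] at this
    exact this.symm

end abs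

variable {k : Type u} [Field k] {B : Type u} [CommRing B] [Algebra k B]

/-- the subalgebra `k·ε + k·(1-ε)` generated by an idempotent is finite étale. -/
theorem exists_fe_of_idem (A : Subalgebra k B) (ε : B) (hεA : ε ∈ A) (hε : IsIdempotentElem ε) :
    ∃ T : Subalgebra k B, T ≤ A ∧ IsFE T ∧ ε ∈ T := by
  have hff : ε * (1 - ε) = 0 := by rw [mul_sub, mul_one, hε.eq, sub_self]
  have h1f : (1 - ε) * (1 - ε) = 1 - ε := hε.one_sub.eq
  let lin : (Fin 2 → k) →ₗ[k] B :=
    (LinearMap.proj 0 : (Fin 2 → k) →ₗ[k] k).smulRight ε +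
      (LinearMap.proj 1 : (Fin 2 → k) →ₗ[k] k).smulRight (1 - ε)
  have hlin : ∀ v : Fin 2 → k, lin v = v 0 • ε + v 1 • (1 - ε) := fun v => rfl
  let F : (Fin 2 → k) →ₐ[k] B := AlgHom.ofLinearMap lin
    (by rw [hlin]; simp)
    (by
      intro v w
      rw [hlin, hlin, hlin]
      simp only [Pi.mul_apply, Algebra.smul_def]
      have : (algebraMap k B (v 0) * ε + algebraMap k B (v 1) * (1 - ε)) *
          (algebraMap k B (w 0) * ε + algebraMap k B (w 1) * (1 - ε)) =
          algebraMap k B (v 0) * algebraMap k B (w 0) * (ε * ε) +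
          algebraMap k B (v 1) * algebraMap k B (w 1) * ((1 - ε) * (1 - ε)) +
          (algebraMap k B (v 0) * algebraMap k B (w 1) +
            algebraMap k B (v 1) * algebraMap k B (w 0)) * (ε * (1 - ε)) := by ring
      rw [this, hε.eq, h1f, hff, mul_zero, add_zero, map_mul, map_mul])
  haveI : Algebra.FormallyEtale k (Fin 2 → k) :=
    (Algebra.FormallyEtale.pi_iff (R := k) (fun _ : Fin 2 => k)).mpr (fun _ => inferInstance)
  haveI : Algebra.Etale k (Fin 2 → k) :=
    ⟨inferInstance, Algebra.FinitePresentation.of_finiteType.mp inferInstance⟩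
  refine ⟨F.range, ?_, fe_range F, ⟨Pi.single 0 1, ?_⟩⟩
  · rintro x ⟨v, rfl⟩
    show lin v ∈ A
    rw [hlin]
    exact A.add_mem (A.smul_mem hεA _) (A.smul_mem (A.sub_mem A.one_mem hεA) _)
  · show lin (Pi.single 0 1) = ε
    rw [hlin]; simp

end Groth.Agent.H14Lib.FEt
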