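import Mathlib
import Groth.Prelude.Def_PolLaw2
import Groth.Agent.H14Lib.TSG1

/-!
# Multiplicative laws from a finite field extension to the base field: scalar values
-/

set_option autoImplicit false

open scoped TensorProduct

namespace Groth.Agent.H14Lib.FLaw

universe u

variable {k : Type u} [CommRing k] {K : Type u} [CommRing K] [Algebra k K]

/-- multiplicative and homogeneous of degree `d` over ring test algebras -/
def Good (F : K →ₚₗ[k] k) (d : ℕ) : Prop :=
  (∀ (S : Type u) [CommRing S] [Algebra k S], F.toFun' S 1 = 1 ∧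
      ∀ x y : S ⊗[k] K, F.toFun' S (x * y) = F.toFun' S x * F.toFun' S y) ∧
    ∀ (S : Type u) [CommRing S] [Algebra k S] (a : S) (z : S ⊗[k] K),
      F.toFun' S (a • z) = a ^ d • F.toFun' S z

/-- the value of the law in `S` -/
noncomputable def hat (F : K →ₚₗ[k] k) (S : Type u) [CommRing S] [Algebra k S] (z : S ⊗[k] K) : S :=
  Algebra.TensorProduct.rid k S S (F.toFun' S z)

variable {F : K →ₚₗ[k] k} {d : ℕ}

theorem hat_one (hF : Good F d) (S : Type u) [CommRing S] [Algebra k S] : hat F S 1 = 1 := by
  rw [hat, (hF.1 S).1, map_one]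

theorem hat_mul (hF : Good F d) (S : Type u) [CommRing S] [Algebra k S] (x y : S ⊗[k] K) :
    hat F S (x * y) = hat F S x * hat F S y := by
  rw [hat, (hF.1 S).2, map_mul]
  rfl

theorem hat_smul (hF : Good F d) (S : Type u) [CommRing S] [Algebra k S] (a : S) (z : S ⊗[k] K) :
    hat F S (a • z) = a ^ d * hat F S z := by
  rw [hat, hF.2 S, map_smul, smul_eq_mul]
  rfl

theorem hat_algebraMap (hF : Good F d) (S : Type u) [CommRing S] [Algebra k S] (a : S) :
    hat F S (algebraMap S (S ⊗[k] K) a) = a ^ d := by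
  rw [Algebra.algebraMap_eq_smul_one, hat_smul hF, hat_one hF, mul_one]

theorem rid_rTensor {S S' : Type u} [CommRing S] [Algebra k S] [CommRing S'] [Algebra k S']
    (φ : S →ₐ[k] S') (y : S ⊗[k] k) :
    Algebra.TensorProduct.rid k S' S' (φ.toLinearMap.rTensor k y) =
      φ (Algebra.TensorProduct.rid k S S y) := by
  induction y using TensorProduct.induction_on with
  | zero => simp
  | tmul s c => simp
  | add x y hx hy => simp only [map_add, hx, hy]

theorem hat_compat (F : K →ₚₗ[k] k) {S S' : Type u} [CommRing S] [Algebra k S] [CommRing S']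
    [Algebra k S'] (φ : S →ₐ[k] S') (z : S ⊗[k] K) :
    φ (hat F S z) = hat F S' (Algebra.TensorProduct.map φ (AlgHom.id k K) z) := by
  rw [hat, hat, ← rid_rTensor, PolynomialLaw.isCompat_apply', PolLaw.rTensor_algHom_apply]

theorem law_ext_hat (F F' : K →ₚₗ[k] k)
    (h : ∀ (m : ℕ) (z : MvPolynomial (Fin m) k ⊗[k] K), hat F _ z = hat F' _ z) : F = F' := by
  apply Groth.Agent.H14Lib.TSG.law_ext_poly
  intro m z
  exact (Algebra.TensorProduct.rid k (MvPolynomial (Fin m) k) (MvPolynomial (Fin m) k)).injective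
    (h m z)

end Groth.Agent.H14Lib.FLaw
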