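import Mathlib
import Groth.Agent.H14Lib.FLaw1

/-!
# The characteristic polynomial attached to a multiplicative law
-/

set_option autoImplicit false

open scoped TensorProduct
open Polynomial

namespace Groth.Agent.H14Lib.FLaw

universe u

variable {k : Type u} [CommRing k] {K : Type u} [CommRing K] [Algebra k K]
  (R : Type u) [CommRing R] [Algebra k R]

/-- base change of scalars along an `R`-algebra `S` -/
noncomputable def gS (S : Type u) [CommRing S] [Algebra k S] [Algebra R S] [IsScalarTower k R S] :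
    R ⊗[k] K →ₐ[R] S ⊗[k] K :=
  Algebra.TensorProduct.map (Algebra.ofId R S) (AlgHom.id k K)

theorem gS_tmul (S : Type u) [CommRing S] [Algebra k S] [Algebra R S] [IsScalarTower k R S]
    (r : R) (x : K) : gS (k := k) (K := K) R S (r ⊗ₜ x) = algebraMap R S r ⊗ₜ x := rfl

/-- compatibility of `gS` with an `R`-algebra map -/
theorem map_gS {S S' : Type u} [CommRing S] [Algebra k S] [Algebra R S] [IsScalarTower k R S]
    [CommRing S'] [Algebra k S'] [Algebra R S'] [IsScalarTower k R S']
    (ψ : S →ₐ[R] S') (w : R ⊗[k] K) :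
    Algebra.TensorProduct.map (ψ.restrictScalars k) (AlgHom.id k K) (gS R S w) = gS R S' w := by
  induction w using TensorProduct.induction_on with
  | zero => simp
  | tmul r x => simp [gS_tmul]
  | add x y hx hy => simp only [map_add, hx, hy]

theorem gS_self (w : R ⊗[k] K) : gS (k := k) (K := K) R R w = w := by
  induction w using TensorProduct.induction_on with
  | zero => simp
  | tmul r x => simp [gS_tmul]
  | add x y hx hy => simp only [map_add, hx, hy]

/-- `T - w` -/
noncomputable def zT (w : R ⊗[k] K) : R[X] ⊗[k] K := (X : R[X]) ⊗ₜ[k] (1 : K) - gS R R[X] w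

/-- the characteristic polynomial of `w` with respect to the law -/
noncomputable def chi (F : K →ₚₗ[k] k) (w : R ⊗[k] K) : R[X] := hat F R[X] (zT R w)

variable {F : K →ₚₗ[k] k} {d : ℕ}

theorem chi_dvd (hF : Good F d) (w : R ⊗[k] K) (μ : R[X]) (hμ : aeval w μ = 0) :
    chi R F w ∣ μ ^ d := by
  set a : R[X] ⊗[k] K := (X : R[X]) ⊗ₜ[k] (1 : K) with ha_def
  set b : R[X] ⊗[k] K := gS R R[X] w with hb_def
  have ha : aeval a μ = algebraMap R[X] (R[X] ⊗[k] K) μ := by
    have h1 : a = algebraMap R[X] (R[X] ⊗[k] K) X := by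
      rw [Algebra.TensorProduct.algebraMap_apply]
      rfl
    rw [h1, aeval_algebraMap_apply, aeval_X_left_apply]
  have hb : aeval b μ = 0 := by
    rw [hb_def, aeval_algHom_apply, hμ, map_zero]
  have hdvd : a - b ∣ aeval a μ - aeval b μ := by
    rw [aeval_def, aeval_def, eval₂_eq_eval_map, eval₂_eq_eval_map]
    exact sub_dvd_eval_sub a b _
  rw [ha, hb, sub_zero] at hdvd
  obtain ⟨v, hv⟩ := hdvd
  refine ⟨hat F _ v, ?_⟩
  have h2 := congrArg (hat F R[X]) hv
  rw [hat_algebraMap hF, hat_mul hF] at h2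
  exact h2

theorem chi_eval_zero (F : K →ₚₗ[k] k) (w : R ⊗[k] K) :
    (chi R F w).eval 0 = hat F R (-w) := by
  have h := hat_compat F ((aeval (0 : R)).restrictScalars k : R[X] →ₐ[k] R) (zT R w)
  rw [zT, map_sub, map_gS, gS_self, Algebra.TensorProduct.map_tmul] at h
  simp only [AlgHom.coe_restrictScalars', aeval_X, TensorProduct.zero_tmul, zero_sub] at h
  rw [← h, coe_aeval_eq_eval]
  rfl

section Monic

/-- `T - U w` in `R[T][U] ⊗ K` -/
noncomputable def zH (w : R ⊗[k] K) : R[X][X] ⊗[k] K :=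
  (C X : R[X][X]) ⊗ₜ[k] (1 : K) - ((X : R[X][X]) ⊗ₜ[k] (1 : K)) * gS R R[X][X] w

/-- `1 - V w` in `R[V] ⊗ K` -/
noncomputable def zρ (w : R ⊗[k] K) : R[X] ⊗[k] K :=
  1 - ((X : R[X]) ⊗ₜ[k] (1 : K)) * gS R R[X] w

/-- `U ↦ T U` -/
noncomputable def ψ₁ : R[X][X] →ₐ[R] R[X][X] :=
  (aeval (C X * X : R[X][X]) : R[X][X] →ₐ[R[X]] R[X][X]).restrictScalars R

/-- `U ↦ 1` -/
noncomputable def ψ₂ : R[X][X] →ₐ[R] R[X] :=
  (aeval (1 : R[X]) : R[X][X] →ₐ[R[X]] R[X]).restrictScalars R

/-- `R[V] → R[T][V]` -/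
noncomputable def ι₂ : R[X] →ₐ[R] R[X][X] := Polynomial.mapAlgHom (Algebra.ofId R R[X])

theorem ι₂_apply (p : R[X]) : ι₂ R p = p.map C := rfl

theorem map_ψ₁_zH (w : R ⊗[k] K) :
    Algebra.TensorProduct.map ((ψ₁ R).restrictScalars k) (AlgHom.id k K) (zH R w) =
      (C X : R[X][X]) • Algebra.TensorProduct.map ((ι₂ R).restrictScalars k) (AlgHom.id k K)
        (zρ R w) := by
  rw [zH, zρ, map_sub, map_mul, map_gS, map_sub, map_mul, map_gS, map_one,
    Algebra.TensorProduct.map_tmul, Algebra.TensorProduct.map_tmul,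
    Algebra.TensorProduct.map_tmul, smul_sub, ← smul_mul_assoc]
  have h1 : (ψ₁ R) (C X) = (C X : R[X][X]) := by
    show aeval (C X * X : R[X][X]) (C X : R[X][X]) = _
    rw [aeval_C]
    rfl
  have h2 : (ψ₁ R) (X : R[X][X]) = C X * X := by
    show aeval (C X * X : R[X][X]) (X : R[X][X]) = _
    rw [aeval_X]
  have h3 : (ι₂ R) (X : R[X]) = (X : R[X][X]) := by
    rw [ι₂_apply, Polynomial.map_X]
  simp only [AlgHom.coe_restrictScalars', h1, h2, h3, AlgHom.coe_id, id_eq]
  rw [Algebra.TensorProduct.one_def, TensorProduct.smul_tmul', TensorProduct.smul_tmul',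
    smul_eq_mul, smul_eq_mul, mul_one]

theorem map_ψ₂_zH (w : R ⊗[k] K) :
    Algebra.TensorProduct.map ((ψ₂ R).restrictScalars k) (AlgHom.id k K) (zH R w) = zT R w := by
  rw [zH, zT, map_sub, map_mul, map_gS, Algebra.TensorProduct.map_tmul,
    Algebra.TensorProduct.map_tmul]
  have h1 : (ψ₂ R) (C X) = (X : R[X]) := by
    show aeval (1 : R[X]) (C X : R[X][X]) = _
    rw [aeval_C]
    rfl
  have h2 : (ψ₂ R) (X : R[X][X]) = 1 := by
    show aeval (1 : R[X]) (X : R[X][X]) = _
    rw [aeval_X]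
  simp only [AlgHom.coe_restrictScalars', h1, h2, AlgHom.coe_id, id_eq]
  rw [← Algebra.TensorProduct.one_def, one_mul]

variable {R}

theorem rho_eval_zero (hF : Good F d) (w : R ⊗[k] K) :
    (hat F R[X] (zρ R w)).eval 0 = 1 := by
  have h := hat_compat F ((aeval (0 : R)).restrictScalars k : R[X] →ₐ[k] R) (zρ R w)
  rw [zρ, map_sub, map_mul, map_gS, gS_self, Algebra.TensorProduct.map_tmul, map_one] at h
  simp only [AlgHom.coe_restrictScalars', aeval_X, TensorProduct.zero_tmul, zero_mul,
    sub_zero] at h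
  rw [hat_one hF] at h
  rw [← h, coe_aeval_eq_eval]
  rfl

theorem chi_monic [IsDomain R] (hF : Good F d) (w : R ⊗[k] K) :
    (chi R F w).Monic ∧ (chi R F w).natDegree = d := by
  set H : R[X][X] := hat F R[X][X] (zH R w) with hH
  set ρ : R[X] := hat F R[X] (zρ R w) with hρ
  -- the two specialisations
  have h1 : H.comp (C X * X) = (C X : R[X][X]) ^ d * ρ.map C := by
    have h := hat_compat F ((ψ₁ R).restrictScalars k) (zH R w)
    rw [map_ψ₁_zH, hat_smul hF, ← hat_compat] at h
    exact h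
  have h2 : chi R F w = H.eval 1 := by
    have h := hat_compat F ((ψ₂ R).restrictScalars k) (zH R w)
    rw [map_ψ₂_zH] at h
    rw [chi, ← h]
    rfl
  have hρ0 : ρ.coeff 0 = 1 := by
    rw [coeff_zero_eq_eval_zero]
    exact rho_eval_zero hF w
  -- coefficientwise
  have hc : ∀ b, H.coeff b * X ^ b = X ^ d * C (ρ.coeff b) := by
    intro b
    have := congrArg (fun q : R[X][X] => q.coeff b) h1
    simp only [comp_C_mul_X_coeff] at this
    rw [this, ← C_pow, coeff_C_mul, coeff_map]
  have hbig : ∀ b, d < b → H.coeff b = 0 := by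
    intro b hb
    have h := hc b
    by_contra hne
    obtain ⟨c, rfl⟩ := Nat.exists_eq_add_of_lt hb
    have hpow : (X : R[X]) ^ (d + c + 1) = X ^ d * X ^ (c + 1) := by
      rw [← pow_add, add_assoc]
    rw [hpow, mul_left_comm] at h
    have h' := mul_left_cancel₀ (pow_ne_zero d (X_ne_zero (R := R))) h
    have hdeg' := congrArg natDegree h'
    rw [natDegree_C, mul_comm, natDegree_mul (pow_ne_zero _ X_ne_zero) hne, natDegree_X_pow]
      at hdeg'
    omega
  have hsmall : ∀ b, b ≤ d → H.coeff b = X ^ (d - b) * C (ρ.coeff b) := by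
    intro b hb
    have h := hc b
    have hd : (X : R[X]) ^ d = X ^ b * X ^ (d - b) := by rw [← pow_add]; congr 1; omega
    rw [hd, mul_comm, mul_assoc] at h
    exact mul_left_cancel₀ (pow_ne_zero b (X_ne_zero (R := R))) h
  have hnat : H.natDegree < d + 1 := by
    rw [Nat.lt_succ_iff, natDegree_le_iff_coeff_eq_zero]
    exact hbig
  have hchi : chi R F w = ∑ b ∈ Finset.range (d + 1), X ^ (d - b) * C (ρ.coeff b) := by
    rw [h2, eval_eq_sum_range' hnat]
    refine Finset.sum_congr rfl fun b hb => ?_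
    rw [one_pow, mul_one, hsmall b (Nat.lt_succ_iff.mp (Finset.mem_range.mp hb))]
  have hcoeff : ∀ j, (chi R F w).coeff j = if j ≤ d then ρ.coeff (d - j) else 0 := by
    intro j
    rw [hchi, finsetSum_coeff]
    simp only [coeff_X_pow_mul', coeff_C]
    split_ifs with hj
    · rw [Finset.sum_eq_single (d - j)]
      · have h1 : d - (d - j) ≤ j := by omega
        have h2 : j - (d - (d - j)) = 0 := by omega
        rw [if_pos h1, if_pos h2]
      · intro b hb hne
        have hb' := Nat.lt_succ_iff.mp (Finset.mem_range.mp hb)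
        by_cases h3 : d - b ≤ j
        · rw [if_pos h3, if_neg (by omega)]
        · rw [if_neg h3]
      · intro h
        exact absurd (Finset.mem_range.mpr (by omega)) h
    · refine Finset.sum_eq_zero fun b hb => ?_
      have hb' := Nat.lt_succ_iff.mp (Finset.mem_range.mp hb)
      by_cases h3 : d - b ≤ j
      · rw [if_pos h3, if_neg (by omega)]
      · rw [if_neg h3]
  have hle : (chi R F w).natDegree ≤ d := by
    rw [natDegree_le_iff_coeff_eq_zero]
    intro j hj
    rw [hcoeff, if_neg (by omega)]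
  have hd : (chi R F w).coeff d = 1 := by
    rw [hcoeff, if_pos le_rfl, Nat.sub_self, hρ0]
  have hR : Nontrivial R := inferInstance
  have hnd : (chi R F w).natDegree = d := by
    refine le_antisymm hle (le_natDegree_of_ne_zero ?_)
    rw [hd]
    exact one_ne_zero
  refine ⟨?_, hnd⟩
  rw [Monic, leadingCoeff, hnd, hd]

end Monic

end Groth.Agent.H14Lib.FLaw
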