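import Mathlib
import Groth.Agent.H14Lib.FLaw2

/-!
# Uniqueness of multiplicative laws on a finite field extension, and the degree constraint
-/

set_option autoImplicit false

open scoped TensorProduct
open Polynomial

namespace Groth.Agent.H14Lib.FLaw

universe u

variable {k : Type u} [Field k] {K : Type u} [Field K] [Algebra k K] [FiniteDimensional k K]
  {F : K →ₚₗ[k] k} {d : ℕ}

theorem hat_neg_eq (R : Type u) [CommRing R] [Algebra k R] [IsDomain R] [IsIntegrallyClosed R]
    [IsDomain (R ⊗[k] K)] (hF : Good F d) (w : R ⊗[k] K) :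
    (minpoly R w).natDegree ∣ d ∧
      hat F R (-w) = ((minpoly R w).coeff 0) ^ (d / (minpoly R w).natDegree) := by
  have hw : IsIntegral R w := Algebra.IsIntegral.isIntegral w
  have hprime : Prime (minpoly R w) := minpoly.prime_of_isIntegrallyClosed hw
  have hmonic := minpoly.monic hw
  obtain ⟨hcm, hcd⟩ := chi_monic hF w
  have hdvd := chi_dvd R hF w (minpoly R w) (minpoly.aeval R w)
  obtain ⟨j, -, hassoc⟩ := (dvd_prime_pow hprime d).mp hdvd
  have heq : chi R F w = minpoly R w ^ j := eq_of_monic_of_associated hcm (hmonic.pow j) hassoc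
  have hdeg : d = j * (minpoly R w).natDegree := by
    rw [← hcd, heq, hmonic.natDegree_pow]
  have hpos : 0 < (minpoly R w).natDegree := minpoly.natDegree_pos hw
  refine ⟨⟨j, by rw [hdeg, mul_comm]⟩, ?_⟩
  have hj : d / (minpoly R w).natDegree = j := by
    rw [hdeg, Nat.mul_div_cancel _ hpos]
  rw [hj, ← chi_eval_zero, heq, eval_pow, coeff_zero_eq_eval_zero]

instance : IsDomain (k ⊗[k] K) :=
  (Algebra.TensorProduct.lid k K).toRingEquiv.toMulEquiv.isDomain

instance : IsDomain (k[X] ⊗[k] K) :=
  ((Algebra.TensorProduct.comm k k[X] K).trans (polyEquivTensor k K).symm).toRingEquiv.toMulEquiv.isDomain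

/-- the degree of every element divides the degree of the law -/
theorem natDegree_minpoly_dvd (hF : Good F d) (x : K) : (minpoly k x).natDegree ∣ d := by
  have h := (hat_neg_eq k hF ((Algebra.TensorProduct.lid k K).symm x)).1
  rwa [minpoly.algEquiv_eq] at h

/-- two multiplicative laws of the same degree are equal -/
theorem eq_of_good {F F' : K →ₚₗ[k] k} (hF : Good F d) (hF' : Good F' d) : F = F' := by
  apply law_ext_hat
  intro m z
  apply MvPolynomial.map_injective (algebraMap k k[X]) (algebraMap k k[X]).injective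
  apply MvPolynomial.funext
  intro s
  rw [MvPolynomial.eval_map, MvPolynomial.eval_map, ← MvPolynomial.aeval_def,
    ← MvPolynomial.aeval_def]
  rw [hat_compat F (MvPolynomial.aeval s) z, hat_compat F' (MvPolynomial.aeval s) z]
  set w := Algebra.TensorProduct.map (MvPolynomial.aeval s : MvPolynomial (Fin m) k →ₐ[k] k[X])
    (AlgHom.id k K) z
  have h1 := (hat_neg_eq k[X] hF (-w)).2
  have h2 := (hat_neg_eq k[X] hF' (-w)).2
  rw [neg_neg] at h1 h2
  rw [h1, h2]

end Groth.Agent.H14Lib.FLaw
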