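import Mathlib

/-!
# Field theory: the exponent of a finite extension is a power of the exponential characteristic,
and an element of degree (separable degree) * (exponent)
-/

set_option autoImplicit false

open Module Polynomial IntermediateField

namespace Groth.Agent.H14Lib.FLaw

universe u

section Prim

variable (F : Type*) [Field F] [Infinite F] {E : Type*} [Field E] [Algebra F E]

/-- primitive element for a pair (integral, separable); after
`Field.primitive_element_inf_aux` -/
theorem exists_adjoin_simple_mem (α β : E) (hα : IsIntegral F α) (hβs : IsSeparable F β) :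
    ∃ γ : E, α ∈ F⟮γ⟯ ∧ β ∈ F⟮γ⟯ := by
  have hβ : IsIntegral F β := hβs.isIntegral
  let f := minpoly F α
  let g := minpoly F β
  let ιFE := algebraMap F E
  let ιEE' := algebraMap E (SplittingField (g.map ιFE))
  obtain ⟨c, hc⟩ := Field.primitive_element_inf_aux_exists_c (ιEE'.comp ιFE) (ιEE' α) (ιEE' β) f g
  let γ := α + c • β
  suffices β_in_Fγ : β ∈ F⟮γ⟯ by
    refine ⟨γ, ?_, β_in_Fγ⟩
    rw [← add_sub_cancel_right α (c • β)]
    exact F⟮γ⟯.sub_mem (mem_adjoin_simple_self F γ) (F⟮γ⟯.toSubalgebra.smul_mem β_in_Fγ c)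
  classical
  let p := EuclideanDomain.gcd ((f.map (algebraMap F F⟮γ⟯)).comp
    (C (AdjoinSimple.gen F γ) - (C ↑c : F⟮γ⟯[X]) * X)) (g.map (algebraMap F F⟮γ⟯))
  let h := EuclideanDomain.gcd ((f.map ιFE).comp (C γ - C (ιFE c) * X)) (g.map ιFE)
  have map_g_ne_zero : g.map ιFE ≠ 0 := map_ne_zero (minpoly.ne_zero hβ)
  have h_ne_zero : h ≠ 0 :=
    mt EuclideanDomain.gcd_eq_zero_iff.mp (not_and.mpr fun _ => map_g_ne_zero)
  suffices p_linear : p.map (algebraMap F⟮γ⟯ E) = C h.leadingCoeff * (X - C β) by
    have finale : β = algebraMap F⟮γ⟯ E (-p.coeff 0 / p.coeff 1) := by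
      simp [map_div₀, map_neg, ← coeff_map, ← coeff_map, p_linear,
        mul_sub, coeff_C, mul_div_cancel_left₀ β (mt leadingCoeff_eq_zero.mp h_ne_zero)]
    rw [finale]
    exact Subtype.mem (-p.coeff 0 / p.coeff 1)
  have h_sep : h.Separable := separable_gcd_right _ (.map hβs)
  have h_root : h.eval β = 0 := by
    apply eval_gcd_eq_zero
    · rw [eval_comp, eval_sub, eval_mul, eval_C, eval_C, eval_X, eval_map_algebraMap, ←
        Algebra.smul_def, add_sub_cancel_right, minpoly.aeval]
    · rw [eval_map_algebraMap, minpoly.aeval]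
  have h_splits : Splits (h.map ιEE') := by
    rw [← Polynomial.gcd_map]
    exact (SplittingField.splits _).of_dvd (map_ne_zero map_g_ne_zero)
      (EuclideanDomain.gcd_dvd_right _ _)
  have h_roots : ∀ x ∈ (h.map ιEE').roots, x = ιEE' β := by
    intro x hx
    rw [mem_roots_map h_ne_zero] at hx
    specialize hc (ιEE' γ - ιEE' (ιFE c) * x) (by
      have f_root := root_left_of_root_gcd hx
      rw [eval₂_comp, eval₂_sub, eval₂_mul, eval₂_C, eval₂_C, eval₂_X, eval₂_map] at f_root
      exact (mem_roots_map (minpoly.ne_zero hα)).mpr f_root)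
    specialize hc x (by
      rw [mem_roots_map (minpoly.ne_zero hβ), ← eval₂_map]
      exact root_right_of_root_gcd hx)
    by_contra a
    apply hc
    apply (div_eq_iff (sub_ne_zero.mpr a)).mpr
    simp only [γ, Algebra.smul_def, map_add, map_mul, RingHom.comp_apply]
    ring
  rw [← eq_X_sub_C_of_separable_of_root_eq h_sep h_root h_splits h_roots]
  trans EuclideanDomain.gcd (?_ : E[X]) (?_ : E[X])
  · dsimp only [γ]
    convert! (gcd_map (algebraMap F⟮γ⟯ E)).symm
  · simp only [map_comp, Polynomial.map_map, ← IsScalarTower.algebraMap_eq, Polynomial.map_sub,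
      map_C, AdjoinSimple.algebraMap_gen, Polynomial.map_mul, map_X]
    congr

end Prim

section Exp

variable {k K : Type u} [Field k] [Field K] [Algebra k K] [FiniteDimensional k K]

/-- the exponent is a power of the exponential characteristic -/
theorem exists_exp_eq_pow (q : ℕ) [hq : ExpChar k q] (e : ℕ) (he : 0 < e)
    (hexp : ∀ x : K, x ^ e ∈ separableClosure k K)
    (hmin : ∀ n : ℕ, 0 < n → (∀ x : K, x ^ n ∈ separableClosure k K) → e ≤ n) :
    ∃ a, e = q ^ a := by
  cases hq with
  | zero =>
    refine ⟨0, ?_⟩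
    have h1 : e ≤ 1 := hmin 1 one_pos (fun x => by
      rw [pow_one, mem_separableClosure_iff]
      exact Algebra.IsSeparable.isSeparable k x)
    rw [pow_zero]
    omega
  | prime hprime =>
    haveI : CharP (separableClosure k K) q :=
      charP_of_injective_algebraMap (algebraMap k (separableClosure k K)).injective q
    obtain ⟨a, e', hndvd, rfl⟩ := Nat.exists_eq_pow_mul_and_not_dvd he.ne' q hprime.ne_one
    have hkey : ∀ x : K, x ^ q ^ a ∈ separableClosure k K := by
      intro x
      by_cases hx : x = 0
      · rw [hx, zero_pow (pow_ne_zero a hprime.ne_zero)]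
        exact zero_mem _
      let c : separableClosure k K := ⟨x ^ (q ^ a * e'), hexp x⟩
      have hc : c ≠ 0 := by
        intro h
        have h' := congrArg Subtype.val h
        exact pow_ne_zero _ hx h'
      have hsep : (X ^ e' - C c : (separableClosure k K)[X]).Separable :=
        separable_X_pow_sub_C' q e' c hndvd hc
      have hroot : aeval (x ^ q ^ a) (X ^ e' - C c : (separableClosure k K)[X]) = 0 := by
        rw [map_sub, map_pow, aeval_X, aeval_C, ← pow_mul]
        exact sub_self _
      have hzsep : IsSeparable (separableClosure k K) (x ^ q ^ a) :=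
        hsep.of_dvd (minpoly.dvd _ _ hroot)
      obtain ⟨c', hc'⟩ := IsPurelyInseparable.inseparable (separableClosure k K) _ hzsep
      rw [← hc']
      exact c'.2
    have h1 := hmin (q ^ a) (pow_pos hprime.pos a) hkey
    have hpos : 0 < e' := Nat.pos_of_ne_zero (by rintro rfl; simp at he)
    have he' : e' = 1 := by
      have h2 : 0 < q ^ a := pow_pos hprime.pos a
      nlinarith
    exact ⟨a, by rw [he', mul_one]⟩

/-- an element whose degree is divisible by (separable degree) * (exponent) -/
theorem exists_elt (e : ℕ) (he : 0 < e)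
    (hexp : ∀ x : K, x ^ e ∈ separableClosure k K)
    (hmin : ∀ n : ℕ, 0 < n → (∀ x : K, x ^ n ∈ separableClosure k K) → e ≤ n) :
    ∃ x₀ : K, Field.finSepDegree k K * e ∣ (minpoly k x₀).natDegree := by
  have hds : finrank k (separableClosure k K) = Field.finSepDegree k K := by
    have h := Field.finSepDegree_mul_finSepDegree_of_isAlgebraic k (separableClosure k K) K
    rw [Field.finSepDegree_eq_finrank_of_isSeparable k (separableClosure k K),
      IsPurelyInseparable.finSepDegree_eq_one (separableClosure k K) K, mul_one] at h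
    exact h
  obtain ⟨α, hα⟩ := Field.exists_primitive_element k (separableClosure k K)
  have hαint : IsIntegral k α := Algebra.IsIntegral.isIntegral α
  have hαdeg : (minpoly k (α : K)).natDegree = finrank k (separableClosure k K) := by
    rw [← IntermediateField.minpoly_eq, ← IntermediateField.adjoin.finrank hαint, hα,
      IntermediateField.finrank_top']
  obtain ⟨a, rfl⟩ := exists_exp_eq_pow (ringExpChar k) e he hexp hmin
  by_cases he1 : ringExpChar k ^ a = 1
  · refine ⟨(α : K), ?_⟩
    rw [he1, mul_one, hαdeg, hds]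
  have hq1 : ringExpChar k ≠ 1 := fun h => he1 (by rw [h, one_pow])
  have hq : (ringExpChar k).Prime := (expChar_is_prime_or_one k (ringExpChar k)).resolve_right hq1
  have ha : a ≠ 0 := fun h => he1 (by rw [h, pow_zero])
  set q := ringExpChar k with hqdef
  -- `k` is infinite
  haveI : Infinite k := by
    by_contra hfin
    rw [not_infinite_iff_finite] at hfin
    have h1 : q ^ a ≤ 1 := hmin 1 one_pos (fun x => by
      rw [pow_one, mem_separableClosure_iff]
      exact Algebra.IsSeparable.isSeparable k x)
    have h2 : 0 < q ^ a := pow_pos hq.pos a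
    omega
  -- an element of maximal height
  have hy : ∃ y : K, y ^ q ^ (a - 1) ∉ separableClosure k K := by
    by_contra hcon
    push Not at hcon
    have h1 := hmin _ (pow_pos hq.pos (a - 1)) hcon
    have h2 : q ^ (a - 1) < q ^ a := Nat.pow_lt_pow_right hq.one_lt (by omega)
    omega
  obtain ⟨y, hy⟩ := hy
  have hαsep : IsSeparable k (α : K) := mem_separableClosure_iff.mp α.2
  obtain ⟨γ, hyγ, hαγ⟩ := exists_adjoin_simple_mem k y (α : K)
    (Algebra.IsIntegral.isIntegral y) hαsep
  have hγint : IsIntegral k γ := Algebra.IsIntegral.isIntegral γ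
  refine ⟨γ, ?_⟩
  have hKsE : separableClosure k K ≤ k⟮γ⟯ := by
    intro c hc
    have h1 : (⟨c, hc⟩ : separableClosure k K) ∈ k⟮α⟯ := by rw [hα]; exact IntermediateField.mem_top
    have h2 : c ∈ (k⟮α⟯).map (separableClosure k K).val :=
      (IntermediateField.mem_map _).mpr ⟨⟨c, hc⟩, h1, rfl⟩
    rw [IntermediateField.adjoin_map, Set.image_singleton] at h2
    exact (IntermediateField.adjoin_simple_le_iff.mpr hαγ) h2
  letI : Algebra (separableClosure k K) k⟮γ⟯ := (IntermediateField.inclusion hKsE).toRingHom.toAlgebra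
  haveI : IsScalarTower k (separableClosure k K) k⟮γ⟯ :=
    IsScalarTower.of_algebraMap_eq (fun x => ((IntermediateField.inclusion hKsE).commutes x).symm)
  haveI : IsScalarTower (separableClosure k K) k⟮γ⟯ K :=
    IsScalarTower.of_algebraMap_eq (fun x => rfl)
  have htower : finrank k (separableClosure k K) * finrank (separableClosure k K) k⟮γ⟯ =
      finrank k k⟮γ⟯ := Module.finrank_mul_finrank k (separableClosure k K) k⟮γ⟯
  have hEdeg : finrank k k⟮γ⟯ = (minpoly k γ).natDegree := IntermediateField.adjoin.finrank hγint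
  haveI : FiniteDimensional (separableClosure k K) k⟮γ⟯ :=
    Module.Finite.right k (separableClosure k K) k⟮γ⟯
  have hy' : (minpoly (separableClosure k K) (⟨y, hyγ⟩ : k⟮γ⟯)).natDegree ∣
      finrank (separableClosure k K) k⟮γ⟯ :=
    minpoly.degree_dvd (Algebra.IsIntegral.isIntegral _)
  have hmp : minpoly (separableClosure k K) (⟨y, hyγ⟩ : k⟮γ⟯) = minpoly (separableClosure k K) y :=
    (minpoly.algebraMap_eq (algebraMap k⟮γ⟯ K).injective (⟨y, hyγ⟩ : k⟮γ⟯)).symm
  haveI : ExpChar (separableClosure k K) q :=
    expChar_of_injective_algebraMap (algebraMap k (separableClosure k K)).injective q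
  obtain ⟨n, c, hnc⟩ := IsPurelyInseparable.minpoly_eq_X_pow_sub_C (separableClosure k K) q y
  have hnat : (minpoly (separableClosure k K) y).natDegree = q ^ n := by
    rw [hnc, natDegree_X_pow_sub_C]
  have hyc : y ^ q ^ n = c := by
    have h := minpoly.aeval (separableClosure k K) y
    rw [hnc, map_sub, map_pow, aeval_X, aeval_C] at h
    exact sub_eq_zero.mp h
  have hna : a ≤ n := by
    by_contra hlt
    push Not at hlt
    apply hy
    have h1 : q ^ (a - 1) = q ^ n * q ^ (a - 1 - n) := by
      rw [← pow_add]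
      congr 1
      omega
    rw [h1, pow_mul, hyc]
    exact pow_mem c.2 _
  have hna' : n ≤ a := by
    have hd : minpoly (separableClosure k K) y ∣
        X ^ q ^ a - C (⟨y ^ q ^ a, hexp y⟩ : separableClosure k K) :=
      minpoly.dvd _ _ (by
        rw [map_sub, map_pow, aeval_X, aeval_C]
        exact sub_self _)
    have h1 := natDegree_le_of_dvd hd (X_pow_sub_C_ne_zero (pow_pos hq.pos a) _)
    rw [hnat, natDegree_X_pow_sub_C] at h1
    exact (Nat.pow_le_pow_iff_right hq.one_lt).mp h1
  have hn : n = a := le_antisymm hna' hna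
  rw [← hds, ← hEdeg, ← htower]
  apply Nat.mul_dvd_mul_left
  rw [← hn, ← hnat, ← hmp]
  exact hy'

end Exp

end Groth.Agent.H14Lib.FLaw
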