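import Mathlib
import Groth.Agent.H14Lib.FLaw3
import Groth.Agent.H14Lib.FLaw4
import Groth.Agent.H14Lib.GammaGen

/-!
# Existence of the multiplicative law of degree (separable degree) * (exponent) * m
-/

set_option autoImplicit false

open scoped TensorProduct
open Polynomial

namespace Groth.Agent.H14Lib.FLaw

universe u

variable {k : Type u} [Field k] {K : Type u} [Field K] [Algebra k K] [FiniteDimensional k K]

theorem pow_mem_range (e : ℕ) (he : 0 < e)
    (hexp : ∀ x : K, x ^ e ∈ separableClosure k K)
    (hmin : ∀ n : ℕ, 0 < n → (∀ x : K, x ^ n ∈ separableClosure k K) → e ≤ n)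
    (n : ℕ) (x : MvPolynomial (Fin n) k ⊗[k] K) :
    x ^ e ∈ LinearMap.range
      ((separableClosure k K).toSubalgebra.val.toLinearMap.lTensor (MvPolynomial (Fin n) k)) := by
  obtain ⟨a, rfl⟩ := exists_exp_eq_pow (ringExpChar k) e he hexp hmin
  haveI : Nontrivial (MvPolynomial (Fin n) k ⊗[k] K) :=
    (Algebra.TensorProduct.includeLeft_injective (R := k) (S := k) (A := MvPolynomial (Fin n) k)
      (B := K) (algebraMap k K).injective).nontrivial
  haveI : ExpChar (MvPolynomial (Fin n) k ⊗[k] K) (ringExpChar k) :=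
    expChar_of_injective_algebraMap (algebraMap k _).injective (ringExpChar k)
  induction x using TensorProduct.induction_on with
  | zero =>
    rw [zero_pow (pow_pos (by
      rcases expChar_is_prime_or_one k (ringExpChar k) with h | h
      · exact h.pos
      · rw [h]; exact one_pos) a).ne']
    exact zero_mem _
  | tmul s b =>
    refine ⟨(s ^ ringExpChar k ^ a) ⊗ₜ[k] (⟨b ^ ringExpChar k ^ a, hexp b⟩ :
      (separableClosure k K).toSubalgebra), ?_⟩
    rw [LinearMap.lTensor_tmul, Algebra.TensorProduct.tmul_pow]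
    rfl
  | add x y hx hy =>
    rw [add_pow_expChar_pow]
    exact add_mem hx hy

/-- the law `x ↦ N(x ^ e) ^ m` -/
theorem exists_good (e : ℕ) (he : 0 < e)
    (hexp : ∀ x : K, x ^ e ∈ separableClosure k K)
    (hmin : ∀ n : ℕ, 0 < n → (∀ x : K, x ^ n ∈ separableClosure k K) → e ≤ n) (m : ℕ) :
    ∃ F : K →ₚₗ[k] k, Good F (Field.finSepDegree k K * e * m) := by
  have hds : Module.finrank k (separableClosure k K).toSubalgebra = Field.finSepDegree k K := by
    have h := Field.finSepDegree_mul_finSepDegree_of_isAlgebraic k (separableClosure k K) K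
    rw [Field.finSepDegree_eq_finrank_of_isSeparable k (separableClosure k K),
      IsPurelyInseparable.finSepDegree_eq_one (separableClosure k K) K, mul_one] at h
    exact h
  obtain ⟨γ₁, hγ₁⟩ := Groth.Agent.H14Lib.CH.exists_law_into_subalgebra
    (PolLaw.MulLaw.pow k K e) (separableClosure k K).toSubalgebra
    (fun n x => pow_mem_range e he hexp hmin n x)
  haveI : Module.Finite k (separableClosure k K).toSubalgebra :=
    inferInstanceAs (Module.Finite k (separableClosure k K))
  let ν := PolLaw.normLaw k (separableClosure k K).toSubalgebra (Field.finSepDegree k K) hds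
  refine ⟨(PolLaw.powLaw (A := k) (B := k) m).comp (ν.law.comp γ₁.law), ?_, ?_⟩
  · intro S _ _
    constructor
    · show (ν.law.toFun' S (γ₁.law.toFun' S 1)) ^ m = 1
      rw [(γ₁.mult S).1, (ν.mult S).1, one_pow]
    · intro x y
      show (ν.law.toFun' S (γ₁.law.toFun' S (x * y))) ^ m =
        (ν.law.toFun' S (γ₁.law.toFun' S x)) ^ m * (ν.law.toFun' S (γ₁.law.toFun' S y)) ^ m
      rw [(γ₁.mult S).2, (ν.mult S).2, mul_pow]
  · intro S _ _ a z
    show (ν.law.toFun' S (γ₁.law.toFun' S (a • z))) ^ m =
      a ^ (Field.finSepDegree k K * e * m) • (ν.law.toFun' S (γ₁.law.toFun' S z)) ^ m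
    rw [γ₁.homog S, ν.homog S, _root_.smul_pow, ← pow_mul, ← pow_mul]
    congr 2
    ring

end Groth.Agent.H14Lib.FLaw
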