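import Mathlib
import Groth.Agent.H14Lib.GammaGen

/-!
# Coefficients of a multiplicative law along a family spanning a finite subalgebra
-/

set_option autoImplicit false
universe u
open scoped TensorProduct

namespace Groth.Agent.H14Lib.CH

open MvPolynomial

section GammaFin

variable {A : Type u} [CommRing A] {B : Type u} [CommRing B] [Algebra A B]
  {C : Type u} [CommRing C] [Algebra A C]

/-- the span of the coefficients of a law along a finite family -/
noncomputable def famSpan (γ : B →ₚₗ[A] C) {I : Type u} [Fintype I] (e : I → B) : Submodule A C :=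
  Submodule.span A ((fun μ => cf γ e Finset.univ μ) '' (cfsupp γ e Finset.univ : Set (I →₀ ℕ)))

theorem famSpan_fg (γ : B →ₚₗ[A] C) {I : Type u} [Fintype I] (e : I → B) : (famSpan γ e).FG := by
  classical
  refine ⟨(cfsupp γ e Finset.univ).image (fun μ => cf γ e Finset.univ μ), ?_⟩
  rw [Finset.coe_image]; rfl

/-- values of the law at combinations of the family lie in `S ⊗ famSpan` -/
theorem toFun'_sum_mem (γ : B →ₚₗ[A] C) {I : Type u} [Fintype I] (e : I → B)
    {S : Type u} [CommSemiring S] [Algebra A S] (a : I → S) :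
    γ.toFun' S (∑ i, a i ⊗ₜ[A] e i) ∈ LinearMap.range ((famSpan γ e).subtype.lTensor S) := by
  rw [spadeN γ e Finset.univ a]
  refine Submodule.sum_mem _ fun μ hμ => ?_
  exact ⟨(μ.prod fun i n => a i ^ n) ⊗ₜ[A] ⟨_, Submodule.subset_span ⟨μ, hμ, rfl⟩⟩, rfl⟩

/-- combinations of a family whose members lie in the span of `e` -/
theorem exists_sum_eq {I : Type u} [Fintype I] (e : I → B) {I' : Type u} (e' : I' → B)
    (Λ' : Finset I') (h : ∀ i' ∈ Λ', e' i' ∈ Submodule.span A (Set.range e))
    {S : Type u} [CommSemiring S] [Algebra A S] (a' : I' → S) :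
    ∃ a : I → S, ∑ i' ∈ Λ', a' i' ⊗ₜ[A] e' i' = ∑ i, a i ⊗ₜ[A] e i := by
  classical
  have hex : ∀ i' : I', ∃ c : I → A, i' ∈ Λ' → ∑ i, c i • e i = e' i' := by
    intro i'
    by_cases hi : i' ∈ Λ'
    · obtain ⟨c, hc⟩ := (Submodule.mem_span_range_iff_exists_fun A).mp (h i' hi)
      exact ⟨c, fun _ => hc⟩
    · exact ⟨0, fun h => absurd h hi⟩
  choose r hr using hex
  refine ⟨fun i => ∑ i' ∈ Λ', r i' i • a' i', ?_⟩
  simp only [TensorProduct.sum_tmul]
  rw [Finset.sum_comm]
  refine Finset.sum_congr rfl fun i' hi' => ?_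
  have hb : a' i' ⊗ₜ[A] e' i' = a' i' ⊗ₜ[A] (∑ i, r i' i • e i) := by rw [hr i' hi']
  rw [hb, TensorProduct.tmul_sum]
  refine Finset.sum_congr rfl fun i _ => ?_
  rw [TensorProduct.tmul_smul, TensorProduct.smul_tmul']

theorem cf_mem_famSpan (γ : B →ₚₗ[A] C) {I : Type u} [Fintype I] (e : I → B)
    {I' : Type u} (e' : I' → B) (Λ' : Finset I')
    (h : ∀ i' ∈ Λ', e' i' ∈ Submodule.span A (Set.range e)) (ν : I' →₀ ℕ) :
    cf γ e' Λ' ν ∈ famSpan γ e := by
  obtain ⟨a, ha⟩ := exists_sum_eq e e' Λ' h (S := MvPolynomial I' A) (fun i' => X i')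
  have h1 := toFun'_sum_mem γ e a
  rw [← ha] at h1
  exact lid_mem_of_mem_range (kap_mem_range ν h1)

theorem one_mem_famSpan (γ : B →ₚₗ[A] C) (h1 : γ.toFun' A 1 = 1) {I : Type u} [Fintype I]
    (e : I → B) (he : (1 : B) ∈ Submodule.span A (Set.range e)) : (1 : C) ∈ famSpan γ e := by
  obtain ⟨a, ha⟩ := exists_sum_eq e (fun _ : PUnit.{u+1} => (1 : B)) Finset.univ
    (fun _ _ => he) (S := A) (fun _ => 1)
  have h2 := toFun'_sum_mem γ e a
  rw [← ha] at h2
  simp only [Finset.univ_unique, Finset.sum_singleton] at h2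
  have h3 := lid_mem_of_mem_range h2
  rw [← Algebra.TensorProduct.one_def, h1, Algebra.TensorProduct.one_def, TensorProduct.lid_tmul,
    one_smul] at h3
  exact h3

theorem cf_mul_cf_mem_famSpan (γ : B →ₚₗ[A] C)
    (hmul : ∀ (S : Type u) [CommSemiring S] [Algebra A S] (x y : S ⊗[A] B),
      γ.toFun' S (x * y) = γ.toFun' S x * γ.toFun' S y)
    {I : Type u} [Fintype I] (e : I → B)
    (he : ∀ i j, e i * e j ∈ Submodule.span A (Set.range e)) (ν ν' : I →₀ ℕ) :
    cf γ e Finset.univ ν * cf γ e Finset.univ ν' ∈ famSpan γ e := by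
  classical
  by_cases hν : ν ∈ cfsupp γ e Finset.univ
  swap
  · rw [cf_eq_zero _ _ _ hν, zero_mul]; exact zero_mem _
  by_cases hν' : ν' ∈ cfsupp γ e Finset.univ
  swap
  · rw [cf_eq_zero _ _ _ hν', mul_zero]; exact zero_mem _
  set S := MvPolynomial (I ⊕ I) A with hS
  set u : S ⊗[A] B := ∑ i, (X (Sum.inl i) : S) ⊗ₜ[A] e i with hu
  set u' : S ⊗[A] B := ∑ i, (X (Sum.inr i) : S) ⊗ₜ[A] e i with hu'
  have h1 := hmul S u u'
  rw [hu, hu', spadeN γ e Finset.univ (fun i => (X (Sum.inl i) : S)),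
    spadeN γ e Finset.univ (fun i => (X (Sum.inr i) : S)), ← hu, ← hu'] at h1
  -- the product is again a combination of the family
  have hprod : u * u' = ∑ p : I × I, ((X (Sum.inl p.1) : S) * X (Sum.inr p.2)) ⊗ₜ[A]
      (e p.1 * e p.2) := by
    rw [hu, hu', Finset.sum_mul_sum, ← Finset.sum_product']
    refine Finset.sum_congr rfl fun p _ => ?_
    rw [Algebra.TensorProduct.tmul_mul_tmul]
  obtain ⟨a, ha⟩ := exists_sum_eq e (fun p : I × I => e p.1 * e p.2) Finset.univ
    (fun p _ => he p.1 p.2) (S := S) (fun p => (X (Sum.inl p.1) : S) * X (Sum.inr p.2))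
  have hmem := toFun'_sum_mem γ e a
  rw [← ha, ← hprod] at hmem
  have h2 := lid_mem_of_mem_range (kap_mem_range
    (ν.mapDomain Sum.inl + ν'.mapDomain Sum.inr) hmem)
  rw [h1, Finset.sum_mul_sum, map_sum, map_sum] at h2
  rw [Finset.sum_eq_single ν] at h2
  · rw [map_sum, map_sum, Finset.sum_eq_single ν'] at h2
    · rw [Algebra.TensorProduct.tmul_mul_tmul, prod_X_comp_pow _ Sum.inl_injective,
        prod_X_comp_pow _ Sum.inr_injective, monomial_mul, mul_one, kap_tmul, coeff_monomial,
        if_pos rfl, TensorProduct.lid_tmul, one_smul] at h2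
      exact h2
    · intro μ' _ hμ'
      rw [Algebra.TensorProduct.tmul_mul_tmul, prod_X_comp_pow _ Sum.inl_injective,
        prod_X_comp_pow _ Sum.inr_injective, monomial_mul, mul_one, kap_tmul, coeff_monomial,
        if_neg, TensorProduct.zero_tmul, map_zero]
      intro h
      exact hμ' (enc_sum_inj h).2
    · intro h; exact absurd hν' h
  · intro μ _ hμ
    rw [map_sum, map_sum]
    refine Finset.sum_eq_zero fun μ' _ => ?_
    rw [Algebra.TensorProduct.tmul_mul_tmul, prod_X_comp_pow _ Sum.inl_injective,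
      prod_X_comp_pow _ Sum.inr_injective, monomial_mul, mul_one, kap_tmul, coeff_monomial,
      if_neg, TensorProduct.zero_tmul, map_zero]
    intro h
    exact hμ (enc_sum_inj h).1
  · intro h; exact absurd hν h

theorem mul_mem_famSpan (γ : B →ₚₗ[A] C)
    (hmul : ∀ (S : Type u) [CommSemiring S] [Algebra A S] (x y : S ⊗[A] B),
      γ.toFun' S (x * y) = γ.toFun' S x * γ.toFun' S y)
    {I : Type u} [Fintype I] (e : I → B)
    (he : ∀ i j, e i * e j ∈ Submodule.span A (Set.range e))
    {c c' : C} (hc : c ∈ famSpan γ e) (hc' : c' ∈ famSpan γ e) : c * c' ∈ famSpan γ e := by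
  induction hc using Submodule.span_induction with
  | mem x hx =>
    obtain ⟨ν, -, rfl⟩ := hx
    induction hc' using Submodule.span_induction with
    | mem y hy =>
      obtain ⟨ν', -, rfl⟩ := hy
      exact cf_mul_cf_mem_famSpan γ hmul e he ν ν'
    | zero => rw [mul_zero]; exact zero_mem _
    | add y z _ _ hy hz => rw [mul_add]; exact add_mem hy hz
    | smul a y _ hy => rw [mul_smul_comm]; exact Submodule.smul_mem _ a hy
  | zero => rw [zero_mul]; exact zero_mem _
  | add y z _ _ hy hz => rw [add_mul]; exact add_mem hy hz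
  | smul a y _ hy => rw [smul_mul_assoc]; exact Submodule.smul_mem _ a hy

/-- the coefficients of a multiplicative law along a family spanning a subalgebra are integral -/
theorem isIntegral_of_mem_famSpan (γ : B →ₚₗ[A] C) (h1 : γ.toFun' A 1 = 1)
    (hmul : ∀ (S : Type u) [CommSemiring S] [Algebra A S] (x y : S ⊗[A] B),
      γ.toFun' S (x * y) = γ.toFun' S x * γ.toFun' S y)
    {I : Type u} [Fintype I] (e : I → B)
    (he1 : (1 : B) ∈ Submodule.span A (Set.range e))
    (he : ∀ i j, e i * e j ∈ Submodule.span A (Set.range e))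
    {c : C} (hc : c ∈ famSpan γ e) : IsIntegral A c := by
  let C₀ : Subalgebra A C := (famSpan γ e).toSubalgebra (one_mem_famSpan γ h1 e he1)
    (fun _ _ hx hy => mul_mem_famSpan γ hmul e he hx hy)
  refine IsIntegral.of_mem_of_fg C₀ ?_ c hc
  rw [Submodule.toSubalgebra_toSubmodule]
  exact famSpan_fg γ e

end GammaFin

end Groth.Agent.H14Lib.CH
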