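import Mathlib
import Groth.Agent.H14Lib.BCCH

/-!
# A finite criterion for the kernel of the base change of a law on a finite algebra
-/

set_option autoImplicit false
set_option linter.style.haveILetI false
universe u
open scoped TensorProduct

namespace Groth.Agent.H14Lib.BC

open Groth.Agent.H14Lib.CH MvPolynomial

section GenKer

variable {A : Type u} [CommRing A] {B : Type u} [CommRing B] [Algebra A B]
variable {ι : Type} [Fintype ι]

theorem exists_repr_span (e : ι → B) (he : Submodule.span A (Set.range e) = ⊤) {R : Type u}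
    [CommSemiring R] [Algebra A R] (x : R ⊗[A] B) : ∃ s : ι → R, x = ∑ i, s i ⊗ₜ[A] e i := by
  induction x using TensorProduct.induction_on with
  | zero => exact ⟨0, by simp⟩
  | tmul r b =>
    have hb : b ∈ Submodule.span A (Set.range e) := by rw [he]; trivial
    obtain ⟨a, rfl⟩ := (Submodule.mem_span_range_iff_exists_fun A).mp hb
    refine ⟨fun i => a i • r, ?_⟩
    rw [TensorProduct.tmul_sum]
    refine Finset.sum_congr rfl fun i _ => ?_
    rw [TensorProduct.tmul_smul, TensorProduct.smul_tmul']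
  | add x y hx hy =>
    obtain ⟨s, rfl⟩ := hx
    obtain ⟨t, rfl⟩ := hy
    exact ⟨s + t, by simp [TensorProduct.add_tmul, Finset.sum_add_distrib]⟩

variable (A' : Type u) [CommRing A'] [Algebra A A']

/-- the generic element in the first set of variables -/
noncomputable def xg (e : ι → B) : MvPolynomial (ι ⊕ ι) A' ⊗[A] B :=
  ∑ i, (X (Sum.inl i) : MvPolynomial (ι ⊕ ι) A') ⊗ₜ[A] e i

/-- the generic element in the second set of variables -/
noncomputable def wg (e : ι → B) : MvPolynomial (ι ⊕ ι) A' ⊗[A] B :=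
  ∑ i, (X (Sum.inr i) : MvPolynomial (ι ⊕ ι) A') ⊗ₜ[A] e i

/-- the generic defect of an element of `A' ⊗ B` -/
noncomputable def DBC (F : B →ₚₗ[A] A) (e : ι → B) (b' : A' ⊗[A] B) : MvPolynomial (ι ⊕ ι) A' :=
  Algebra.TensorProduct.rid A (MvPolynomial (ι ⊕ ι) A') (MvPolynomial (ι ⊕ ι) A')
    (F.toFun' (MvPolynomial (ι ⊕ ι) A') (xg A' e + wg A' e *
        Algebra.TensorProduct.map (IsScalarTower.toAlgHom A A' (MvPolynomial (ι ⊕ ι) A'))
          (AlgHom.id A B) b')
      - F.toFun' (MvPolynomial (ι ⊕ ι) A') (xg A' e))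

variable {A'}

theorem DBC_map {A'' : Type u} [CommRing A''] [Algebra A A''] (F : B →ₚₗ[A] A) (e : ι → B)
    (ρ : A' →ₐ[A] A'') (b' : A' ⊗[A] B) :
    MvPolynomial.map (ρ : A' →+* A'') (DBC A' F e b') =
      DBC A'' F e (Algebra.TensorProduct.map ρ (AlgHom.id A B) b') := by
  unfold DBC
  have h1 : ∀ p : MvPolynomial (ι ⊕ ι) A', MvPolynomial.map (ρ : A' →+* A'') p =
      MvPolynomial.mapAlgHom ρ p := fun p => rfl
  rw [h1, rid_nat, map_sub, Groth.Agent.S13722.compat, Groth.Agent.S13722.compat, map_add, map_mul]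
  have hx : Algebra.TensorProduct.map (MvPolynomial.mapAlgHom (σ := ι ⊕ ι) ρ) (AlgHom.id A B)
      (xg A' e) = xg A'' e := by
    simp only [xg, map_sum, Algebra.TensorProduct.map_tmul, AlgHom.coe_id, id_eq,
      MvPolynomial.mapAlgHom_apply, MvPolynomial.map_X]
  have hw : Algebra.TensorProduct.map (MvPolynomial.mapAlgHom (σ := ι ⊕ ι) ρ) (AlgHom.id A B)
      (wg A' e) = wg A'' e := by
    simp only [wg, map_sum, Algebra.TensorProduct.map_tmul, AlgHom.coe_id, id_eq,
      MvPolynomial.mapAlgHom_apply, MvPolynomial.map_X]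
  rw [hx, hw, ← AlgHom.comp_apply, ← Algebra.TensorProduct.map_comp,
    ← AlgHom.comp_apply (Algebra.TensorProduct.map
      (IsScalarTower.toAlgHom A A'' (MvPolynomial (ι ⊕ ι) A'')) (AlgHom.id A B)),
    ← Algebra.TensorProduct.map_comp]
  have h3 : (MvPolynomial.mapAlgHom (σ := ι ⊕ ι) ρ).comp
      (IsScalarTower.toAlgHom A A' (MvPolynomial (ι ⊕ ι) A')) =
      (IsScalarTower.toAlgHom A A'' (MvPolynomial (ι ⊕ ι) A'')).comp ρ := by
    refine AlgHom.ext fun a => ?_
    show MvPolynomial.map (ρ : A' →+* A'') (algebraMap A' (MvPolynomial (ι ⊕ ι) A') a) =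
      algebraMap A'' (MvPolynomial (ι ⊕ ι) A'') (ρ a)
    rw [MvPolynomial.algebraMap_eq, MvPolynomial.algebraMap_eq, MvPolynomial.map_C]
    rfl
  rw [h3]

/-- the finite criterion for membership in the kernel of the base change -/
theorem mem_kerBC_iff_DBC (F : B →ₚₗ[A] A) (e : ι → B)
    (he : Submodule.span A (Set.range e) = ⊤) (b' : A' ⊗[A] B) :
    b' ∈ PolLaw.kerBC F A' ↔ DBC A' F e b' = 0 := by
  constructor
  · intro hb'
    unfold DBC
    rw [hb' (MvPolynomial (ι ⊕ ι) A') (xg A' e) (wg A' e), sub_self, map_zero]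
  · intro h
    unfold DBC at h
    rw [map_sub, sub_eq_zero] at h
    have h' := (Algebra.TensorProduct.rid A (MvPolynomial (ι ⊕ ι) A')
      (MvPolynomial (ι ⊕ ι) A')).injective h
    rw [Groth.Agent.S13699.mem_kerBC_iff]
    intro R _ _ _ _ x w
    obtain ⟨s, rfl⟩ := exists_repr_span e he x
    obtain ⟨t, rfl⟩ := exists_repr_span e he w
    let φ : MvPolynomial (ι ⊕ ι) A' →ₐ[A] R :=
      (MvPolynomial.aeval (Sum.elim s t) : MvPolynomial (ι ⊕ ι) A' →ₐ[A'] R).restrictScalars A
    have hφl : ∀ i, φ (X (Sum.inl i)) = s i := fun i => by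
      show MvPolynomial.aeval (Sum.elim s t) (X (Sum.inl i)) = s i
      rw [MvPolynomial.aeval_X]; rfl
    have hφr : ∀ i, φ (X (Sum.inr i)) = t i := fun i => by
      show MvPolynomial.aeval (Sum.elim s t) (X (Sum.inr i)) = t i
      rw [MvPolynomial.aeval_X]; rfl
    have h2 := congrArg (Algebra.TensorProduct.map φ (AlgHom.id A A)) h'
    rw [Groth.Agent.S13722.compat, Groth.Agent.S13722.compat, map_add, map_mul] at h2
    have hx : Algebra.TensorProduct.map φ (AlgHom.id A B) (xg A' e) = ∑ i, s i ⊗ₜ[A] e i := by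
      simp only [xg, map_sum, Algebra.TensorProduct.map_tmul, AlgHom.coe_id, id_eq, hφl]
    have hw : Algebra.TensorProduct.map φ (AlgHom.id A B) (wg A' e) = ∑ i, t i ⊗ₜ[A] e i := by
      simp only [wg, map_sum, Algebra.TensorProduct.map_tmul, AlgHom.coe_id, id_eq, hφr]
    have hb : Algebra.TensorProduct.map φ (AlgHom.id A B)
        (Algebra.TensorProduct.map (IsScalarTower.toAlgHom A A' (MvPolynomial (ι ⊕ ι) A'))
          (AlgHom.id A B) b') =
        Algebra.TensorProduct.map (IsScalarTower.toAlgHom A A' R) (AlgHom.id A B) b' := by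
      rw [← AlgHom.comp_apply, ← Algebra.TensorProduct.map_comp]
      have : φ.comp (IsScalarTower.toAlgHom A A' (MvPolynomial (ι ⊕ ι) A')) =
          IsScalarTower.toAlgHom A A' R := by
        refine AlgHom.ext fun a => ?_
        show MvPolynomial.aeval (Sum.elim s t) (algebraMap A' (MvPolynomial (ι ⊕ ι) A') a) =
          algebraMap A' R a
        rw [AlgHom.commutes]
      rw [this]
      rfl
    rw [hx, hw, hb] at h2
    exact h2

/-- the scaling endomorphism with weights `wt` -/
noncomputable def scaleHom {σ : Type} (wt : σ → A) : MvPolynomial σ A →ₐ[A] MvPolynomial σ A :=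
  MvPolynomial.aeval (fun v => C (wt v) * X v)

theorem scaleHom_monomial {σ : Type} (wt : σ → A) (ν : σ →₀ ℕ) (c : A) :
    scaleHom wt (monomial ν c) = monomial ν (c * ν.prod fun v k => wt v ^ k) := by
  unfold scaleHom
  rw [MvPolynomial.aeval_monomial, MvPolynomial.monomial_eq, MvPolynomial.algebraMap_eq]
  simp only [mul_pow, Finsupp.prod_mul, ← map_pow]
  rw [C_mul, mul_assoc]
  congr 2
  rw [Finsupp.prod, Finsupp.prod, map_prod]

theorem coeff_scaleHom {σ : Type} (wt : σ → A) (p : MvPolynomial σ A) (μ : σ →₀ ℕ) :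
    coeff μ (scaleHom wt p) = coeff μ p * μ.prod fun v k => wt v ^ k := by
  classical
  induction p using MvPolynomial.induction_on' with
  | monomial ν c =>
    rw [scaleHom_monomial, coeff_monomial, coeff_monomial]
    by_cases h : ν = μ
    · subst h; simp
    · simp [h]
  | add p q hp hq => rw [map_add, coeff_add, hp, hq, coeff_add, add_mul]

/-- the weights `1` on the first variables, `s` on the second -/
def wts (s : A) : ι ⊕ ι → A := Sum.elim (fun _ => 1) (fun _ => s)

theorem scale_eq_zero (s : A) (p : MvPolynomial (ι ⊕ ι) A) (hs : s • p = 0)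
    (h0 : scaleHom (wts (ι := ι) 0) p = 0) : scaleHom (wts (ι := ι) s) p = 0 := by
  classical
  ext μ
  rw [coeff_scaleHom, coeff_zero]
  have hsμ : s * coeff μ p = 0 := by
    have := congrArg (coeff μ) hs
    rwa [coeff_smul, coeff_zero, smul_eq_mul] at this
  by_cases hex : ∃ i, μ (Sum.inr i) ≠ 0
  · obtain ⟨i, hi⟩ := hex
    have hdvd : s ∣ μ.prod fun v k => wts (ι := ι) s v ^ k := by
      have h1 : (wts (ι := ι) s (Sum.inr i)) ^ μ (Sum.inr i) ∣
          μ.prod fun v k => wts (ι := ι) s v ^ k :=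
        Finset.dvd_prod_of_mem (fun v => wts (ι := ι) s v ^ μ v) (Finsupp.mem_support_iff.mpr hi)
      exact (dvd_pow_self s hi).trans h1
    obtain ⟨q, hq⟩ := hdvd
    rw [hq, ← mul_assoc, mul_comm (coeff μ p) s, hsμ, zero_mul]
  · have hall : ∀ i, μ (Sum.inr i) = 0 := fun i => by
      by_contra h; exact hex ⟨i, h⟩
    have h1 : (μ.prod fun v k => wts (ι := ι) s v ^ k) = μ.prod fun v k => wts (ι := ι) 0 v ^ k := by
      refine Finset.prod_congr rfl fun v hv => ?_
      rcases v with i | i
      · rfl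
      · exact absurd (hall i) (Finsupp.mem_support_iff.mp hv)
    rw [h1, ← coeff_scaleHom, h0, coeff_zero]

/-- the effect of scaling the element on the generic defect -/
theorem DBC_smul (F : B →ₚₗ[A] A) (e : ι → B) (s : A) (b : B) :
    DBC A F e ((1 : A) ⊗ₜ[A] (s • b)) = scaleHom (wts (ι := ι) s) (DBC A F e ((1 : A) ⊗ₜ[A] b)) := by
  have hx : Algebra.TensorProduct.map (scaleHom (wts (ι := ι) s)) (AlgHom.id A B) (xg A e) =
      xg A e := by
    simp only [xg, map_sum, Algebra.TensorProduct.map_tmul, AlgHom.coe_id, id_eq]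
    refine Finset.sum_congr rfl fun i _ => ?_
    congr 1
    simp [scaleHom, wts]
  have hw : Algebra.TensorProduct.map (scaleHom (wts (ι := ι) s)) (AlgHom.id A B) (wg A e) =
      s • wg A e := by
    simp only [wg, map_sum, Algebra.TensorProduct.map_tmul, AlgHom.coe_id, id_eq, Finset.smul_sum]
    refine Finset.sum_congr rfl fun i _ => ?_
    rw [TensorProduct.smul_tmul']
    congr 1
    simp [scaleHom, wts, MvPolynomial.smul_eq_C_mul]
  have key : wg A e * Algebra.TensorProduct.map
        (IsScalarTower.toAlgHom A A (MvPolynomial (ι ⊕ ι) A)) (AlgHom.id A B)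
        ((1 : A) ⊗ₜ[A] (s • b)) =
      s • wg A e * Algebra.TensorProduct.map (scaleHom (wts (ι := ι) s)) (AlgHom.id A B)
        (Algebra.TensorProduct.map (IsScalarTower.toAlgHom A A (MvPolynomial (ι ⊕ ι) A))
          (AlgHom.id A B) ((1 : A) ⊗ₜ[A] b)) := by
    simp only [Algebra.TensorProduct.map_tmul, map_one, AlgHom.coe_id, id_eq]
    rw [TensorProduct.tmul_smul, smul_mul_assoc, mul_smul_comm]
  unfold DBC
  rw [rid_nat]
  simp only [map_sub]
  rw [Groth.Agent.S13722.compat, Groth.Agent.S13722.compat, map_add, map_mul, hx, hw, key]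

end GenKer

end Groth.Agent.H14Lib.BC
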