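import Mathlib

set_option autoImplicit false

namespace Groth.Agent.H14Lib.Hopf

open MvPolynomial

noncomputable def segre (k : Type*) [Field k] (m n : ℕ) :
    MvPolynomial (Fin m × Fin n) k →ₐ[k] MvPolynomial (Fin m ⊕ Fin n) k :=
  aeval (fun ij => X (Sum.inl ij.1) * X (Sum.inr ij.2))

open Classical in
noncomputable def ev (k : Type*) [Field k] (m n : ℕ) (S : Set (Fin m ⊕ Fin n)) :
    MvPolynomial (Fin m ⊕ Fin n) k →ₐ[k] MvPolynomial (Fin m ⊕ Fin n) k :=
  aeval (fun v => if v ∈ S then 0 else X v)

open Classical in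
theorem ev_X (k : Type*) [Field k] (m n : ℕ) (S : Set (Fin m ⊕ Fin n)) (v : Fin m ⊕ Fin n) :
    ev k m n S (X v) = if v ∈ S then 0 else X v := by
  simp [ev]

theorem ev_comp (k : Type*) [Field k] (m n : ℕ) {S S' : Set (Fin m ⊕ Fin n)} (h : S ⊆ S')
    (f : MvPolynomial (Fin m ⊕ Fin n) k) : ev k m n S' (ev k m n S f) = ev k m n S' f := by
  classical
  have : (ev k m n S').comp (ev k m n S) = ev k m n S' := by
    apply MvPolynomial.algHom_ext
    intro v
    simp only [AlgHom.comp_apply, ev_X]
    by_cases hv : v ∈ S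
    · simp [hv, h hv]
    · simp [hv, ev_X]
  exact congrArg (fun g => g f) this

theorem hopf_core {k : Type*} [Field k] [IsAlgClosed k] (m n r : ℕ) (hm : 0 < m) (hn : 0 < n)
    (c : Fin r → Fin m → Fin n → k) (hr : r + 2 ≤ m + n) :
    ∃ (x : Fin m → k) (y : Fin n → k), x ≠ 0 ∧ y ≠ 0 ∧
      ∀ l, ∑ i, ∑ j, c l i j * x i * y j = 0 := by
  classical
  by_contra H
  push Not at H
  let π := segre k m n
  let T := π.range
  let πT : MvPolynomial (Fin m × Fin n) k →ₐ[k] T := π.rangeRestrict
  have hπT : Function.Surjective πT := π.rangeRestrict_surjective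
  haveI : Algebra.FiniteType k T := Algebra.FiniteType.of_surjective πT hπT
  haveI : IsNoetherianRing T := Algebra.FiniteType.isNoetherianRing k T
  let z : Fin m → Fin n → T := fun i j => πT (X (i, j))
  have hz : ∀ i j, ((z i j : T) : MvPolynomial (Fin m ⊕ Fin n) k) = X (Sum.inl i) * X (Sum.inr j) := by
    intro i j
    show (π (X (i, j)) : MvPolynomial (Fin m ⊕ Fin n) k) = _
    simp [π, segre]
  let p : Set (Fin m ⊕ Fin n) → Ideal T := fun S => RingHom.ker ((ev k m n S).comp T.val)
  have hp_prime : ∀ S, (p S).IsPrime := fun S => RingHom.ker_isPrime _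
  have hp_mem : ∀ S (t : T), t ∈ p S ↔ ev k m n S (t : MvPolynomial (Fin m ⊕ Fin n) k) = 0 := by
    intro S t
    simp [p, RingHom.mem_ker]
  have hp_mono : ∀ S S', S ⊆ S' → p S ≤ p S' := by
    intro S S' hSS' t ht
    rw [hp_mem] at ht ⊢
    rw [← ev_comp k m n hSS', ht, map_zero]
  have hz_mem : ∀ S i j, (Sum.inl i ∈ S ∨ Sum.inr j ∈ S) → z i j ∈ p S := by
    intro S i j h
    rw [hp_mem, hz, map_mul, ev_X, ev_X]
    rcases h with h | h
    · simp [h]
    · simp [h]
  have hz_nmem : ∀ S i j, Sum.inl i ∉ S → Sum.inr j ∉ S → z i j ∉ p S := by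
    intro S i j h1 h2
    rw [hp_mem, hz, map_mul, ev_X, ev_X, if_neg h1, if_neg h2]
    exact mul_ne_zero (X_ne_zero _) (X_ne_zero _)
  let St : ℕ → Set (Fin m ⊕ Fin n) := fun t =>
    {v | Sum.elim (fun i : Fin m => (i : ℕ) < min t (m - 1)) (fun j : Fin n => (j : ℕ) + (m - 1) < t) v}
  have hSt_l : ∀ t (i : Fin m), Sum.inl i ∈ St t ↔ (i : ℕ) < min t (m - 1) := fun t i => Iff.rfl
  have hSt_r : ∀ t (j : Fin n), Sum.inr j ∈ St t ↔ (j : ℕ) + (m - 1) < t := fun t j => Iff.rfl
  have hht : ∀ t, t ≤ m + n - 1 → (t : ℕ∞) ≤ (p (St t)).height := by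
    intro t
    induction t with
    | zero => intro _; simp
    | succ t ih =>
      intro ht
      have h1 := ih (by omega)
      have hlt : p (St t) < p (St (t + 1)) := by
        refine lt_of_le_of_ne (hp_mono _ _ ?_) ?_
        · rintro (i | j) hv
          · rw [hSt_l] at hv ⊢; omega
          · rw [hSt_r] at hv ⊢; omega
        · intro heq
          by_cases htm : t < m - 1
          · have hw : z ⟨t, by omega⟩ ⟨n - 1, by omega⟩ ∈ p (St (t + 1)) :=
              hz_mem _ _ _ (Or.inl (by rw [hSt_l]; simp only []; omega))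
            rw [← heq] at hw
            exact hz_nmem _ _ _ (by rw [hSt_l]; simp only []; omega)
              (by rw [hSt_r]; simp only []; omega) hw
          · have hw : z ⟨m - 1, by omega⟩ ⟨t - (m - 1), by omega⟩ ∈ p (St (t + 1)) :=
              hz_mem _ _ _ (Or.inr (by rw [hSt_r]; simp only []; omega))
            rw [← heq] at hw
            exact hz_nmem _ _ _ (by rw [hSt_l]; simp only []; omega)
              (by rw [hSt_r]; simp only []; omega) hw
      haveI := hp_prime (St t)
      haveI := hp_prime (St (t + 1))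
      have h2 := Ideal.height_add_one_le_of_lt_of_isPrime hlt
      calc ((t + 1 : ℕ) : ℕ∞) = (t : ℕ∞) + 1 := by push_cast; rfl
        _ ≤ (p (St t)).height + 1 := by gcongr
        _ ≤ _ := h2
  set M : Ideal T := p (St (m + n - 1)) with hM
  haveI hMprime : M.IsPrime := hp_prime _
  have hzM : ∀ i j, z i j ∈ M := by
    intro i j
    refine hz_mem _ _ _ (Or.inr ?_)
    rw [hSt_r]
    have := j.2
    omega
  -- the forms
  let Ft : Fin r → MvPolynomial (Fin m × Fin n) k := fun l => ∑ i, ∑ j, C (c l i j) * X (i, j)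
  let F : Fin r → T := fun l => πT (Ft l)
  let s : Finset T := Finset.image F Finset.univ
  have hs_card : s.card ≤ r := by
    have := Finset.card_image_le (s := (Finset.univ : Finset (Fin r))) (f := F)
    simpa using this
  have hFM : ∀ l, F l ∈ M := by
    intro l
    have : F l = ∑ i, ∑ j, (algebraMap k T (c l i j)) * z i j := by
      simp only [F, Ft, z, map_sum, map_mul]
      refine Finset.sum_congr rfl fun i _ => Finset.sum_congr rfl fun j _ => ?_
      congr 1
      exact AlgHom.commutes πT _
    rw [this]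
    exact Ideal.sum_mem _ fun i _ => Ideal.sum_mem _ fun j _ => Ideal.mul_mem_left _ _ (hzM i j)
  have hJM : Ideal.span (s : Set T) ≤ M := by
    rw [Ideal.span_le]
    intro t ht
    obtain ⟨l, -, rfl⟩ := Finset.mem_image.1 ht
    exact hFM l
  -- M is generated by the z i j
  have hMle : ∀ P : Ideal T, (∀ i j, z i j ∈ P) → M ≤ P := by
    intro P hP t ht
    obtain ⟨g, rfl⟩ := hπT t
    rw [hM, hp_mem] at ht
    have hcomp : ∀ g : MvPolynomial (Fin m × Fin n) k,
        ev k m n (St (m + n - 1)) ((πT g : T) : MvPolynomial (Fin m ⊕ Fin n) k) = C (constantCoeff g) := by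
      intro g
      show ev k m n (St (m + n - 1)) (π g) = C (constantCoeff g)
      induction g using MvPolynomial.induction_on with
      | C a => simp [π, segre, ev]
      | add f g hf hg => rw [map_add, map_add, hf, hg, map_add, map_add]
      | mul_X f ij hf =>
        rw [map_mul, map_mul, map_mul, constantCoeff_X, mul_zero, map_zero]
        have : ev k m n (St (m + n - 1)) (π (X ij)) = 0 := by
          have h1 := hzM ij.1 ij.2
          rw [hM, hp_mem] at h1
          exact h1
        rw [this, mul_zero]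
    rw [hcomp] at ht
    have hcc : constantCoeff g = 0 := by
      have := C_injective (Fin m ⊕ Fin n) k (ht.trans (C_0).symm)
      exact this
    have hg : g ∈ Ideal.span (MvPolynomial.X '' (Set.univ : Set (Fin m × Fin n)) : Set (MvPolynomial (Fin m × Fin n) k)) := by
      rw [mem_ideal_span_X_image]
      intro mon hmon
      have hne : mon ≠ 0 := by
        rintro rfl
        rw [mem_support_iff] at hmon
        exact hmon hcc
      obtain ⟨i, hi⟩ := Finsupp.ne_iff.1 hne
      exact ⟨i, Set.mem_univ _, by simpa using hi⟩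
    have h2 : πT g ∈ Ideal.map πT (Ideal.span (MvPolynomial.X '' (Set.univ : Set (Fin m × Fin n)))) :=
      Ideal.mem_map_of_mem _ hg
    rw [Ideal.map_span] at h2
    refine (Ideal.span_le.2 ?_) h2
    rintro _ ⟨_, ⟨ij, -, rfl⟩, rfl⟩
    exact hP ij.1 ij.2
  have hmin : M ∈ (Ideal.span (s : Set T)).minimalPrimes := by
    refine ⟨⟨hMprime, hJM⟩, ?_⟩
    rintro P ⟨hPprime, hJP⟩ hPM
    apply hMle
    let P' : Ideal (MvPolynomial (Fin m × Fin n) k) := Ideal.comap πT P
    haveI : P'.IsPrime := Ideal.comap_isPrime _ _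
    have hNS := MvPolynomial.IsPrime.vanishingIdeal_zeroLocus (K := k) P'
    intro i j
    have : X (i, j) ∈ P' := by
      rw [← hNS, mem_vanishingIdeal_iff]
      intro pt hpt
      rw [mem_zeroLocus_iff] at hpt
      by_contra hne
      rw [aeval_X] at hne
      have hminor : ∀ i' j', pt (i', j) * pt (i, j') = pt (i', j') * pt (i, j) := by
        intro i' j'
        have hmem : X (i', j) * X (i, j') - X (i', j') * X (i, j) ∈ P' := by
          show πT (_) ∈ P
          have : πT (X (i', j) * X (i, j') - X (i', j') * X (i, j)) = 0 := by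
            apply Subtype.ext
            show π _ = 0
            simp only [π, segre, map_sub, map_mul, aeval_X]
            ring
          rw [this]; exact P.zero_mem
        have := hpt _ hmem
        simpa [sub_eq_zero] using this
      let x : Fin m → k := fun i' => pt (i', j)
      let y : Fin n → k := fun j' => pt (i, j') / pt (i, j)
      have hx : x ≠ 0 := fun h => hne (congrFun h i)
      have hy : y ≠ 0 := fun h => by
        have := congrFun h j
        simp [y, hne] at this
      obtain ⟨l, hl⟩ := H x y hx hy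
      apply hl
      have hFl : Ft l ∈ P' :=
        hJP (Ideal.subset_span (Finset.mem_coe.2 (Finset.mem_image.2 ⟨l, Finset.mem_univ _, rfl⟩)))
      have := hpt _ hFl
      simp only [Ft, map_sum, map_mul, aeval_C, aeval_X] at this
      rw [← this]
      refine Finset.sum_congr rfl fun i' _ => Finset.sum_congr rfl fun j' _ => ?_
      simp only [x, y]
      rw [mul_assoc, mul_div_assoc', hminor, mul_div_assoc, div_self hne, mul_one]
      simp
    exact this
  have h1 := Ideal.height_le_card_of_mem_minimalPrimes_span_finset hmin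
  have h2 := hht (m + n - 1) le_rfl
  have h3 : ((m + n - 1 : ℕ) : ℕ∞) ≤ (s.card : ℕ∞) := h2.trans h1
  have h4 : m + n - 1 ≤ s.card := by exact_mod_cast h3
  omega

theorem hopf_bilinear {k : Type*} [Field k] [IsAlgClosed k] {U V W : Type*}
    [AddCommGroup U] [Module k U] [AddCommGroup V] [Module k V] [AddCommGroup W] [Module k W]
    [Module.Finite k U] [Module.Finite k V] [Module.Finite k W] [Nontrivial U] [Nontrivial V]
    (φ : U →ₗ[k] V →ₗ[k] W) (hφ : ∀ (a : U) (b : V), a ≠ 0 → b ≠ 0 → φ a b ≠ 0) :
    Module.finrank k U + Module.finrank k V ≤ Module.finrank k W + 1 := by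
  by_contra hlt
  push Not at hlt
  have hm : 0 < Module.finrank k U := Module.finrank_pos
  have hn : 0 < Module.finrank k V := Module.finrank_pos
  let bU := Module.finBasis k U
  let bV := Module.finBasis k V
  let bW := Module.finBasis k W
  obtain ⟨x, y, hx, hy, hxy⟩ := hopf_core (k := k) (Module.finrank k U) (Module.finrank k V)
    (Module.finrank k W) hm hn (fun l i j => bW.repr (φ (bU i) (bV j)) l) (by omega)
  let a : U := ∑ i, x i • bU i
  let b : V := ∑ j, y j • bV j
  have ha : a ≠ 0 := by
    intro h0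
    apply hx
    funext i
    exact Fintype.linearIndependent_iff.1 bU.linearIndependent x h0 i
  have hb : b ≠ 0 := by
    intro h0
    apply hy
    funext j
    exact Fintype.linearIndependent_iff.1 bV.linearIndependent y h0 j
  apply hφ a b ha hb
  apply bW.ext_elem
  intro l
  have hexp : φ a b = ∑ i, ∑ j, x i • y j • φ (bU i) (bV j) := by
    simp only [a, b, map_sum, map_smul, LinearMap.sum_apply, LinearMap.smul_apply]
    rw [Finset.sum_comm]
    refine Finset.sum_congr rfl fun i _ => ?_
    rw [Finset.smul_sum]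
    refine Finset.sum_congr rfl fun j _ => ?_
    rw [smul_comm]
  rw [hexp, map_zero, Finsupp.coe_zero, Pi.zero_apply]
  simp only [map_sum, map_smul, Finsupp.coe_finsetSum, Finsupp.coe_smul, Finset.sum_apply,
    Pi.smul_apply, smul_eq_mul]
  rw [← hxy l]
  refine Finset.sum_congr rfl fun i _ => ?_
  refine Finset.sum_congr rfl fun j _ => ?_
  ring

end Groth.Agent.H14Lib.Hopf
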