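import Mathlib
import Groth.Agent.H14Lib.GammaGen

/-!
# The quotient of a polynomial law by an ideal contained in its kernel
-/

set_option autoImplicit false
universe u
open scoped TensorProduct

namespace Groth.Agent.H14Lib.CH

open MvPolynomial

section QuotLaw

variable {A : Type u} [CommRing A] {B : Type u} [CommRing B] [Algebra A B]
  {C : Type u} [CommRing C] [Algebra A C]

/-- adding an element coming from `S ⊗ I`, `I ≤ ker F`, does not change the value -/
theorem toFun'_add_of_le_ker (F : B →ₚₗ[A] C) (I : Ideal B) (hI : I ≤ PolLaw.ker F)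
    (S : Type u) [CommSemiring S] [Algebra A S] (z : S ⊗[A] (I.restrictScalars A)) :
    ∀ x : S ⊗[A] B,
      F.toFun' S (x + (I.restrictScalars A).subtype.lTensor S z) = F.toFun' S x := by
  induction z using TensorProduct.induction_on with
  | zero => intro x; simp
  | tmul s i =>
    intro x
    have := hI i.2 S x (s ⊗ₜ[A] 1)
    rw [Algebra.TensorProduct.tmul_mul_tmul, mul_one, one_mul] at this
    exact this
  | add z1 z2 h1 h2 =>
    intro x
    rw [map_add, ← add_assoc, h2, h1]

theorem mk_exact (I : Ideal B) :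
    Function.Exact (I.restrictScalars A).subtype (Ideal.Quotient.mkₐ A I).toLinearMap := by
  intro b
  constructor
  · intro hb
    exact ⟨⟨b, Ideal.Quotient.eq_zero_iff_mem.mp hb⟩, rfl⟩
  · rintro ⟨i, rfl⟩
    exact Ideal.Quotient.eq_zero_iff_mem.mpr i.2

theorem toFun'_eq_of_mk_eq (F : B →ₚₗ[A] C) (I : Ideal B) (hI : I ≤ PolLaw.ker F)
    (S : Type u) [CommRing S] [Algebra A S] (x x' : S ⊗[A] B)
    (h : (Ideal.Quotient.mkₐ A I).toLinearMap.lTensor S x =
      (Ideal.Quotient.mkₐ A I).toLinearMap.lTensor S x') :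
    F.toFun' S x = F.toFun' S x' := by
  have hsurj : Function.Surjective (Ideal.Quotient.mkₐ A I).toLinearMap :=
    Ideal.Quotient.mkₐ_surjective A I
  have hex := lTensor_exact S (mk_exact (A := A) I) hsurj
  have h0 : (Ideal.Quotient.mkₐ A I).toLinearMap.lTensor S (x' - x) = 0 := by
    rw [map_sub, h, sub_self]
  obtain ⟨z, hz⟩ := (hex (x' - x)).mp h0
  have : x' = x + (I.restrictScalars A).subtype.lTensor S z := by rw [hz]; abel
  rw [this, toFun'_add_of_le_ker F I hI]

/-- the quotient law -/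
theorem exists_quotLaw (F : B →ₚₗ[A] C) (I : Ideal B) (hI : I ≤ PolLaw.ker F) :
    ∃ Fbar : (B ⧸ I) →ₚₗ[A] C, ∀ (S : Type u) [CommSemiring S] [Algebra A S] (x : S ⊗[A] B),
      Fbar.toFun' S ((Ideal.Quotient.mkₐ A I).toLinearMap.lTensor S x) = F.toFun' S x := by
  classical
  set π := (Ideal.Quotient.mkₐ A I).toLinearMap with hπ
  have hsurj : ∀ (S : Type u) [CommSemiring S] [Algebra A S],
      Function.Surjective (π.lTensor S) :=
    fun S _ _ => LinearMap.lTensor_surjective S (Ideal.Quotient.mkₐ_surjective A I)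
  let T : ∀ n : ℕ, MvPolynomial (Fin n) A ⊗[A] (B ⧸ I) → MvPolynomial (Fin n) A ⊗[A] C :=
    fun n y => F.toFun' _ (Function.surjInv (hsurj (MvPolynomial (Fin n) A)) y)
  have hTspec : ∀ n (x : MvPolynomial (Fin n) A ⊗[A] B), T n (π.lTensor _ x) = F.toFun' _ x := by
    intro n x
    apply toFun'_eq_of_mk_eq F I hI
    exact Function.surjInv_eq (hsurj _) _
  have hT : ∀ (n m : ℕ) (φ : MvPolynomial (Fin n) A →ₐ[A] MvPolynomial (Fin m) A),
      φ.toLinearMap.rTensor C ∘ T n = T m ∘ φ.toLinearMap.rTensor (B ⧸ I) := by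
    intro n m φ
    funext y
    obtain ⟨x, rfl⟩ := hsurj (MvPolynomial (Fin n) A) y
    simp only [Function.comp_apply]
    rw [hTspec, ← LinearMap.comp_apply (φ.toLinearMap.rTensor _), LinearMap.rTensor_comp_lTensor,
      ← LinearMap.lTensor_comp_rTensor, LinearMap.comp_apply, hTspec]
    exact (PolynomialLaw.isCompat_apply' φ x)
  obtain ⟨Fbar, hFbar⟩ := (Groth.Agent.S13174.result (A := A) (M := B ⧸ I) (N := C)).2 ⟨T, hT⟩
  have hn : ∀ n, Fbar.toFun' (MvPolynomial (Fin n) A) = T n := fun n =>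
    congr_fun (congrArg Subtype.val hFbar) n
  have hpre : PolLaw.precomp Fbar π = F := by
    apply (Groth.Agent.S13174.result (A := A) (M := B) (N := C)).1
    apply Subtype.ext
    funext n x
    show Fbar.toFun' _ (π.lTensor _ x) = F.toFun' _ x
    rw [hn, hTspec]
  refine ⟨Fbar, fun S _ _ x => ?_⟩
  have := congrArg (fun G : B →ₚₗ[A] C => G.toFun' S x) hpre
  exact this

/-- the quotient of a multiplicative law -/
theorem exists_quotMulLaw {d : ℕ} (F : PolLaw.MulLaw A B C d) (I : Ideal B)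
    (hI : I ≤ PolLaw.ker F.law) :
    ∃ Fbar : PolLaw.MulLaw A (B ⧸ I) C d,
      ∀ (S : Type u) [CommSemiring S] [Algebra A S] (x : S ⊗[A] B),
        Fbar.law.toFun' S ((Ideal.Quotient.mkₐ A I).toLinearMap.lTensor S x) =
          F.law.toFun' S x := by
  obtain ⟨G, hG⟩ := exists_quotLaw F.law I hI
  have hsurj : ∀ (S : Type u) [CommSemiring S] [Algebra A S],
      Function.Surjective ((Ideal.Quotient.mkₐ A I).toLinearMap.lTensor S) :=
    fun S _ _ => LinearMap.lTensor_surjective S (Ideal.Quotient.mkₐ_surjective A I)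
  refine ⟨⟨G, ?_, ?_⟩, hG⟩
  · intro S _ _ s y
    obtain ⟨x, rfl⟩ := hsurj S y
    rw [← lTensor_smul'', hG, hG, F.homog]
  · intro S _ _
    constructor
    · have h1 : (1 : S ⊗[A] (B ⧸ I)) = (Ideal.Quotient.mkₐ A I).toLinearMap.lTensor S 1 := by
        rw [PolLaw.lTensor_algHom_apply, map_one]
      rw [h1, hG, (F.mult S).1]
    · intro y y'
      obtain ⟨x, rfl⟩ := hsurj S y
      obtain ⟨x', rfl⟩ := hsurj S y'
      have h2 : (Ideal.Quotient.mkₐ A I).toLinearMap.lTensor S x *
          (Ideal.Quotient.mkₐ A I).toLinearMap.lTensor S x' =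
          (Ideal.Quotient.mkₐ A I).toLinearMap.lTensor S (x * x') := by
        rw [PolLaw.lTensor_algHom_apply, PolLaw.lTensor_algHom_apply,
          PolLaw.lTensor_algHom_apply, map_mul]
      rw [h2, hG, hG, hG, (F.mult S).2]

/-- the quotient by the kernel has trivial kernel -/
theorem ker_quot_eq_bot (F : B →ₚₗ[A] C) (Fbar : (B ⧸ PolLaw.ker F) →ₚₗ[A] C)
    (h : ∀ (S : Type u) [CommSemiring S] [Algebra A S] (x : S ⊗[A] B),
      Fbar.toFun' S ((Ideal.Quotient.mkₐ A (PolLaw.ker F)).toLinearMap.lTensor S x) =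
        F.toFun' S x) :
    PolLaw.ker Fbar = ⊥ := by
  rw [eq_bot_iff]
  intro y hy
  obtain ⟨b, rfl⟩ := Ideal.Quotient.mk_surjective y
  rw [Ideal.mem_bot, Ideal.Quotient.eq_zero_iff_mem]
  intro S _ _ x w
  rw [← h, ← h, map_add, PolLaw.lTensor_algHom_apply, PolLaw.lTensor_algHom_apply, map_mul,
    Algebra.TensorProduct.map_tmul]
  exact hy S _ _

end QuotLaw

end Groth.Agent.H14Lib.CH
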