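import Mathlib
import Groth.Agent.H14Lib.Quot
import Groth.Agent.S13719

/-!
# Degrees of idempotents with respect to a multiplicative law over a connected base
-/

set_option autoImplicit false
universe u
open scoped TensorProduct

namespace Groth.Agent.H14Lib.CH

open Polynomial

section Idem

variable {A : Type u} [CommRing A] [ConnectedSpace (PrimeSpectrum A)]
  {B : Type u} [CommRing B] [Algebra A B] {d : ℕ}

theorem idem_aux {e : B} (he : IsIdempotentElem e) : e + (1 - e) = 1 ∧ e * (1 - e) = 0 :=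
  ⟨by ring, by rw [mul_sub, mul_one, he.eq, sub_self]⟩

open Classical in
/-- the degree of an idempotent with respect to a multiplicative law -/
noncomputable def ideg (G : PolLaw.MulLaw A B A d) (e : B) : ℕ :=
  if he : IsIdempotentElem e then
    (Groth.Agent.S13719.idem_law G e (1 - e) (idem_aux he).1 (idem_aux he).2).choose
  else 0

theorem ideg_spec (G : PolLaw.MulLaw A B A d) {e : B} (he : IsIdempotentElem e)
    (S : Type u) [CommSemiring S] [Algebra A S] (s : S) :
    G.law.toFun' S (s ⊗ₜ[A] e + 1 ⊗ₜ[A] (1 - e)) = (s ^ ideg G e) ⊗ₜ[A] (1 : A) := by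
  rw [ideg, dif_pos he]
  exact (Groth.Agent.S13719.idem_law G e (1 - e) (idem_aux he).1 (idem_aux he).2).choose_spec S s

theorem ideg_unique (G : PolLaw.MulLaw A B A d) {e : B} (he : IsIdempotentElem e) (k : ℕ)
    (hk : G.law.toFun' A[X] ((X : A[X]) ⊗ₜ[A] e + 1 ⊗ₜ[A] (1 - e)) = (X ^ k) ⊗ₜ[A] (1 : A)) :
    ideg G e = k := by
  haveI : Nontrivial A := PrimeSpectrum.nonempty_iff_nontrivial.mp inferInstance
  have h : ((X : A[X]) ^ ideg G e) ⊗ₜ[A] (1 : A) = ((X : A[X]) ^ k) ⊗ₜ[A] (1 : A) := by
    rw [← hk, ideg_spec G he]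
  exact Groth.Agent.S13719.X_pow_tmul_inj h

theorem idem_add {e f : B} (he : IsIdempotentElem e) (hf : IsIdempotentElem f) (hef : e * f = 0) :
    IsIdempotentElem (e + f) := by
  unfold IsIdempotentElem
  calc (e + f) * (e + f) = e * e + f * f + 2 * (e * f) := by ring
    _ = e + f := by rw [he.eq, hf.eq, hef]; ring

theorem ideg_add (G : PolLaw.MulLaw A B A d) {e f : B} (he : IsIdempotentElem e)
    (hf : IsIdempotentElem f) (hef : e * f = 0) :
    ideg G (e + f) = ideg G e + ideg G f := by
  apply ideg_unique G (idem_add he hf hef)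
  have h1 : e * (1 - f) = e := by rw [mul_sub, mul_one, hef, sub_zero]
  have h2 : (1 - e) * f = f := by rw [sub_mul, one_mul, hef, sub_zero]
  have h3 : (1 - e) * (1 - f) = 1 - (e + f) := by
    calc (1 - e) * (1 - f) = 1 - (e + f) + e * f := by ring
      _ = 1 - (e + f) := by rw [hef, add_zero]
  have hprod : ((X : A[X]) ⊗ₜ[A] e + 1 ⊗ₜ[A] (1 - e)) * ((X : A[X]) ⊗ₜ[A] f + 1 ⊗ₜ[A] (1 - f)) =
      (X : A[X]) ⊗ₜ[A] (e + f) + 1 ⊗ₜ[A] (1 - (e + f)) := by
    rw [add_mul, mul_add, mul_add, Algebra.TensorProduct.tmul_mul_tmul,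
      Algebra.TensorProduct.tmul_mul_tmul, Algebra.TensorProduct.tmul_mul_tmul,
      Algebra.TensorProduct.tmul_mul_tmul, hef, h1, h2, h3, TensorProduct.tmul_zero, zero_add,
      mul_one, one_mul, one_mul, TensorProduct.tmul_add]
    abel
  rw [← hprod, (G.mult _).2, ideg_spec G he, ideg_spec G hf, Algebra.TensorProduct.tmul_mul_tmul,
    mul_one, pow_add]

theorem ideg_add_compl (G : PolLaw.MulLaw A B A d) {e : B} (he : IsIdempotentElem e) :
    ideg G e + ideg G (1 - e) = d := by
  haveI : Nontrivial A := PrimeSpectrum.nonempty_iff_nontrivial.mp inferInstance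
  have he' : IsIdempotentElem (1 - e) := he.one_sub
  have h0 : e * (1 - e) = 0 := (idem_aux he).2
  have h0' : (1 - e) * e = 0 := by rw [mul_comm]; exact h0
  have hprod : ((X : A[X]) ⊗ₜ[A] e + 1 ⊗ₜ[A] (1 - e)) *
      ((X : A[X]) ⊗ₜ[A] (1 - e) + 1 ⊗ₜ[A] (1 - (1 - e))) = (X : A[X]) • (1 : A[X] ⊗[A] B) := by
    rw [sub_sub_cancel, add_mul, mul_add, mul_add, Algebra.TensorProduct.tmul_mul_tmul,
      Algebra.TensorProduct.tmul_mul_tmul, Algebra.TensorProduct.tmul_mul_tmul,
      Algebra.TensorProduct.tmul_mul_tmul, h0, h0', he.eq, he'.eq, TensorProduct.tmul_zero,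
      TensorProduct.tmul_zero, zero_add, add_zero, mul_one, one_mul, ← TensorProduct.tmul_add,
      add_sub_cancel, Algebra.TensorProduct.one_def, TensorProduct.smul_tmul', smul_eq_mul,
      mul_one]
  have h := congrArg (G.law.toFun' A[X]) hprod
  rw [(G.mult _).2, ideg_spec G he, ideg_spec G he', G.homog, (G.mult _).1,
    Algebra.TensorProduct.tmul_mul_tmul, mul_one, Algebra.TensorProduct.one_def,
    TensorProduct.smul_tmul', smul_eq_mul, mul_one, ← pow_add] at h
  exact Groth.Agent.S13719.X_pow_tmul_inj h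

theorem ideg_le (G : PolLaw.MulLaw A B A d) {e : B} (he : IsIdempotentElem e) : ideg G e ≤ d := by
  have := ideg_add_compl G he
  omega

/-- an idempotent of degree zero lies in the kernel -/
theorem mem_ker_of_ideg_eq_zero (G : PolLaw.MulLaw A B A d) {e : B} (he : IsIdempotentElem e)
    (h0 : ideg G e = 0) : e ∈ PolLaw.ker G.law := by
  intro S _ _ x w
  set E : S ⊗[A] B := 1 ⊗ₜ[A] e with hE
  set E' : S ⊗[A] B := 1 ⊗ₜ[A] (1 - e) with hE'
  have hEE : E * E = E := by
    rw [hE, Algebra.TensorProduct.tmul_mul_tmul, he.eq, mul_one]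
  have hE'E' : E' * E' = E' := by
    rw [hE', Algebra.TensorProduct.tmul_mul_tmul, he.one_sub.eq, mul_one]
  have hEE' : E * E' = 0 := by
    rw [hE, hE', Algebra.TensorProduct.tmul_mul_tmul, (idem_aux he).2, TensorProduct.tmul_zero]
  have hE'E : E' * E = 0 := by rw [mul_comm]; exact hEE'
  have hsum : E + E' = 1 := by
    rw [hE, hE', ← TensorProduct.tmul_add, (idem_aux he).1, Algebra.TensorProduct.one_def]
  have key : ∀ u v : S ⊗[A] B, (u * E + E') * (E + v * E') = u * E + v * E' := by
    intro u v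
    rw [add_mul, mul_add, mul_add, mul_assoc u E E, hEE, mul_mul_mul_comm u E v E', hEE',
      mul_zero, hE'E, mul_left_comm E' v E', hE'E']
    abel
  -- the corner law is constant
  have hFE' : G.law.toFun' S E' = 1 := by
    have := ideg_spec G he S (0 : S)
    rw [h0, pow_zero, TensorProduct.zero_tmul, zero_add] at this
    rw [this, Algebra.TensorProduct.one_def]
  have hcorner : ∀ z : S ⊗[A] B, G.law.toFun' S (z * E + E') = 1 := by
    intro z
    have h1 : E' * (z * E + E') = E' := by
      rw [mul_add, mul_left_comm, hE'E, mul_zero, zero_add, hE'E']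
    have h2 := (G.mult S).2 E' (z * E + E')
    rw [h1, hFE', one_mul] at h2
    exact h2.symm
  have e1 : x + w * E = ((x + w) * E + E') * (E + x * E') := by
    rw [key, add_mul, add_right_comm, ← mul_add, hsum, mul_one]
  have e2 : x = (x * E + E') * (E + x * E') := by
    rw [key, ← mul_add, hsum, mul_one]
  calc G.law.toFun' S (x + w * E) = G.law.toFun' S (E + x * E') := by
        rw [e1, (G.mult S).2, hcorner, one_mul]
    _ = G.law.toFun' S x := by
        conv_rhs => rw [e2]
        rw [(G.mult S).2, hcorner, one_mul]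

/-- at most `d` pairwise orthogonal idempotents outside the kernel -/
theorem card_le_of_orthogonal_idempotents (G : PolLaw.MulLaw A B A d) {n : ℕ} (e : Fin n → B)
    (he : ∀ i, IsIdempotentElem (e i)) (horth : ∀ i j, i ≠ j → e i * e j = 0)
    (hne : ∀ i, e i ∉ PolLaw.ker G.law) : n ≤ d := by
  classical
  have hP : ∀ T : Finset (Fin n), IsIdempotentElem (∑ i ∈ T, e i) ∧
      ideg G (∑ i ∈ T, e i) = ∑ i ∈ T, ideg G (e i) := by
    intro T
    induction T using Finset.induction_on with
    | empty =>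
      refine ⟨by simp [IsIdempotentElem], ?_⟩
      rw [Finset.sum_empty, Finset.sum_empty]
      have h0 : IsIdempotentElem (0 : B) := by simp [IsIdempotentElem]
      have := ideg_add G h0 h0 (mul_zero 0)
      rw [add_zero] at this
      omega
    | insert a T ha ih =>
      have hz : e a * ∑ i ∈ T, e i = 0 := by
        rw [Finset.mul_sum]
        refine Finset.sum_eq_zero fun i hi => horth a i ?_
        rintro rfl
        exact ha hi
      rw [Finset.sum_insert ha, Finset.sum_insert ha]
      exact ⟨idem_add (he a) ih.1 hz, by rw [ideg_add G (he a) ih.1 hz, ih.2]⟩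
  have h1 : ∀ i, 1 ≤ ideg G (e i) := by
    intro i
    by_contra h
    exact hne i (mem_ker_of_ideg_eq_zero G (he i) (by omega))
  calc n = ∑ _i : Fin n, 1 := by simp
    _ ≤ ∑ i : Fin n, ideg G (e i) := Finset.sum_le_sum fun i _ => h1 i
    _ = ideg G (∑ i : Fin n, e i) := (hP Finset.univ).2.symm
    _ ≤ d := ideg_le G (hP Finset.univ).1

end Idem

end Groth.Agent.H14Lib.CH
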