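import Mathlib
import Groth.Prelude.Def_Found

/-!
Helper lemmas about N-1 / N-2 (Japanese) domains (helper14).
-/

set_option autoImplicit false
universe u

namespace Groth.Agent.H14Lib

/-- Finiteness of the integral closure passes to a localization of the base ring. -/
theorem finite_integralClosure_of_isLocalization {R : Type*} [CommRing R] (M : Submonoid R)
    (S : Type*) [CommRing S] [Algebra R S] [IsLocalization M S]
    (L : Type*) [CommRing L] [Algebra R L] [Algebra S L] [IsScalarTower R S L]
    (h : Module.Finite R (integralClosure R L)) : Module.Finite S (integralClosure S L) := by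
  obtain ⟨s, hs⟩ := h.1
  classical
  -- generators, viewed in `L`
  let t : Finset L := s.image (fun c : integralClosure R L => (c : L))
  have ht_int : ∀ y ∈ t, IsIntegral S y := by
    intro y hy
    rw [Finset.mem_image] at hy
    obtain ⟨c, -, rfl⟩ := hy
    exact (c.2 : IsIntegral R (c : L)).tower_top
  have key : Subalgebra.toSubmodule (integralClosure S L) = Submodule.span S (t : Set L) := by
    apply le_antisymm
    · intro x hx
      have hx' : IsIntegral S x := hx
      obtain ⟨m, hm⟩ := IsIntegral.exists_multiple_integral_of_isLocalization M x hx'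
      -- `m • x` lies in the `R`-span of the generators
      have h1 : (⟨m • x, hm⟩ : integralClosure R L) ∈ Submodule.span R (s : Set (integralClosure R L)) := by
        rw [hs]; trivial
      have h2 : m • x ∈ Submodule.span R (t : Set L) := by
        have := Submodule.mem_map_of_mem (f := (integralClosure R L).val.toLinearMap) h1
        rw [Submodule.map_span] at this
        have ht : ((integralClosure R L).val.toLinearMap '' (s : Set (integralClosure R L))) = (t : Set L) := by
          ext y; simp [t]
        rw [ht] at this
        exact this
      have h3 : m • x ∈ Submodule.span S (t : Set L) := by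
        have hle : Submodule.span R (t : Set L) ≤ (Submodule.span S (t : Set L)).restrictScalars R :=
          Submodule.span_le_restrictScalars R S _
        exact hle h2
      -- divide by `m`
      obtain ⟨u, hu⟩ := IsLocalization.map_units S m
      have h4 : x = (↑u⁻¹ : S) • (m • x) := by
        rw [Submonoid.smul_def, Algebra.smul_def, Algebra.smul_def, IsScalarTower.algebraMap_apply R S L,
          ← mul_assoc, ← map_mul, ← hu, Units.inv_mul, map_one, one_mul]
      rw [h4]
      exact Submodule.smul_mem _ _ h3
    · rw [Submodule.span_le]
      intro y hy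
      exact ht_int y hy
  have hfg : (Subalgebra.toSubmodule (integralClosure S L)).FG := ⟨t, key.symm⟩
  exact Module.Finite.iff_fg.2 hfg

end Groth.Agent.H14Lib

namespace Groth.Agent.H14Lib

/-- Integral closures in isomorphic algebras are isomorphic. -/
noncomputable def integralClosureEquiv {R A B : Type*} [CommRing R] [CommRing A] [CommRing B]
    [Algebra R A] [Algebra R B] (f : A ≃ₐ[R] B) : integralClosure R A ≃ₐ[R] integralClosure R B :=
  ((integralClosure R A).equivMapOfInjective (f : A →ₐ[R] B) f.injective).trans
    (Subalgebra.equivOfEq _ _ (integralClosure_map_algEquiv f))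

theorem finite_integralClosure_of_algEquiv {R A B : Type*} [CommRing R] [CommRing A] [CommRing B]
    [Algebra R A] [Algebra R B] (f : A ≃ₐ[R] B) (h : Module.Finite R (integralClosure R A)) :
    Module.Finite R (integralClosure R B) :=
  Module.Finite.equiv (integralClosureEquiv f).toLinearEquiv

/-- N-1 can be tested in any fraction field. -/
theorem isN1_iff_of_isFractionRing (R : Type u) [CommRing R] [IsDomain R] (K : Type*) [Field K]
    [Algebra R K] [IsFractionRing R K] :
    CAlg.IsN1 R ↔ Module.Finite R (integralClosure R K) :=
  ⟨fun h => finite_integralClosure_of_algEquiv (FractionRing.algEquiv R K) h,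
   fun h => finite_integralClosure_of_algEquiv (FractionRing.algEquiv R K).symm h⟩

end Groth.Agent.H14Lib

namespace Groth.Agent.H14Lib

theorem le_nonZeroDivisors_of_isLocalization_isDomain {R : Type*} [CommRing R] [IsDomain R]
    (M : Submonoid R) (S : Type*) [CommRing S] [Nontrivial S] [Algebra R S] [IsLocalization M S] :
    M ≤ nonZeroDivisors R := by
  intro m hm
  rw [mem_nonZeroDivisors_iff_ne_zero]
  rintro rfl
  have : Subsingleton S := IsLocalization.subsingleton (M := M) hm
  exact not_subsingleton S this

/-- A fraction field of a localization of a domain is a fraction field of the domain. -/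
theorem isFractionRing_of_isLocalization_isDomain {R : Type*} [CommRing R] [IsDomain R]
    (M : Submonoid R) (S : Type*) [CommRing S] [IsDomain S] [Algebra R S] [IsLocalization M S]
    (T : Type*) [CommRing T] [Algebra S T] [Algebra R T] [IsScalarTower R S T] [IsFractionRing S T] :
    IsFractionRing R T := by
  have h1 := IsLocalization.localization_localization_isLocalization_of_has_all_units M
    (nonZeroDivisors S) T (fun x hx => hx.mem_nonZeroDivisors)
  have hinj : Function.Injective (algebraMap R S) :=
    IsLocalization.injective S (le_nonZeroDivisors_of_isLocalization_isDomain M S)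
  have h2 : (nonZeroDivisors S).comap (algebraMap R S) = nonZeroDivisors R := by
    ext x
    rw [Submonoid.mem_comap, mem_nonZeroDivisors_iff_ne_zero, mem_nonZeroDivisors_iff_ne_zero,
      Ne, Ne, map_eq_zero_iff _ hinj]
  rw [h2] at h1
  exact h1

end Groth.Agent.H14Lib

namespace Groth.Agent.H14Lib

/-- the underlying submodule of the integral closure is finitely generated iff module-finite -/
theorem exists_finset_span_eq_integralClosure {R : Type*} [CommRing R] (L : Type*) [CommRing L]
    [Algebra R L] (h : Module.Finite R (integralClosure R L)) :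
    ∃ t : Finset L, Submodule.span R (t : Set L) = Subalgebra.toSubmodule (integralClosure R L) := by
  have := (Module.Finite.iff_fg (N := Subalgebra.toSubmodule (integralClosure R L))).1 h
  obtain ⟨t, ht⟩ := this
  exact ⟨t, ht⟩

/-- Finiteness of the integral closure can be checked on a finite principal open cover. -/
theorem finite_integralClosure_of_span_eq_top {R : Type*} [CommRing R] {ι : Type*} [Finite ι]
    (f : ι → R) (hf : Ideal.span (Set.range f) = ⊤)
    (Rf : ι → Type*) [∀ i, CommRing (Rf i)] [∀ i, Algebra R (Rf i)]
    [∀ i, IsLocalization.Away (f i) (Rf i)]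
    (L : Type*) [CommRing L] [Algebra R L] [∀ i, Algebra (Rf i) L] [∀ i, IsScalarTower R (Rf i) L]
    (h : ∀ i, Module.Finite (Rf i) (integralClosure (Rf i) L)) :
    Module.Finite R (integralClosure R L) := by
  classical
  choose T hT using fun i => exists_finset_span_eq_integralClosure L (h i)
  -- integral multiples of the generators
  have hmult : ∀ i, ∀ c : L, c ∈ T i → ∃ k : ℕ, IsIntegral R ((f i) ^ k • c) := by
    intro i c hc
    have hc' : IsIntegral (Rf i) c := by
      have : c ∈ Subalgebra.toSubmodule (integralClosure (Rf i) L) := by
        rw [← hT i]; exact Submodule.subset_span hc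
      exact this
    obtain ⟨⟨m, k, rfl⟩, hm⟩ :=
      IsIntegral.exists_multiple_integral_of_isLocalization (Submonoid.powers (f i)) c hc'
    exact ⟨k, hm⟩
  choose! k hk using hmult
  let B : Set L := ⋃ i, (fun c => (f i) ^ (k i c) • c) '' (T i : Set L)
  have hBfin : B.Finite := Set.finite_iUnion (fun i => (T i).finite_toSet.image _)
  have hBint : ∀ b ∈ B, IsIntegral R b := by
    intro b hb
    simp only [B, Set.mem_iUnion, Set.mem_image] at hb
    obtain ⟨i, c, hc, rfl⟩ := hb
    exact hk i c hc
  -- key step
  have key : ∀ i, ∀ y ∈ Submodule.span (Rf i) (T i : Set L), ∃ n : ℕ, (f i) ^ n • y ∈ Submodule.span R B := by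
    intro i y hy
    induction hy using Submodule.span_induction with
    | mem c hc =>
      exact ⟨k i c, Submodule.subset_span (Set.mem_iUnion.2 ⟨i, c, hc, rfl⟩)⟩
    | zero => exact ⟨0, by simp⟩
    | add y z _ _ hy hz =>
      obtain ⟨n, hn⟩ := hy
      obtain ⟨m, hm⟩ := hz
      refine ⟨n + m, ?_⟩
      rw [smul_add]
      refine add_mem ?_ ?_
      · rw [add_comm, pow_add, mul_smul]; exact Submodule.smul_mem _ _ hn
      · rw [pow_add, mul_smul]; exact Submodule.smul_mem _ _ hm
    | smul r y _ hy =>
      obtain ⟨n, hn⟩ := hy
      obtain ⟨l, a, hla⟩ := IsLocalization.Away.surj (f i) r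
      refine ⟨l + n, ?_⟩
      have : (f i) ^ (l + n) • (r • y) = a • ((f i) ^ n • y) := by
        rw [pow_add, mul_smul, ← algebraMap_smul (Rf i) ((f i) ^ l) ((f i) ^ n • r • y),
          smul_comm ((f i) ^ n) r y, ← mul_smul, map_pow, mul_comm, hla, algebraMap_smul]
      rw [this]
      exact Submodule.smul_mem _ _ hn
  have hle : Subalgebra.toSubmodule (integralClosure R L) = Submodule.span R B := by
    apply le_antisymm
    · intro x hx
      have hx' : IsIntegral R x := hx
      apply Submodule.mem_of_span_eq_top_of_smul_pow_mem _ (Set.range f) hf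
      rintro ⟨_, i, rfl⟩
      have : x ∈ Submodule.span (Rf i) (T i : Set L) := by
        rw [hT i]
        exact (hx'.tower_top : IsIntegral (Rf i) x)
      exact key i x this
    · rw [Submodule.span_le]
      exact hBint
  have hfg : (Subalgebra.toSubmodule (integralClosure R L)).FG := by
    rw [hle]
    exact Submodule.fg_span hBfin
  exact Module.Finite.iff_fg.2 hfg

end Groth.Agent.H14Lib

namespace Groth.Agent.H14Lib

/-- N-2 applied to a finite extension of an arbitrary fraction field. -/
theorem finite_integralClosure_of_isN2 {S : Type u} [CommRing S] [IsDomain S] (hS : CAlg.IsN2 S)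
    (K L : Type u) [Field K] [Field L] [Algebra S K] [IsFractionRing S K] [Algebra S L] [Algebra K L]
    [IsScalarTower S K L] [FiniteDimensional K L] : Module.Finite S (integralClosure S L) := by
  let e : FractionRing S ≃ₐ[S] K := FractionRing.algEquiv S K
  letI : Algebra (FractionRing S) L :=
    ((algebraMap K L).comp (e : FractionRing S →+* K)).toAlgebra
  haveI : IsScalarTower S (FractionRing S) L := IsScalarTower.of_algebraMap_eq (fun r => by
    change algebraMap S L r = algebraMap K L (e (algebraMap S (FractionRing S) r))
    rw [e.commutes, ← IsScalarTower.algebraMap_apply S K L])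
  haveI : FiniteDimensional (FractionRing S) L :=
    Module.Finite.of_equiv_equiv (A₁ := K) (B₁ := L) (A₂ := FractionRing S) (B₂ := L)
      e.symm.toRingEquiv (RingEquiv.refl L) (by
        ext x
        change algebraMap K L (e (e.symm x)) = algebraMap K L x
        rw [e.apply_symm_apply])
  exact hS L inferInstance

/-- For a domain `R` and a domain localization `Rf` away from `f`, the canonical map
`Rf → Frac R`. -/
noncomputable def awayToFractionRing {R : Type*} [CommRing R] [IsDomain R] (f : R)
    (Rf : Type*) [CommRing Rf] [Nontrivial Rf] [Algebra R Rf] [IsLocalization.Away f Rf] :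
    Rf →+* FractionRing R :=
  IsLocalization.Away.lift (S := Rf) f (g := algebraMap R (FractionRing R)) (by
    have hf : f ≠ 0 := by
      have := le_nonZeroDivisors_of_isLocalization_isDomain (Submonoid.powers f) Rf
        (Submonoid.mem_powers f)
      exact nonZeroDivisors.ne_zero this
    exact (IsFractionRing.to_map_ne_zero_of_mem_nonZeroDivisors
      (mem_nonZeroDivisors_of_ne_zero hf)).isUnit)

theorem awayToFractionRing_algebraMap {R : Type*} [CommRing R] [IsDomain R] (f : R)
    (Rf : Type*) [CommRing Rf] [Nontrivial Rf] [Algebra R Rf] [IsLocalization.Away f Rf] (r : R) :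
    awayToFractionRing f Rf (algebraMap R Rf r) = algebraMap R (FractionRing R) r :=
  IsLocalization.Away.lift_eq _ _ _

end Groth.Agent.H14Lib

namespace Groth.Agent.H14Lib

/-- A finitely generated `S`-subalgebra of a finite extension `L` of `Frac S` containing a
`Frac S`-basis of `L` has fraction field `L`. -/
theorem isFractionRing_adjoin_basis (S : Type*) [CommRing S] [IsDomain S] (K L : Type*) [Field K]
    [Field L] [Algebra S K] [IsFractionRing S K] [Algebra S L] [Algebra K L] [IsScalarTower S K L]
    {ι : Type*} [Finite ι] (b : Module.Basis ι K L) (S' : Subalgebra S L)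
    (hb : ∀ i, b i ∈ S') : IsFractionRing S' L := by
  classical
  haveI := Fintype.ofFinite ι
  haveI : FaithfulSMul S' L :=
    (faithfulSMul_iff_algebraMap_injective S' L).2 Subtype.val_injective
  apply IsFractionRing.of_field
  intro z
  obtain ⟨t, ht⟩ := IsLocalization.exist_integer_multiples (nonZeroDivisors S) Finset.univ
    (fun i => b.repr z i)
  choose a ha using fun i => ht i (Finset.mem_univ i)
  have htz : (t : S) • z = ∑ i, a i • b i := by
    conv_lhs => rw [← b.sum_repr z]
    rw [Finset.smul_sum]
    refine Finset.sum_congr rfl fun i _ => ?_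
    rw [← smul_assoc, ← ha i, algebraMap_smul]
  have hmem : (t : S) • z ∈ S' := by
    rw [htz]
    exact Subalgebra.sum_mem _ fun i _ => Subalgebra.smul_mem _ (hb i) _
  have ht0 : algebraMap S L (t : S) ≠ 0 := by
    rw [IsScalarTower.algebraMap_apply S K L]
    exact (map_ne_zero_iff _ (algebraMap K L).injective).2
      (IsFractionRing.to_map_ne_zero_of_mem_nonZeroDivisors t.2)
  refine ⟨⟨(t : S) • z, hmem⟩, algebraMap S S' (t : S), ?_⟩
  change z = ((t : S) • z) / algebraMap S L (t : S)
  rw [Algebra.smul_def, mul_div_assoc, mul_comm, div_mul_cancel₀ _ ht0]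

end Groth.Agent.H14Lib

namespace Groth.Agent.H14Lib

/-- If every module-finite `S`-subalgebra of `L` is N-1, the integral closure of `S` in `L` is finite. -/
theorem finite_integralClosure_of_forall_isN1 (S : Type u) [CommRing S] [IsDomain S] (K L : Type u)
    [Field K] [Field L] [Algebra S K] [IsFractionRing S K] [Algebra S L] [Algebra K L]
    [IsScalarTower S K L] [FiniteDimensional K L]
    (H : ∀ S' : Subalgebra S L, (Subalgebra.toSubmodule S').FG → CAlg.IsN1 S') :
    Module.Finite S (integralClosure S L) := by
  classical
  obtain ⟨s, b, hb⟩ := FiniteDimensional.exists_is_basis_integral S K L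
  let S' : Subalgebra S L := Algebra.adjoin S (Set.range b)
  have hfg : (Subalgebra.toSubmodule S').FG :=
    fg_adjoin_of_finite (Set.finite_range b) (by rintro _ ⟨i, rfl⟩; exact hb i)
  have hN1 : CAlg.IsN1 S' := H S' hfg
  haveI : IsFractionRing S' L :=
    isFractionRing_adjoin_basis S K L b S' (fun i => Algebra.subset_adjoin ⟨i, rfl⟩)
  have h1 : Module.Finite S' (integralClosure S' L) := (isN1_iff_of_isFractionRing S' L).1 hN1
  haveI : Module.Finite S S' := Module.Finite.iff_fg.2 hfg
  have h2 : Module.Finite S (integralClosure S' L) := Module.Finite.trans S' _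
  have h3 : (Subalgebra.toSubmodule (integralClosure S L)) =
      (Subalgebra.toSubmodule (integralClosure S' L)).restrictScalars S := by
    ext x
    constructor
    · intro hx
      exact (show IsIntegral S x from hx).tower_top
    · intro hx
      exact isIntegral_trans x (show IsIntegral S' x from hx)
  have h4 : ((Subalgebra.toSubmodule (integralClosure S' L)).restrictScalars S).FG :=
    Module.Finite.iff_fg.1 h2
  rw [← h3] at h4
  exact Module.Finite.iff_fg.2 h4

end Groth.Agent.H14Lib
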