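import Mathlib
import Groth.Agent.H14Lib.GammaGen

/-!
# The full polarization of a homogeneous polynomial law
-/

set_option autoImplicit false
universe u
open scoped TensorProduct

namespace Groth.Agent.H14Lib.CH

open MvPolynomial

section Polar1

variable {A : Type u} [CommRing A] {S : Type u} [CommRing S] [Algebra A S]
  {N : Type u} [AddCommGroup N] [Module A N]

theorem kap_smul_incl {ρ : Type*} (μ : ρ →₀ ℕ) (g : MvPolynomial ρ S) (η : S ⊗[A] N) :
    kap (A := A) S ρ N μ (g • incl (A := A) S ρ N η) = coeff μ g • η := by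
  induction η using TensorProduct.induction_on with
  | zero => simp
  | tmul s n =>
    rw [incl_tmul, TensorProduct.smul_tmul', smul_eq_mul, kap_tmul, mul_comm, coeff_C_mul,
      TensorProduct.smul_tmul', smul_eq_mul, mul_comm]
  | add x y hx hy => rw [map_add, smul_add, map_add, hx, hy, smul_add]

/-- an `S`-algebra map between polynomial rings over `S`, as an `A`-algebra map -/
noncomputable def aevalA {ρ ρ' : Type*} (f : ρ → MvPolynomial ρ' S) :
    MvPolynomial ρ S →ₐ[A] MvPolynomial ρ' S :=
  (aeval (R := S) f).restrictScalars A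

theorem aevalA_apply {ρ ρ' : Type*} (f : ρ → MvPolynomial ρ' S) (g : MvPolynomial ρ S) :
    aevalA (A := A) f g = aeval f g := rfl

theorem rTensor_aevalA_smul_incl {ρ ρ' : Type*} (f : ρ → MvPolynomial ρ' S)
    (g : MvPolynomial ρ S) (η : S ⊗[A] N) :
    (aevalA (A := A) f).toLinearMap.rTensor N (g • incl (A := A) S ρ N η) =
      aeval f g • incl (A := A) S ρ' N η := by
  induction η using TensorProduct.induction_on with
  | zero => simp
  | tmul s n =>
    rw [incl_tmul, incl_tmul, TensorProduct.smul_tmul', TensorProduct.smul_tmul',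
      LinearMap.rTensor_tmul, AlgHom.toLinearMap_apply, aevalA_apply, smul_eq_mul, smul_eq_mul,
      map_mul, aeval_C]
    rfl
  | add x y hx hy => rw [map_add, smul_add, map_add, hx, hy, map_add, smul_add]

end Polar1


/-- the exponent `(1, …, 1)` -/
noncomputable def oneF (d : ℕ) : Fin d →₀ ℕ := Finsupp.equivFunOnFinite.symm (fun _ => 1)

theorem oneF_apply (d : ℕ) (i : Fin d) : oneF d i = 1 := rfl

theorem coeff_oneF_sum_pow {S : Type u} [CommRing S] (d : ℕ) :
    coeff (oneF d) ((∑ i : Fin d, (X i : MvPolynomial (Fin d) S)) ^ d) = (d.factorial : S) := by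
  classical
  rw [Finset.sum_pow_eq_sum_piAntidiag, coeff_sum]
  have hmon : ∀ k : Fin d → ℕ, ∏ i, (X i : MvPolynomial (Fin d) S) ^ k i =
      monomial (Finsupp.equivFunOnFinite.symm k) 1 := by
    intro k
    rw [MvPolynomial.monomial_eq, map_one, one_mul, Finsupp.prod_fintype]
    · rfl
    · intro i; exact pow_zero _
  rw [Finset.sum_eq_single (fun _ => 1)]
  · rw [hmon, ← nsmul_eq_mul, coeff_smul, coeff_monomial, if_pos (show (Finsupp.equivFunOnFinite.symm fun _ : Fin d => 1) = oneF d from rfl),
      nsmul_eq_mul, mul_one]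
    congr 1
    rw [Nat.multinomial]
    simp
  · intro k _ hk
    rw [hmon, ← nsmul_eq_mul, coeff_smul, coeff_monomial, if_neg, smul_zero]
    intro h
    apply hk
    funext i
    have := DFunLike.congr_fun h i
    simpa [oneF] using this
  · intro h
    exfalso
    apply h
    rw [Finset.mem_piAntidiag]
    simp

section Polar2

variable {A : Type u} [CommRing A] {M : Type u} [AddCommGroup M] [Module A M]
  {N : Type u} [AddCommGroup N] [Module A N] {d : ℕ}

/-- the argument `∑ tᵢ yᵢ` of the polarization -/
noncomputable def Parg (S : Type u) [CommRing S] [Algebra A S] (y : Fin d → S ⊗[A] M) :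
    MvPolynomial (Fin d) S ⊗[A] M :=
  ∑ i, (X i : MvPolynomial (Fin d) S) • incl (A := A) S (Fin d) M (y i)

/-- the full polarization of a law: the coefficient of `t₀ ⋯ t_{d-1}` in `G (∑ tᵢ yᵢ)` -/
noncomputable def Pfun (G : M →ₚₗ[A] N) (S : Type u) [CommRing S] [Algebra A S]
    (y : Fin d → S ⊗[A] M) : S ⊗[A] N :=
  kap (A := A) S (Fin d) N (oneF d) (G.toFun' (MvPolynomial (Fin d) S) (Parg S y))

theorem toFun'_incl (G : M →ₚₗ[A] N) {S : Type u} [CommRing S] [Algebra A S] {ρ : Type}
    (y : S ⊗[A] M) :
    G.toFun' (MvPolynomial ρ S) (incl (A := A) S ρ M y) = incl (A := A) S ρ N (G.toFun' S y) :=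
  (PolynomialLaw.isCompat_apply' (f := G) (Cv (A := A) S ρ) y).symm

theorem Pfun_diag (G : M →ₚₗ[A] N) (hG : PolLaw.IsHomog G d) (S : Type u) [CommRing S]
    [Algebra A S] (y : S ⊗[A] M) :
    Pfun G S (fun _ : Fin d => y) = (d.factorial : S) • G.toFun' S y := by
  rw [Pfun, Parg, ← Finset.sum_smul, hG, toFun'_incl, kap_smul_incl, coeff_oneF_sum_pow]

theorem Parg_update (S : Type u) [CommRing S] [Algebra A S] (y : Fin d → S ⊗[A] M) (k : Fin d)
    (v : S ⊗[A] M) :
    Parg S (Function.update y k v) = (X k : MvPolynomial (Fin d) S) • incl (A := A) S (Fin d) M v +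
      ∑ i ∈ Finset.univ.erase k, (X i : MvPolynomial (Fin d) S) • incl (A := A) S (Fin d) M (y i) := by
  classical
  rw [Parg, ← Finset.add_sum_erase _ _ (Finset.mem_univ k), Function.update_self]
  congr 1
  refine Finset.sum_congr rfl fun i hi => ?_
  rw [Function.update_of_ne (Finset.ne_of_mem_erase hi)]

end Polar2

section PolarId
variable {S : Type u} [CommRing S] {d : ℕ}

theorem aeval_monomial_option (f : Option (Fin d) → MvPolynomial (Fin d) S)
    (ν : Option (Fin d) →₀ ℕ) :
    aeval f (monomial ν (1 : S)) =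
      f none ^ (ν none) * ν.some.prod (fun i n => f (some i) ^ n) := by
  rw [aeval_monomial, map_one, one_mul,
    Finsupp.prod_option_index ν (fun o n => f o ^ n) (fun _ => pow_zero _)
      (fun _ _ _ => pow_add _ _ _)]

theorem prod_X_pow' (ν' : Fin d →₀ ℕ) :
    ν'.prod (fun i n => (X i : MvPolynomial (Fin d) S) ^ n) = monomial ν' 1 := by
  rw [MvPolynomial.monomial_eq, map_one, one_mul]

theorem prod_ind' (k : Fin d) (ν' : Fin d →₀ ℕ) :
    ν'.prod (fun i n => (if i = k then 0 else (X i : MvPolynomial (Fin d) S)) ^ n) =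
      if ν' k = 0 then monomial ν' 1 else 0 := by
  split_ifs with h
  · rw [← prod_X_pow']
    refine Finset.prod_congr rfl fun i hi => ?_
    have : i ≠ k := by
      rintro rfl
      exact (Finsupp.mem_support_iff.mp hi) h
    simp only [if_neg this]
  · refine Finset.prod_eq_zero (Finsupp.mem_support_iff.mpr h) ?_
    simp only [if_true]
    exact zero_pow h

/-- the three substitutions used for additivity of the polarization -/
noncomputable def sub1 (k : Fin d) : Option (Fin d) → MvPolynomial (Fin d) S :=
  fun o => o.elim (X k) X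
noncomputable def sub2 : Option (Fin d) → MvPolynomial (Fin d) S :=
  fun o => o.elim 0 X
noncomputable def sub3 (k : Fin d) : Option (Fin d) → MvPolynomial (Fin d) S :=
  fun o => o.elim (X k) (fun i => if i = k then 0 else X i)

theorem coeff_identity (k : Fin d) (ν : Option (Fin d) →₀ ℕ) :
    coeff (oneF d) (aeval (sub1 (S := S) k) (monomial ν (1 : S))) =
      coeff (oneF d) (aeval (sub2 (S := S)) (monomial ν (1 : S))) +
        coeff (oneF d) (aeval (sub3 (S := S) k) (monomial ν (1 : S))) := by
  classical
  rw [aeval_monomial_option, aeval_monomial_option, aeval_monomial_option]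
  simp only [sub1, sub2, sub3, Option.elim_none, Option.elim_some]
  rw [prod_X_pow', prod_ind', X_pow_eq_monomial, monomial_mul, mul_one]
  by_cases h0 : ν none = 0
  · rw [h0, pow_zero, one_mul, Finsupp.single_zero, zero_add]
    have h1 : (monomial (0 : Fin d →₀ ℕ) (1 : S)) = 1 := rfl
    rw [h1, one_mul]
    split_ifs with hk
    · rw [coeff_monomial, if_neg, add_zero]
      intro h
      have := DFunLike.congr_fun h k
      rw [oneF_apply, hk] at this
      exact zero_ne_one this
    · rw [coeff_zero, add_zero]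
  · rw [zero_pow h0, zero_mul, coeff_zero, zero_add]
    split_ifs with hk
    · rw [monomial_mul, mul_one]
    · rw [mul_zero, coeff_zero, coeff_monomial, if_neg]
      intro h
      have := DFunLike.congr_fun h k
      rw [Finsupp.add_apply, Finsupp.single_eq_same, oneF_apply] at this
      omega
end PolarId

section Polar3

variable {A : Type u} [CommRing A] {M : Type u} [AddCommGroup M] [Module A M]
  {N : Type u} [AddCommGroup N] [Module A N] {d : ℕ}

/-- evaluation of the polarization after a substitution of the variables -/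
theorem kap_toFun'_subst (G : M →ₚₗ[A] N) {S : Type u} [CommRing S] [Algebra A S]
    {ρ : Type} (arg : MvPolynomial ρ S ⊗[A] M) (T : Finset (ρ →₀ ℕ))
    (hT : G.toFun' _ arg = ∑ ν ∈ T, (monomial ν (1 : S)) •
      incl (A := A) S ρ N (kap (A := A) S ρ N ν (G.toFun' _ arg)))
    (f : ρ → MvPolynomial (Fin d) S) (μ : Fin d →₀ ℕ) :
    kap (A := A) S (Fin d) N μ (G.toFun' _ ((aevalA (A := A) f).toLinearMap.rTensor M arg)) =
      ∑ ν ∈ T, coeff μ (aeval f (monomial ν (1 : S))) • kap (A := A) S ρ N ν (G.toFun' _ arg) := by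
  rw [← PolynomialLaw.isCompat_apply']
  conv_lhs => rw [hT]
  rw [map_sum, map_sum]
  refine Finset.sum_congr rfl fun ν _ => ?_
  rw [rTensor_aevalA_smul_incl, kap_smul_incl]

theorem Pfun_update_add (G : M →ₚₗ[A] N) (S : Type u) [CommRing S] [Algebra A S]
    (y : Fin d → S ⊗[A] M) (k : Fin d) (v w : S ⊗[A] M) :
    Pfun G S (Function.update y k (v + w)) =
      Pfun G S (Function.update y k v) + Pfun G S (Function.update y k w) := by
  classical
  set R := MvPolynomial (Option (Fin d)) S
  set arg : R ⊗[A] M := ∑ i, (X (some i) : R) • incl (A := A) S _ M (Function.update y k v i) +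
    (X none : R) • incl (A := A) S _ M w with harg
  have hsub : ∀ f : Option (Fin d) → MvPolynomial (Fin d) S,
      (aevalA (A := A) f).toLinearMap.rTensor M arg =
        ∑ i, f (some i) • incl (A := A) S _ M (Function.update y k v i) +
          f none • incl (A := A) S _ M w := by
    intro f
    rw [harg, map_add, map_sum, rTensor_aevalA_smul_incl, aeval_X]
    congr 1
    refine Finset.sum_congr rfl fun i _ => ?_
    rw [rTensor_aevalA_smul_incl, aeval_X]
  have h1 : (aevalA (A := A) (sub1 (S := S) k)).toLinearMap.rTensor M arg =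
      Parg S (Function.update y k (v + w)) := by
    rw [hsub]
    simp only [sub1, Option.elim_none, Option.elim_some]
    change Parg S (Function.update y k v) + _ = _
    rw [Parg_update, Parg_update, map_add, smul_add]
    abel
  have h2 : (aevalA (A := A) (sub2 (S := S) (d := d))).toLinearMap.rTensor M arg =
      Parg S (Function.update y k v) := by
    rw [hsub]
    simp only [sub2, Option.elim_none, Option.elim_some, zero_smul, add_zero]
    rfl
  have h3 : (aevalA (A := A) (sub3 (S := S) k)).toLinearMap.rTensor M arg =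
      Parg S (Function.update y k w) := by
    rw [hsub]
    simp only [sub3, Option.elim_none, Option.elim_some]
    rw [Parg_update, ← Finset.add_sum_erase _ _ (Finset.mem_univ k), if_pos rfl, zero_smul,
      zero_add, add_comm]
    congr 1
    refine Finset.sum_congr rfl fun i hi => ?_
    rw [if_neg (Finset.ne_of_mem_erase hi), Function.update_of_ne (Finset.ne_of_mem_erase hi)]
  obtain ⟨T, -, hT⟩ := exists_decomp (A := A) (S := S) (G.toFun' R arg)
  rw [Pfun, Pfun, Pfun, ← h1, ← h2, ← h3, kap_toFun'_subst G arg T hT,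
    kap_toFun'_subst G arg T hT, kap_toFun'_subst G arg T hT, ← Finset.sum_add_distrib]
  refine Finset.sum_congr rfl fun ν _ => ?_
  rw [coeff_identity, add_smul]

end Polar3

section Polar4

variable {A : Type u} [CommRing A] {M : Type u} [AddCommGroup M] [Module A M]
  {N : Type u} [AddCommGroup N] [Module A N] {d : ℕ}

theorem C_smul_incl {S : Type u} [CommRing S] [Algebra A S] {ρ : Type*} (s : S) (v : S ⊗[A] M) :
    (C s : MvPolynomial ρ S) • incl (A := A) S ρ M v = incl (A := A) S ρ M (s • v) := by
  induction v using TensorProduct.induction_on with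
  | zero => simp
  | tmul s' m =>
    rw [incl_tmul, TensorProduct.smul_tmul', TensorProduct.smul_tmul', incl_tmul, smul_eq_mul,
      smul_eq_mul, C_mul]
  | add x y hx hy => rw [map_add, smul_add, hx, hy, smul_add, map_add]

theorem aeval_scale_monomial {S : Type u} [CommRing S] (k : Fin d) (s : S) (ν : Fin d →₀ ℕ) :
    aeval (fun i => if i = k then C s * (X k : MvPolynomial (Fin d) S) else X i)
      (monomial ν (1 : S)) = monomial ν (s ^ ν k) := by
  classical
  have hf : (fun i : Fin d => if i = k then C s * (X k : MvPolynomial (Fin d) S) else X i) =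
      fun i => (if i = k then C s else 1) * X i := by
    funext i
    split_ifs with h
    · rw [h]
    · rw [one_mul]
  rw [hf, aeval_monomial, map_one, one_mul]
  simp only [mul_pow]
  rw [Finsupp.prod_mul, prod_X_pow']
  have h1 : (ν.prod fun i n => (if i = k then (C s : MvPolynomial (Fin d) S) else 1) ^ n) =
      C (s ^ ν k) := by
    rw [Finsupp.prod]
    have : ∀ i ∈ ν.support, (if i = k then (C s : MvPolynomial (Fin d) S) else 1) ^ ν i =
        if i = k then C (s ^ ν k) else 1 := by
      intro i _
      split_ifs with h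
      · rw [h, map_pow]
      · rw [one_pow]
    rw [Finset.prod_congr rfl this, Finset.prod_ite_eq']
    split_ifs with h
    · rfl
    · rw [Finsupp.notMem_support_iff.mp h, pow_zero, C_1]
  rw [h1, C_mul_monomial, mul_one]

theorem Pfun_update_smul (G : M →ₚₗ[A] N) (S : Type u) [CommRing S] [Algebra A S]
    (y : Fin d → S ⊗[A] M) (k : Fin d) (s : S) (v : S ⊗[A] M) :
    Pfun G S (Function.update y k (s • v)) = s • Pfun G S (Function.update y k v) := by
  classical
  set arg := Parg S (Function.update y k v) with harg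
  set f : Fin d → MvPolynomial (Fin d) S :=
    fun i => if i = k then C s * (X k : MvPolynomial (Fin d) S) else X i with hf
  have h1 : (aevalA (A := A) f).toLinearMap.rTensor M arg =
      Parg S (Function.update y k (s • v)) := by
    rw [harg, Parg_update, Parg_update, map_add, map_sum, rTensor_aevalA_smul_incl, aeval_X, hf]
    simp only [if_true]
    rw [mul_comm, mul_smul, C_smul_incl]
    congr 1
    refine Finset.sum_congr rfl fun i hi => ?_
    rw [rTensor_aevalA_smul_incl, aeval_X, if_neg (Finset.ne_of_mem_erase hi)]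
  have h2 : (aevalA (A := A) (fun i : Fin d => (X i : MvPolynomial (Fin d) S))).toLinearMap.rTensor M
      arg = arg := by
    have : aevalA (A := A) (fun i : Fin d => (X i : MvPolynomial (Fin d) S)) =
        AlgHom.id A _ := by
      refine AlgHom.ext fun g => ?_
      rw [aevalA_apply, aeval_X_left_apply]
      rfl
    rw [this]
    simp
  obtain ⟨T, -, hT⟩ := exists_decomp (A := A) (S := S) (G.toFun' _ arg)
  have e1 := kap_toFun'_subst G arg T hT f (oneF d)
  have e2 := kap_toFun'_subst G arg T hT (fun i : Fin d => (X i : MvPolynomial (Fin d) S)) (oneF d)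
  rw [h1] at e1
  rw [h2] at e2
  rw [Pfun, e1, Pfun, ← harg, e2, Finset.smul_sum]
  refine Finset.sum_congr rfl fun ν _ => ?_
  rw [hf, aeval_scale_monomial, aeval_X_left_apply, coeff_monomial, coeff_monomial, smul_smul]
  split_ifs with h
  · rw [h, oneF_apply, pow_one, mul_one]
  · rw [mul_zero]

theorem kap_mapAlgHom {S S' : Type u} [CommRing S] [Algebra A S] [CommRing S'] [Algebra A S']
    (φ : S →ₐ[A] S') {ρ : Type*} (μ : ρ →₀ ℕ) (z : MvPolynomial ρ S ⊗[A] N) :
    kap (A := A) S' ρ N μ ((MvPolynomial.mapAlgHom (σ := ρ) φ).toLinearMap.rTensor N z) =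
      φ.toLinearMap.rTensor N (kap (A := A) S ρ N μ z) := by
  induction z using TensorProduct.induction_on with
  | zero => simp
  | tmul g n =>
    rw [LinearMap.rTensor_tmul, kap_tmul, kap_tmul, LinearMap.rTensor_tmul,
      AlgHom.toLinearMap_apply, AlgHom.toLinearMap_apply, MvPolynomial.mapAlgHom_apply,
      coeff_map]
    rfl
  | add x y hx hy => simp only [map_add, hx, hy]

theorem mapAlgHom_smul_incl {S S' : Type u} [CommRing S] [Algebra A S] [CommRing S'] [Algebra A S']
    (φ : S →ₐ[A] S') {ρ : Type*} (i : ρ) (z : S ⊗[A] M) :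
    (MvPolynomial.mapAlgHom (σ := ρ) φ).toLinearMap.rTensor M
        ((X i : MvPolynomial ρ S) • incl (A := A) S ρ M z) =
      (X i : MvPolynomial ρ S') • incl (A := A) S' ρ M (φ.toLinearMap.rTensor M z) := by
  induction z using TensorProduct.induction_on with
  | zero => simp
  | tmul s m =>
    rw [incl_tmul, TensorProduct.smul_tmul', LinearMap.rTensor_tmul, LinearMap.rTensor_tmul,
      incl_tmul, TensorProduct.smul_tmul', AlgHom.toLinearMap_apply, AlgHom.toLinearMap_apply,
      MvPolynomial.mapAlgHom_apply, smul_eq_mul, smul_eq_mul, map_mul, map_X, map_C]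
    rfl
  | add x y hx hy => simp only [map_add, smul_add, hx, hy]

theorem Pfun_natural (G : M →ₚₗ[A] N) {S S' : Type u} [CommRing S] [Algebra A S] [CommRing S']
    [Algebra A S'] (φ : S →ₐ[A] S') (y : Fin d → S ⊗[A] M) :
    φ.toLinearMap.rTensor N (Pfun G S y) =
      Pfun G S' (fun i => φ.toLinearMap.rTensor M (y i)) := by
  rw [Pfun, Pfun, ← kap_mapAlgHom, PolynomialLaw.isCompat_apply']
  congr 2
  rw [Parg, Parg, map_sum]
  refine Finset.sum_congr rfl fun i _ => ?_
  rw [mapAlgHom_smul_incl]

/-- the polarization as an `S`-multilinear map -/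
noncomputable def Pmulti (G : M →ₚₗ[A] N) (d : ℕ) (S : Type u) [CommRing S] [Algebra A S] :
    MultilinearMap S (fun _ : Fin d => S ⊗[A] M) (S ⊗[A] N) where
  toFun := Pfun G S
  map_update_add' := by
    intro _ y k v w
    convert Pfun_update_add G S y k v w
  map_update_smul' := by
    intro _ y k s v
    convert Pfun_update_smul G S y k s v

theorem Pmulti_apply (G : M →ₚₗ[A] N) (S : Type u) [CommRing S] [Algebra A S]
    (y : Fin d → S ⊗[A] M) : Pmulti G d S y = Pfun G S y := rfl

/-- the polarization on elements of the module -/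
noncomputable def pol (G : M →ₚₗ[A] N) (m : Fin d → M) : N :=
  TensorProduct.lid A N (Pfun G A (fun i => (1 : A) ⊗ₜ[A] m i))

theorem Pfun_tmul (G : M →ₚₗ[A] N) (S : Type u) [CommRing S] [Algebra A S]
    (s : Fin d → S) (m : Fin d → M) :
    Pfun G S (fun i => s i ⊗ₜ[A] m i) = (∏ i, s i) ⊗ₜ[A] pol G m := by
  have h1 : (fun i => s i ⊗ₜ[A] m i) = fun i => s i • ((1 : S) ⊗ₜ[A] m i) := by
    funext i
    rw [TensorProduct.smul_tmul', smul_eq_mul, mul_one]
  rw [h1, ← Pmulti_apply, MultilinearMap.map_smul_univ, Pmulti_apply]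
  have h2 := Pfun_natural G (Algebra.ofId A S) (fun i : Fin d => (1 : A) ⊗ₜ[A] m i)
  simp only [LinearMap.rTensor_tmul, AlgHom.toLinearMap_apply, map_one] at h2
  rw [← h2, eq_one_tmul_lid (Pfun G A fun i => (1 : A) ⊗ₜ[A] m i), LinearMap.rTensor_tmul,
    AlgHom.toLinearMap_apply, map_one, TensorProduct.smul_tmul', smul_eq_mul, mul_one]
  rfl

/-- the fundamental identity of the full polarization of a homogeneous law -/
theorem factorial_smul_toFun' (G : M →ₚₗ[A] N) (hG : PolLaw.IsHomog G d) (S : Type u)
    [CommRing S] [Algebra A S] {n : ℕ} (s : Fin n → S) (m : Fin n → M) :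
    (d.factorial : S) • G.toFun' S (∑ j, s j ⊗ₜ[A] m j) =
      ∑ c : Fin d → Fin n, (∏ i, s (c i)) ⊗ₜ[A] pol G (fun i => m (c i)) := by
  classical
  rw [← Pfun_diag G hG, ← Pmulti_apply, MultilinearMap.map_sum]
  refine Finset.sum_congr rfl fun c _ => ?_
  rw [Pmulti_apply, Pfun_tmul]

end Polar4

end Groth.Agent.H14Lib.CH
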