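import Mathlib

/-!
Helper lemmas on `Proj` (helper14).
-/

set_option autoImplicit false
universe u

open AlgebraicGeometry CategoryTheory

namespace Groth.Agent.H14Lib

variable {R A : Type u} [CommRing R] [CommRing A] [Algebra R A] (𝒜 : ℕ → Submodule R A) [GradedAlgebra 𝒜]

/-- A homogeneous element of positive degree whose basic open in `Proj` is empty is nilpotent. -/
theorem isNilpotent_of_basicOpen_eq_bot {f : A} {m : ℕ} (f_deg : f ∈ 𝒜 m) (hm : 0 < m)
    (h : Proj.basicOpen 𝒜 f = ⊥) : IsNilpotent f := by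
  have h1 : (Proj.awayι 𝒜 f f_deg hm).opensRange = ⊥ := by
    rw [Proj.opensRange_awayι, h]
  have h2 : IsEmpty (Spec (.of <| HomogeneousLocalization.Away 𝒜 f)) := by
    constructor
    intro x
    have : (Proj.awayι 𝒜 f f_deg hm) x ∈ (Proj.awayι 𝒜 f f_deg hm).opensRange := ⟨x, rfl⟩
    rw [h1] at this
    exact this
  have h3 : Subsingleton (HomogeneousLocalization.Away 𝒜 f) := by
    by_contra hne
    rw [not_subsingleton_iff_nontrivial] at hne
    obtain ⟨x⟩ := (inferInstance : Nonempty (PrimeSpectrum (HomogeneousLocalization.Away 𝒜 f)))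
    exact h2.false x
  have h4 : (1 : HomogeneousLocalization.Away 𝒜 f) = 0 := Subsingleton.elim _ _
  have h5 := congrArg HomogeneousLocalization.val h4
  rw [HomogeneousLocalization.val_one, HomogeneousLocalization.val_zero] at h5
  have h6 : algebraMap A (Localization.Away f) 1 = algebraMap A (Localization.Away f) 0 := by
    rw [map_one, map_zero]; exact h5
  rw [IsLocalization.eq_iff_exists (Submonoid.powers f)] at h6
  obtain ⟨⟨_, n, rfl⟩, hc⟩ := h6
  exact ⟨n, by simpa using hc⟩

theorem basicOpen_eq_bot_of_isNilpotent {f : A} (h : IsNilpotent f) : Proj.basicOpen 𝒜 f = ⊥ := by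
  obtain ⟨n, hn⟩ := h
  rw [eq_bot_iff]
  intro x hx
  rw [Proj.mem_basicOpen] at hx
  exact hx (x.isPrime.mem_of_pow_mem n (by rw [hn]; exact zero_mem _))

end Groth.Agent.H14Lib

namespace Groth.Agent.H14Lib

variable {R A : Type u} [CommRing R] [CommRing A] [Algebra R A] (𝒜 : ℕ → Submodule R A) [GradedAlgebra 𝒜]

/-- Every point of `Proj` lies in the basic open of a homogeneous element of positive degree. -/
theorem exists_homogeneous_pos_mem_basicOpen (x : Proj 𝒜) :
    ∃ (s : A) (n : ℕ), 0 < n ∧ s ∈ 𝒜 n ∧ x ∈ Proj.basicOpen 𝒜 s := by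
  classical
  by_contra H
  push Not at H
  apply x.not_irrelevant_le
  intro g hg
  change g ∈ x.asHomogeneousIdeal.toIdeal
  rw [← DirectSum.sum_support_decompose 𝒜 g]
  apply Ideal.sum_mem
  intro i _
  by_cases hi : i = 0
  · subst hi
    have : (DirectSum.decompose 𝒜 g 0 : A) = 0 := (HomogeneousIdeal.mem_irrelevant_iff 𝒜 g).1 hg
    rw [this]
    exact zero_mem _
  · have := H (DirectSum.decompose 𝒜 g i : A) i (Nat.pos_of_ne_zero hi) (SetLike.coe_mem _)
    rw [Proj.mem_basicOpen, not_not] at this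
    exact this

end Groth.Agent.H14Lib
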