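import Mathlib
import Groth.Agent.S0226
import Groth.Agent.S0558

/-!
# Two-dimensional regular local rings are factorial; intersection numbers (helper14)
-/

set_option autoImplicit false

namespace Groth.Agent.H14Lib.RLR2

universe u

theorem ufd_of_dim_two (A : Type u) [CommRing A] [IsRegularLocalRing A]
    (hA : ringKrullDim A = 2) : IsDomain A ∧ UniqueFactorizationMonoid A := by
  haveI : IsDomain A := Groth.Agent.S0558.result A
  refine ⟨inferInstance, ?_⟩
  have hchain : ∃ l : LTSeries (PrimeSpectrum A), l.length = 2 := by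
    have : ((2 : ℕ) : WithBot ℕ∞) ≤ Order.krullDim (PrimeSpectrum A) := by
      have h2 : ringKrullDim A = Order.krullDim (PrimeSpectrum A) := rfl
      rw [← h2, hA]; rfl
    exact Order.le_krullDim_iff.mp this
  obtain ⟨l, hl⟩ := hchain
  have key : ∀ I : Ideal A, I.IsPrime → I ≠ ⊥ → I ≠ IsLocalRing.maximalIdeal A →
      ∃ x ∈ I, Prime x := by
    intro I hI hbot hmax
    haveI := hI
    rcases Groth.Agent.S0226.result A hA I (IsLocalRing.le_maximalIdeal hI.ne_top) with
      h | h | ⟨f, hfm, hf0, hfI⟩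
    · exact absurd h hbot
    · exact absurd h hmax
    · refine ⟨f, hfI ▸ Ideal.mem_span_singleton_self f, ?_⟩
      rw [← Ideal.span_singleton_prime hf0, ← hfI]; exact hI
  apply UniqueFactorizationMonoid.iff_exists_prime_mem_of_isPrime.mpr
  intro I hbot hI
  by_cases hmax : I = IsLocalRing.maximalIdeal A
  · have h01 : l ⟨0, by omega⟩ < l ⟨1, by omega⟩ := l.strictMono (by simp [Fin.lt_def])
    have h12 : l ⟨1, by omega⟩ < l ⟨2, by omega⟩ := l.strictMono (by simp [Fin.lt_def])
    have hp1bot : (l ⟨1, by omega⟩).asIdeal ≠ ⊥ := by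
      intro h
      have h3 : (l ⟨0, by omega⟩).asIdeal < (l ⟨1, by omega⟩).asIdeal := h01
      rw [h] at h3
      exact not_lt_bot h3
    have hp1max : (l ⟨1, by omega⟩).asIdeal ≠ IsLocalRing.maximalIdeal A := by
      intro h
      have h3 : (l ⟨1, by omega⟩).asIdeal < (l ⟨2, by omega⟩).asIdeal := h12
      rw [h] at h3
      exact absurd (IsLocalRing.le_maximalIdeal (l ⟨2, by omega⟩).isPrime.ne_top)
        (not_le_of_gt h3)
    obtain ⟨x, hx, hxp⟩ := key _ (l ⟨1, by omega⟩).isPrime hp1bot hp1max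
    exact ⟨x, hmax ▸ IsLocalRing.le_maximalIdeal (l ⟨1, by omega⟩).isPrime.ne_top hx, hxp⟩
  · exact key I hI hbot hmax

/-- Additivity of the local intersection number. -/
theorem length_mul (A : Type u) [CommRing A] [IsDomain A] [UniqueFactorizationMonoid A]
    (f g h : A) (hfg : IsRelPrime f g) :
    Module.length A (A ⧸ Ideal.span ({f * h, g} : Set A)) =
      Module.length A (A ⧸ Ideal.span ({f, g} : Set A)) +
        Module.length A (A ⧸ Ideal.span ({h, g} : Set A)) := by
  have h1 : (Ideal.span ({h, g} : Set A) : Submodule A A) ≤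
      Submodule.comap (LinearMap.lsmul A A f) (Ideal.span ({f * h, g} : Set A)) := by
    intro a ha
    rw [Submodule.mem_comap]
    obtain ⟨c, d, rfl⟩ := Ideal.mem_span_pair.mp ha
    rw [Ideal.mem_span_pair]
    exact ⟨c, f * d, by simp only [LinearMap.lsmul_apply, smul_eq_mul]; ring⟩
  have h2 : (Ideal.span ({f * h, g} : Set A) : Submodule A A) ≤
      Submodule.comap (LinearMap.id : A →ₗ[A] A) (Ideal.span ({f, g} : Set A)) := by
    intro a ha
    rw [Submodule.mem_comap]
    obtain ⟨c, d, rfl⟩ := Ideal.mem_span_pair.mp ha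
    rw [Ideal.mem_span_pair]
    exact ⟨c * h, d, by simp only [LinearMap.id_apply]; ring⟩
  rw [add_comm]
  refine Module.length_eq_add_of_exact
    (Submodule.mapQ (Ideal.span ({h, g} : Set A)) (Ideal.span ({f * h, g} : Set A))
      (LinearMap.lsmul A A f) h1)
    (Submodule.mapQ (Ideal.span ({f * h, g} : Set A)) (Ideal.span ({f, g} : Set A))
      LinearMap.id h2) ?_ ?_ ?_
  · -- injective
    rw [← LinearMap.ker_eq_bot, LinearMap.ker_eq_bot']
    intro x hx
    obtain ⟨a, rfl⟩ := Submodule.Quotient.mk_surjective _ x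
    rw [Submodule.mapQ_apply, Submodule.Quotient.mk_eq_zero] at hx
    rw [Submodule.Quotient.mk_eq_zero]
    obtain ⟨c, d, hcd⟩ := Ideal.mem_span_pair.mp hx
    simp only [LinearMap.lsmul_apply, smul_eq_mul] at hcd
    have hdvd : g ∣ f * (a - c * h) := ⟨d, by linear_combination -hcd⟩
    obtain ⟨e, he⟩ := hfg.symm.dvd_of_dvd_mul_left hdvd
    rw [Ideal.mem_span_pair]
    exact ⟨c, e, by linear_combination -he⟩
  · -- surjective
    intro x
    obtain ⟨a, rfl⟩ := Submodule.Quotient.mk_surjective _ x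
    exact ⟨Submodule.Quotient.mk a, by rw [Submodule.mapQ_apply]; rfl⟩
  · -- exact
    intro x
    obtain ⟨a, rfl⟩ := Submodule.Quotient.mk_surjective _ x
    rw [Submodule.mapQ_apply, Submodule.Quotient.mk_eq_zero]
    constructor
    · intro ha
      obtain ⟨c, d, hcd⟩ := Ideal.mem_span_pair.mp ha
      refine ⟨Submodule.Quotient.mk c, ?_⟩
      rw [Submodule.mapQ_apply, Submodule.Quotient.eq]
      rw [Ideal.mem_span_pair]
      refine ⟨0, -d, ?_⟩
      simp only [LinearMap.lsmul_apply, smul_eq_mul, LinearMap.id_apply] at hcd ⊢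
      linear_combination -hcd
    · rintro ⟨y, hy⟩
      obtain ⟨c, rfl⟩ := Submodule.Quotient.mk_surjective _ y
      rw [Submodule.mapQ_apply, Submodule.Quotient.eq] at hy
      obtain ⟨c', d', hcd⟩ := Ideal.mem_span_pair.mp hy
      rw [LinearMap.id_apply, Ideal.mem_span_pair]
      simp only [LinearMap.lsmul_apply, smul_eq_mul] at hcd
      exact ⟨c - c' * h, -d', by linear_combination -hcd⟩

end Groth.Agent.H14Lib.RLR2
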