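import Mathlib
import Groth.Prelude.Def_SymTen
import Groth.Agent.H19.GeomTensor

/-!
# Tensor powers of geometrically reduced algebras are geometrically reduced
-/

set_option autoImplicit false

open scoped TensorProduct

namespace Groth.Agent.H14Lib.RedG

universe u

section Succ

variable (A : Type u) [CommRing A] (B : Type u) [CommRing B] [Algebra A B] (d : ℕ)

/-- the linear equivalence `T^{d+1}(B) ≃ T^d(B) ⊗ B` -/
noncomputable def succLin : (⨂[A] _ : Fin (d + 1), B) ≃ₗ[A] (⨂[A] _ : Fin d, B) ⊗[A] B :=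
  (PiTensorProduct.reindex A (fun _ : Fin (d + 1) => B) finSumFinEquiv.symm) ≪≫ₗ
    (PiTensorProduct.tmulEquiv (ι := Fin d) (ι₂ := Fin 1) A B).symm ≪≫ₗ
    TensorProduct.congr (LinearEquiv.refl A _)
      (PiTensorProduct.subsingletonEquiv (s := fun _ : Fin 1 => B) (0 : Fin 1))

theorem succLin_tprod (s : Fin (d + 1) → B) :
    succLin A B d (PiTensorProduct.tprod A s) =
      (PiTensorProduct.tprod A fun j : Fin d => s (Fin.castAdd 1 j)) ⊗ₜ[A] s (Fin.natAdd d 0) := by
  simp [succLin, PiTensorProduct.reindex_tprod]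

theorem succLin_one : succLin A B d 1 = 1 := by
  rw [PiTensorProduct.one_def, succLin_tprod, Algebra.TensorProduct.one_def,
    PiTensorProduct.one_def]
  rfl

theorem succLin_mul (x y : ⨂[A] _ : Fin (d + 1), B) :
    succLin A B d (x * y) = succLin A B d x * succLin A B d y := by
  induction x using PiTensorProduct.induction_on with
  | smul_tprod r s =>
    induction y using PiTensorProduct.induction_on with
    | smul_tprod r' s' =>
      rw [smul_mul_smul_comm, PiTensorProduct.tprod_mul_tprod, map_smul, map_smul, map_smul,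
        succLin_tprod, succLin_tprod, succLin_tprod, smul_mul_smul_comm,
        Algebra.TensorProduct.tmul_mul_tmul, PiTensorProduct.tprod_mul_tprod]
      rfl
    | add y y' hy hy' => rw [mul_add, map_add, hy, hy', map_add, mul_add]
  | add x x' hx hx' => rw [add_mul, map_add, hx, hx', map_add, add_mul]

/-- the algebra equivalence `T^{d+1}(B) ≃ T^d(B) ⊗ B` -/
noncomputable def succEquiv : (⨂[A] _ : Fin (d + 1), B) ≃ₐ[A] (⨂[A] _ : Fin d, B) ⊗[A] B :=
  AlgEquiv.ofLinearEquiv (succLin A B d) (succLin_one A B d) (succLin_mul A B d)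

end Succ

section Red

variable {A : Type u} [CommRing A] {B : Type u} [CommRing B] [Algebra A B]
  (K : Type u) [Field K] [IsAlgClosed K] [Algebra A K]

theorem isReduced_tensor_tpower (hB : IsReduced (K ⊗[A] B)) (d : ℕ) :
    IsReduced (K ⊗[A] (⨂[A] _ : Fin d, B)) := by
  induction d with
  | zero =>
    have hsurj : ∀ x : K ⊗[A] (⨂[A] _ : Fin 0, B), ∃ k : K, x = algebraMap K _ k := by
      intro x
      induction x using TensorProduct.induction_on with
      | zero => exact ⟨0, by simp⟩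
      | tmul k t =>
        obtain ⟨r, rfl⟩ : ∃ r : A, t = r • PiTensorProduct.tprod A (fun _ : Fin 0 => (1 : B)) := by
          refine ⟨PiTensorProduct.isEmptyEquiv (Fin 0) t, ?_⟩
          apply (PiTensorProduct.isEmptyEquiv (R := A) (s := fun _ : Fin 0 => B) (Fin 0)).injective
          simp
        refine ⟨r • k, ?_⟩
        rw [Algebra.TensorProduct.algebraMap_apply, TensorProduct.tmul_smul,
          TensorProduct.smul_tmul', PiTensorProduct.one_def]
        rfl
      | add x y hx hy =>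
        obtain ⟨k, rfl⟩ := hx
        obtain ⟨k', rfl⟩ := hy
        exact ⟨k + k', by rw [map_add]⟩
    refine ⟨fun x hx => ?_⟩
    obtain ⟨k, rfl⟩ := hsurj x
    by_cases hk : k = 0
    · rw [hk, map_zero]
    · have hu : IsUnit (algebraMap K (K ⊗[A] (⨂[A] _ : Fin 0, B)) k) :=
        (IsUnit.mk0 k hk).map _
      obtain ⟨n, hn⟩ := hx
      have h0 : IsUnit (0 : K ⊗[A] (⨂[A] _ : Fin 0, B)) := by
        rw [← hn]; exact hu.pow n
      have hsub : Subsingleton (K ⊗[A] (⨂[A] _ : Fin 0, B)) :=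
        subsingleton_of_zero_eq_one (isUnit_zero_iff.mp h0)
      exact Subsingleton.elim _ _
  | succ d ih =>
    haveI := ih
    haveI := hB
    haveI : IsReduced ((K ⊗[A] (⨂[A] _ : Fin d, B)) ⊗[K] (K ⊗[A] B)) :=
      Groth.Agent.H19.isReduced_tensor_of_isAlgClosed
    let e1 : K ⊗[A] (⨂[A] _ : Fin (d + 1), B) ≃ₐ[K] K ⊗[A] ((⨂[A] _ : Fin d, B) ⊗[A] B) :=
      Algebra.TensorProduct.congr AlgEquiv.refl (succEquiv A B d)
    let e2 : (K ⊗[A] (⨂[A] _ : Fin d, B)) ⊗[A] B ≃ₐ[K] K ⊗[A] ((⨂[A] _ : Fin d, B) ⊗[A] B) :=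
      Algebra.TensorProduct.assoc A A K K (⨂[A] _ : Fin d, B) B
    let e3 : (K ⊗[A] (⨂[A] _ : Fin d, B)) ⊗[K] (K ⊗[A] B) ≃ₐ[K]
        (K ⊗[A] (⨂[A] _ : Fin d, B)) ⊗[A] B :=
      Algebra.TensorProduct.cancelBaseChange A K K (K ⊗[A] (⨂[A] _ : Fin d, B)) B
    exact isReduced_of_injective ((e1.trans e2.symm).trans e3.symm).toRingEquiv
      ((e1.trans e2.symm).trans e3.symm).injective

end Red

end Groth.Agent.H14Lib.RedG
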