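import Mathlib
import Groth.Agent.H14Lib.TSG5

/-!
# Purity of the symmetric tensors of a flat algebra inside the tensor power
-/

set_option autoImplicit false

open scoped TensorProduct

namespace Groth.Agent.H14Lib.RedG

universe u

open Groth.Agent.H14Lib.CH Groth.Agent.H14Lib.GamN Groth.Agent.H14Lib.BCk MvPolynomial
open Groth.Agent.H14Lib.GamFT Groth.Agent.H14Lib.TSG

variable {A : Type u} [CommRing A] {B : Type u} [CommRing B] [Algebra A B] {d : ℕ}

open Classical in
theorem lTensor_TS_injective [Module.Flat A B] (N : Type u) [AddCommGroup N] [Module A N] :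
    Function.Injective ((SymTen.TS A B d).val.toLinearMap.lTensor N) := by
  rw [injective_iff_map_eq_zero]
  intro ξ hξ
  let q : MvPolynomial B A →ₐ[A] B := MvPolynomial.aeval (fun b => b)
  have hq : Function.Surjective q := fun b => ⟨MvPolynomial.X b, by simp [q]⟩
  let bas := MvPolynomial.basisMonomials B A
  obtain ⟨S, rfl⟩ := TensorProduct.exists_finset ξ
  have hl : ∀ z : SymTen.TS A B d, ∃ z' ∈ SymTen.TS A (MvPolynomial B A) d,
      SymTen.tmap A d q z' = z.1 := fun z => Ha_of_flat bas q hq _ z.2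
  choose zt hzt hzq using hl
  set ζ : N ⊗[A] (⨂[A] _ : Fin d, MvPolynomial B A) := ∑ i ∈ S, i.1 ⊗ₜ[A] zt i.2 with hζdef
  have hζ : (SymTen.tmap A d q).toLinearMap.lTensor N ζ = 0 := by
    rw [map_sum] at hξ
    rw [hζdef, map_sum]
    simp only [LinearMap.lTensor_tmul, AlgHom.toLinearMap_apply, hzq]
    simpa using hξ
  have hex : Function.Exact (Nul q d).subtype (SymTen.tmap A d q).toLinearMap := by
    intro t
    constructor
    · intro h
      exact ⟨⟨t, mem_Nul_of_tmap_eq_zero d hq t h⟩, rfl⟩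
    · rintro ⟨w, rfl⟩
      exact tmap_eq_zero_of_mem_Nul q d w.1 w.2
  have hex' := lTensor_exact N hex (tmap_surjective d hq)
  obtain ⟨η, hη⟩ := (hex' ζ).mp hζ
  obtain ⟨S', rfl⟩ := TensorProduct.exists_finset η
  let eS := S'.equivFin
  let w : Fin S'.card → ⨂[A] _ : Fin d, MvPolynomial B A := fun j => ((eS.symm j).1.2 : Nul q d).1
  set Mon : Finset (B →₀ ℕ) := S.biUnion (fun i =>
    ((basT bas d).repr (zt i.2)).support.biUnion (fun x => Finset.univ.image x)) with hMon
  obtain ⟨m, a, q', ha, hq'⟩ := exists_cover_of_mem_Nul bas q Mon w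
    (fun j => ((eS.symm j).1.2 : Nul q d).2)
  have h1 : (Tm d a).lTensor N ζ = 0 := by
    rw [← hη, map_sum, map_sum]
    refine Finset.sum_eq_zero fun i hi => ?_
    rw [LinearMap.lTensor_tmul, LinearMap.lTensor_tmul, Submodule.subtype_apply]
    have := ha (eS ⟨i, hi⟩)
    simp only [w, Equiv.symm_apply_apply] at this
    rw [this, TensorProduct.tmul_zero]
  set ξ'' : N ⊗[A] SymTen.TS A (MvPolynomial (Fin m) A) d :=
    ∑ i ∈ S, i.1 ⊗ₜ[A] (⟨Tm d a (zt i.2), Tm_mem_TS a (hzt i.2)⟩ :
      SymTen.TS A (MvPolynomial (Fin m) A) d) with hξ''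
  have h2 : (SymTen.TS A (MvPolynomial (Fin m) A) d).val.toLinearMap.lTensor N ξ'' = 0 := by
    rw [← h1, hξ'', hζdef, map_sum, map_sum]
    simp only [LinearMap.lTensor_tmul, AlgHom.toLinearMap_apply, Subalgebra.coe_val]
  have h3 : ξ'' = 0 := by
    have := congrArg ((retr (basU m A) d).lTensor N) h2
    rw [map_zero, ← LinearMap.comp_apply, ← LinearMap.lTensor_comp] at this
    have hid : retr (basU m A) d ∘ₗ (SymTen.TS A (MvPolynomial (Fin m) A) d).val.toLinearMap =
        LinearMap.id := LinearMap.ext (fun z => retr_val _ z)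
    rw [hid, LinearMap.lTensor_id] at this
    exact this
  have h4 : (∑ i ∈ S, i.1 ⊗ₜ[A] i.2) = (SymTen.TSmap A d q').toLinearMap.lTensor N ξ'' := by
    rw [hξ'', map_sum]
    refine Finset.sum_congr rfl fun i hi => ?_
    rw [LinearMap.lTensor_tmul]
    congr 1
    apply Subtype.ext
    rw [AlgHom.toLinearMap_apply, TSmap_val, ← hzq i.2]
    symm
    apply tmap_Tm_eq bas q q' a (zt i.2)
    intro x hx k
    apply hq'
    rw [hMon]
    exact Finset.mem_biUnion.mpr ⟨i, hi, Finset.mem_biUnion.mpr ⟨x, hx,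
      Finset.mem_image.mpr ⟨k, Finset.mem_univ _, rfl⟩⟩⟩
  rw [h4, h3, map_zero]

end Groth.Agent.H14Lib.RedG
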