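import Mathlib

/-!
# A bound for the degree of a residue field extension of a finite ring map
-/

namespace Groth.Agent.H14Lib.ResDeg

theorem lemmaR {F E RU RV : Type*} [Field F] [Field E] [Algebra F E] [Algebra.IsAlgebraic F E]
    [CommRing RU] [CommRing RV] [Algebra RU RV]
    (evU : RU →+* F) (evV : RV →+* E)
    (hcomp : ∀ a, algebraMap F E (evU a) = evV (algebraMap RU RV a))
    (G : Finset RV) (hG : Submodule.span RU (G : Set RV) = ⊤)
    (hfrac : ∀ e : E, ∃ b s : RV, evV s ≠ 0 ∧ evV s * e = evV b) :
    Module.Finite F E ∧ Module.finrank F E ≤ G.card := by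
  classical
  let W : Subalgebra F E := Algebra.adjoin F (Set.range evV)
  have hcl : (Submonoid.closure (Set.range evV) : Set E) = Set.range evV := by
    have h1 := Submonoid.closure_eq (MonoidHom.mrange (evV : RV →* E))
    have h2 : ((MonoidHom.mrange (evV : RV →* E) : Submonoid E) : Set E) = Set.range evV := rfl
    rw [← h2, h1]
  have hWspan : Subalgebra.toSubmodule W = Submodule.span F (evV '' (G : Set RV)) := by
    rw [Algebra.adjoin_eq_span]
    apply le_antisymm
    · rw [Submodule.span_le, hcl]
      rintro _ ⟨b, rfl⟩
      have hb : b ∈ Submodule.span RU (G : Set RV) := hG ▸ Submodule.mem_top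
      induction hb using Submodule.span_induction with
      | mem x hx => exact Submodule.subset_span ⟨x, hx, rfl⟩
      | zero =>
        rw [map_zero]
        exact zero_mem _
      | add x y _ _ hx hy =>
        rw [map_add]
        exact add_mem hx hy
      | smul a x _ hx =>
        rw [Algebra.smul_def, map_mul, ← hcomp, ← Algebra.smul_def]
        exact Submodule.smul_mem _ _ hx
    · apply Submodule.span_mono
      rw [hcl]
      exact Set.image_subset_range _ _
  have hWtop : W = ⊤ := by
    rw [eq_top_iff]
    intro e _
    obtain ⟨b, s, hs, hbs⟩ := hfrac e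
    have hsW : evV s ∈ W := Algebra.subset_adjoin ⟨s, rfl⟩
    have hbW : evV b ∈ W := Algebra.subset_adjoin ⟨b, rfl⟩
    have hinv : (evV s)⁻¹ ∈ W :=
      W.inv_mem_of_algebraic (x := ⟨evV s, hsW⟩) (Algebra.IsAlgebraic.isAlgebraic _)
    have : e = (evV s)⁻¹ * evV b := by
      rw [← hbs, ← mul_assoc, inv_mul_cancel₀ hs, one_mul]
    rw [this]
    exact W.mul_mem hinv hbW
  have hspan_top : Submodule.span F (evV '' (G : Set RV)) = ⊤ := by
    rw [← hWspan, hWtop]
    rfl
  constructor
  · exact ⟨⟨G.image evV, by rw [Finset.coe_image]; exact hspan_top⟩⟩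
  · calc Module.finrank F E = Module.finrank F (⊤ : Submodule F E) := finrank_top F E |>.symm
      _ = Module.finrank F (Submodule.span F ((G.image evV : Finset E) : Set E)) := by
        rw [Finset.coe_image, hspan_top]
      _ ≤ (G.image evV).card := finrank_span_finset_le_card _
      _ ≤ G.card := Finset.card_image_le

end Groth.Agent.H14Lib.ResDeg
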