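import Mathlib
import Groth.Prelude.Def_Flat
import Groth.Agent.H14Lib.ResDeg1
import Groth.Agent.H16.HTopRes

/-!
# Residue degrees of a finite universal homeomorphism are bounded
-/

open CategoryTheory AlgebraicGeometry

namespace Groth.Agent.H14Lib.ResDeg

universe u

theorem local_bound {T' T : Scheme.{u}} (p : T' ⟶ T) [IsFinite p] (U : T.Opens)
    (hU : IsAffineOpen U) (t' : T') (ht' : p t' ∈ U)
    (G : Finset Γ(T', p ⁻¹ᵁ U))
    (hG : @Submodule.span Γ(T, U) Γ(T', p ⁻¹ᵁ U) _ _ ((p.app U).hom.toAlgebra.toModule)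
      (G : Set Γ(T', p ⁻¹ᵁ U)) = ⊤)
    (halg : @Algebra.IsAlgebraic (T.residueField (p t')) (T'.residueField t') _ _
      (p.residueFieldMap t').hom.toAlgebra) :
    @Module.Finite (T.residueField (p t')) (T'.residueField t') _ _
      (p.residueFieldMap t').hom.toAlgebra.toModule ∧
    @Module.finrank (T.residueField (p t')) (T'.residueField t') _ _
      (p.residueFieldMap t').hom.toAlgebra.toModule ≤ G.card := by
  letI := (p.residueFieldMap t').hom.toAlgebra
  letI := (p.app U).hom.toAlgebra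
  have hV : IsAffineOpen (p ⁻¹ᵁ U) := hU.preimage p
  apply lemmaR (T.evaluation U (p t') ht').hom (T'.evaluation (p ⁻¹ᵁ U) t' ht').hom ?_ G hG ?_
  · intro a
    exact Scheme.evaluation_naturality_apply p t' ht' a
  · intro e
    obtain ⟨x, rfl⟩ := Scheme.residue_surjective T' t' e
    letI : Algebra Γ(T', p ⁻¹ᵁ U) (T'.presheaf.stalk t') :=
      TopCat.Presheaf.algebra_section_stalk T'.presheaf ⟨t', ht'⟩
    haveI hloc : IsLocalization.AtPrime (T'.presheaf.stalk t')
        (hV.primeIdealOf ⟨t', ht'⟩).asIdeal := hV.isLocalization_stalk ⟨t', ht'⟩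
    obtain ⟨⟨b, s⟩, hbs⟩ := IsLocalization.surj (hV.primeIdealOf ⟨t', ht'⟩).asIdeal.primeCompl x
    refine ⟨b, s.1, ?_, ?_⟩
    · have hu : IsUnit (algebraMap Γ(T', p ⁻¹ᵁ U) (T'.presheaf.stalk t') s.1) :=
        IsLocalization.map_units _ s
      have h2 : IsUnit ((T'.residue t').hom (algebraMap Γ(T', p ⁻¹ᵁ U) (T'.presheaf.stalk t') s.1)) :=
        hu.map _
      exact h2.ne_zero
    · have h3 := congrArg (T'.residue t').hom hbs
      rw [map_mul] at h3
      rw [mul_comm]
      exact h3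

theorem main {T' T : Scheme.{u}} (p : T' ⟶ T) [IsFinite p] (hp : FlatMor.IsUnivHomeo p)
    [CompactSpace T] :
    ∃ d : ℕ, 0 < d ∧ ∀ t' : T', ∃ e : ℕ,
      @Module.finrank (T.residueField (p t')) (T'.residueField t') _ _
          (p.residueFieldMap t').hom.toAlgebra.toModule =
        ringExpChar (T.residueField (p t')) ^ e ∧
      ringExpChar (T.residueField (p t')) ^ e ∣ d := by
  classical
  have hcov : ∀ t : T, ∃ U : T.affineOpens, t ∈ U.1 := by
    intro t
    obtain ⟨_, ⟨U, hU, rfl⟩, htU, -⟩ :=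
      T.isBasis_affineOpens.exists_subset_of_mem_open (Set.mem_univ t) isOpen_univ
    exact ⟨⟨U, hU⟩, htU⟩
  choose UU hUU using hcov
  obtain ⟨s, hs⟩ := isCompact_univ.elim_finite_subcover (fun t : T => ((UU t).1 : Set T))
    (fun t => (UU t).1.2) (fun t _ => Set.mem_iUnion.mpr ⟨t, hUU t⟩)
  have hgen : ∀ t : T, ∃ G : Finset Γ(T', p ⁻¹ᵁ (UU t).1),
      @Submodule.span Γ(T, (UU t).1) Γ(T', p ⁻¹ᵁ (UU t).1) _ _
        ((p.app (UU t).1).hom.toAlgebra.toModule) (G : Set Γ(T', p ⁻¹ᵁ (UU t).1)) = ⊤ := by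
    intro t
    have := IsFinite.finite_app p (UU t).1 (UU t).2
    exact this.fg_top
  choose GG hGG using hgen
  refine ⟨(∑ t ∈ s, (GG t).card).factorial, Nat.factorial_pos _, fun t' => ?_⟩
  obtain ⟨t, hts, ht⟩ : ∃ t ∈ s, p t' ∈ (UU t).1 := by
    have := hs (Set.mem_univ (p t'))
    simpa using this
  have hUI := Groth.Agent.Helper16.EtaLib.universallyInjective_of_isUnivHomeo p hp
  have h3 := ((tfae_universallyInjective p).out 0 2).mp hUI
  have hpi := h3.2 t'
  letI := (p.residueFieldMap t').hom.toAlgebra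
  haveI hpi' : IsPurelyInseparable (T.residueField (p t')) (T'.residueField t') := hpi
  haveI : Algebra.IsAlgebraic (T.residueField (p t')) (T'.residueField t') :=
    Algebra.IsIntegral.isAlgebraic
  obtain ⟨hfin, hle⟩ := local_bound p (UU t).1 (UU t).2 t' ht (GG t) (hGG t) inferInstance
  haveI : FiniteDimensional (T.residueField (p t')) (T'.residueField t') := hfin
  obtain ⟨e, he⟩ := IsPurelyInseparable.finrank_eq_pow (F := T.residueField (p t'))
    (T'.residueField t') (ringExpChar (T.residueField (p t')))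
  refine ⟨e, he, ?_⟩
  rw [← he]
  apply Nat.dvd_factorial Module.finrank_pos
  exact hle.trans (Finset.single_le_sum (f := fun t => (GG t).card) (fun _ _ => Nat.zero_le _) hts)

end Groth.Agent.H14Lib.ResDeg
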