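import Mathlib

/-!
# A finite extension satisfying Hamann's criterion, injective on spectra and with trivial
residue field extensions is trivial
-/

namespace Groth.Agent.H14Lib.SemiN

theorem surjective_of_hamann {A S : Type*} [CommRing A] [CommRing S] [Algebra A S]
    [Module.Finite A S]
    (hinj : Function.Injective (algebraMap A S))
    (H1 : ∀ y : S, y ^ 2 ∈ (algebraMap A S).range → y ^ 3 ∈ (algebraMap A S).range →
      y ∈ (algebraMap A S).range)
    (H2 : ∀ Q Q' : Ideal S, Q.IsPrime → Q'.IsPrime →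
      Q.comap (algebraMap A S) = Q'.comap (algebraMap A S) → Q = Q')
    (H3 : ∀ (y : S) (Q : Ideal S), Q.IsPrime → ∃ t a : A, t ∉ Q.comap (algebraMap A S) ∧
      t • y - algebraMap A S a ∈ Q) :
    Function.Surjective (algebraMap A S) := by
  classical
  -- the conductor
  let I : Ideal A :=
    { carrier := {a | ∀ y : S, a • y ∈ (algebraMap A S).range}
      add_mem' := by
        intro a b ha hb y
        rw [add_smul]
        exact add_mem (ha y) (hb y)
      zero_mem' := by
        intro y
        rw [zero_smul]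
        exact zero_mem _
      smul_mem' := by
        intro c a ha y
        rw [smul_eq_mul, mul_comm, mul_smul]
        exact ha (c • y) }
  by_contra hsurj
  have hItop : I ≠ ⊤ := by
    intro h
    apply hsurj
    intro y
    have h1 : (1 : A) ∈ I := h ▸ Submodule.mem_top
    have h2 := h1 y
    rwa [one_smul] at h2
  obtain ⟨⟨p, hp⟩⟩ := Ideal.nonempty_minimalPrimes hItop
  have hpp : p.IsPrime := hp.1.1
  have hIp : I ≤ p := hp.1.2
  let J : Ideal S :=
    { carrier := {y | ∃ a ∈ I, algebraMap A S a = y}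
      add_mem' := by
        rintro _ _ ⟨a, ha, rfl⟩ ⟨b, hb, rfl⟩
        exact ⟨a + b, I.add_mem ha hb, map_add _ _ _⟩
      zero_mem' := ⟨0, I.zero_mem, map_zero _⟩
      smul_mem' := by
        rintro c _ ⟨a, ha, rfl⟩
        obtain ⟨a', ha'⟩ := ha c
        refine ⟨a', ?_, ?_⟩
        · intro y
          have : a' • y = a • (c * y) := by
            rw [Algebra.smul_def, ha', Algebra.smul_def, Algebra.smul_def]
            ring
          rw [this]
          exact ha _
        · rw [ha', smul_eq_mul, Algebra.smul_def, mul_comm] }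
  have hJ : ∀ y, y ∈ J ↔ ∃ a ∈ I, algebraMap A S a = y := fun y => Iff.rfl
  have hJrange : ∀ y ∈ J, y ∈ (algebraMap A S).range := by
    rintro y ⟨a, -, rfl⟩
    exact ⟨a, rfl⟩
  have hJrad : J.IsRadical := by
    rw [Ideal.isRadical_iff_pow_one_lt 2 one_lt_two]
    intro y hy
    obtain ⟨a0, ha0, ha0y⟩ := hy
    have key : ∀ w : S, y * w ∈ (algebraMap A S).range := by
      intro w
      apply H1
      · have : (y * w) ^ 2 = a0 • w ^ 2 := by
          rw [Algebra.smul_def, ha0y]
          ring
        rw [this]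
        exact ha0 _
      · have : (y * w) ^ 3 = a0 • (y * w ^ 3) := by
          rw [Algebra.smul_def, ha0y]
          ring
        rw [this]
        exact ha0 _
    obtain ⟨a, ha⟩ := key 1
    rw [mul_one] at ha
    refine ⟨a, ?_, ha⟩
    intro w
    rw [Algebra.smul_def, ha]
    exact key w
  obtain ⟨Q0, -, hQ0p, hQ0⟩ := Ideal.exists_ideal_over_prime_of_isIntegral p (⊥ : Ideal S) (by
    rw [← RingHom.ker_eq_comap_bot, (RingHom.injective_iff_ker_eq_bot _).mp hinj]
    exact bot_le)
  have claim : ∀ y ∈ Q0, ∃ s : A, s ∉ p ∧ s • y ∈ J := by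
    intro y hy
    by_contra hcon
    push Not at hcon
    let T : Submonoid S := (Submonoid.map (algebraMap A S) p.primeCompl) ⊔ Submonoid.powers y
    have hdisj : Disjoint (J : Set S) T := by
      rw [Set.disjoint_left]
      intro x hxJ hxT
      obtain ⟨u, hu, v, hv, rfl⟩ := Submonoid.mem_sup.mp hxT
      obtain ⟨s, hs, rfl⟩ := hu
      obtain ⟨k, rfl⟩ := hv
      apply hcon s hs
      apply hJrad
      refine ⟨k + 1, ?_⟩
      have : (s • y) ^ (k + 1) = (algebraMap A S s ^ k * y) * (algebraMap A S s * y ^ k) := by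
        rw [Algebra.smul_def]
        ring
      rw [this]
      exact J.mul_mem_left _ hxJ
    obtain ⟨Q, hQp, hJQ, hQT⟩ := Ideal.exists_le_prime_disjoint J T hdisj
    have h1 : I ≤ Q.comap (algebraMap A S) := fun a ha => hJQ ⟨a, ha, rfl⟩
    have h2 : Q.comap (algebraMap A S) ≤ p := by
      intro s hs
      by_contra hsp
      exact Set.disjoint_left.mp hQT hs
        (Submonoid.mem_sup_left (Submonoid.mem_map_of_mem _ hsp))
    have h3 : Q.comap (algebraMap A S) = p :=
      le_antisymm h2 (hp.2 ⟨Ideal.comap_isPrime _ _, h1⟩ h2)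
    have h4 : Q = Q0 := H2 Q Q0 hQp hQ0p (h3.trans hQ0.symm)
    rw [h4] at hQT
    exact Set.disjoint_left.mp hQT hy (Submonoid.mem_sup_right (Submonoid.mem_powers y))
  have hloc : ∀ y : S, ∃ t : A, t ∉ p ∧ t • y ∈ (algebraMap A S).range := by
    intro y
    obtain ⟨t, a, ht, hta⟩ := H3 y Q0 hQ0p
    rw [hQ0] at ht
    obtain ⟨s, hs, hsJ⟩ := claim _ hta
    refine ⟨s * t, hpp.mul_notMem hs ht, ?_⟩
    obtain ⟨a', -, ha'⟩ := hsJ
    refine ⟨a' + s * a, ?_⟩
    rw [map_add, ha', map_mul, mul_smul, smul_sub, Algebra.smul_def s (algebraMap A S a)]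
    ring
  obtain ⟨G, hG⟩ := (Module.Finite.fg_top : (⊤ : Submodule A S).FG)
  choose tt htp htr using hloc
  have htnp : ∏ y ∈ G, tt y ∉ p := by
    intro h
    obtain ⟨y, _, hy⟩ := Ideal.IsPrime.prod_mem_iff.mp h
    exact htp y hy
  have htI : ∏ y ∈ G, tt y ∈ I := by
    intro y
    have hy : y ∈ Submodule.span A (G : Set S) := hG ▸ Submodule.mem_top
    refine Submodule.span_induction
      (p := fun y _ => (∏ y ∈ G, tt y) • y ∈ (algebraMap A S).range) ?_ ?_ ?_ ?_ hy
    · intro y hyG
      have : ∏ y ∈ G, tt y = (∏ z ∈ G.erase y, tt z) * tt y :=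
        (Finset.prod_erase_mul _ _ hyG).symm
      rw [this, mul_smul]
      obtain ⟨a, ha⟩ := htr y
      exact ⟨(∏ z ∈ G.erase y, tt z) * a, by rw [map_mul, ha, ← Algebra.smul_def]⟩
    · rw [smul_zero]
      exact zero_mem _
    · intro x y _ _ hx hy
      rw [smul_add]
      exact add_mem hx hy
    · intro c x _ hx
      rw [smul_comm]
      obtain ⟨a, ha⟩ := hx
      exact ⟨c * a, by rw [map_mul, ha, ← Algebra.smul_def]⟩
  exact htnp (hIp htI)

end Groth.Agent.H14Lib.SemiN
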