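import Mathlib

/-!
# Binomial multiples of powers in purely inseparable extensions
-/

namespace Groth.Agent.H14Lib.SemiN

theorem prime_dvd_choose {q n d j : ℕ} (hq : q.Prime) (hd : q ^ n ∣ d) (hj : ¬ q ^ n ∣ j) :
    q ∣ d.choose j := by
  by_contra h
  apply hj
  cases j with
  | zero => exact dvd_zero _
  | succ j' =>
    cases d with
    | zero => simp at h
    | succ d' =>
      have e := Nat.add_one_mul_choose_eq d' j'
      have hcop : Nat.Coprime (q ^ n) ((d' + 1).choose (j' + 1)) :=
        Nat.Coprime.pow_left n ((Nat.Prime.coprime_iff_not_dvd hq).mpr h)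
      have h1 : q ^ n ∣ (d' + 1).choose (j' + 1) * (j' + 1) := by
        rw [← e]
        exact Dvd.dvd.mul_right hd _
      exact hcop.dvd_of_dvd_mul_left h1

open Polynomial in
theorem choose_mul_pow_mem_range {F E : Type*} [Field F] [Field E] [Algebra F E]
    [IsPurelyInseparable F E] (d : ℕ) (hd : 0 < d) (hdeg : Module.finrank F E ∣ d) (z : E)
    (j : ℕ) : ((d.choose j : ℕ) : E) * z ^ j ∈ (algebraMap F E).range := by
  have hfr : 0 < Module.finrank F E := by
    rcases Nat.eq_zero_or_pos (Module.finrank F E) with h | h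
    · rw [h, zero_dvd_iff] at hdeg
      omega
    · exact h
  haveI : FiniteDimensional F E := Module.finite_of_finrank_pos hfr
  obtain ⟨q, hqF⟩ := ExpChar.exists F
  obtain ⟨n, y, hmin⟩ := IsPurelyInseparable.minpoly_eq_X_pow_sub_C F q z
  have hq1 : 0 < q := by
    cases hqF with
    | zero => exact one_pos
    | prime hp => exact hp.pos
  have hqn : 0 < q ^ n := pow_pos hq1 n
  have hnat : (minpoly F z).natDegree = q ^ n := by
    rw [hmin, natDegree_X_pow_sub_C]
  have hdvd : q ^ n ∣ d := by
    rw [← hnat]
    exact (minpoly.degree_dvd (Algebra.IsIntegral.isIntegral z)).trans hdeg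
  have hz : z ^ q ^ n = algebraMap F E y := by
    have h0 := minpoly.aeval F z
    rw [hmin, map_sub, map_pow, aeval_X, aeval_C, sub_eq_zero] at h0
    exact h0
  by_cases hj : q ^ n ∣ j
  · obtain ⟨m, rfl⟩ := hj
    refine ⟨(d.choose (q ^ n * m) : ℕ) * y ^ m, ?_⟩
    rw [map_mul, map_natCast, map_pow, ← hz, ← pow_mul]
  · cases hqF with
    | zero =>
      exfalso
      apply hj
      rw [one_pow]
      exact one_dvd _
    | prime hp =>
      have hdiv := prime_dvd_choose hp hdvd hj
      haveI : CharP E q := charP_of_injective_algebraMap (algebraMap F E).injective q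
      have : ((d.choose j : ℕ) : E) = 0 := (CharP.cast_eq_zero_iff E q _).mpr hdiv
      rw [this, zero_mul]
      exact zero_mem _

end Groth.Agent.H14Lib.SemiN
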