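import Mathlib
import Groth.Agent.H14Lib.SemiN1

/-!
# Elements of a finite radicial reduced extension of a seminormal ring with trivial residues
-/

namespace Groth.Agent.H14Lib.SemiN

/-- the residue condition -/
def RC (C : Type*) {C' : Type*} [CommRing C] [CommRing C'] [Algebra C C'] (w : C') : Prop :=
  ∀ q : Ideal C', q.IsPrime → ∃ t a : C, t ∉ q.comap (algebraMap C C') ∧
    t • w - algebraMap C C' a ∈ q

theorem isReduced_of_swan {C : Type*} [CommRing C]
    (hC : ∀ x y : C, x ^ 3 = y ^ 2 → ∃! a : C, x = a ^ 2 ∧ y = a ^ 3) : IsReduced C := by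
  rw [isReduced_iff_pow_one_lt 2 one_lt_two]
  intro a ha
  obtain ⟨a0, -, huniq⟩ := hC 0 0 (by ring)
  have h1 : a = a0 := huniq a ⟨ha.symm, by rw [pow_succ, ha, zero_mul]⟩
  have h2 : (0 : C) = a0 := huniq 0 ⟨by ring, by ring⟩
  rw [h1, ← h2]

theorem mem_range_of_RC {C C' : Type*} [CommRing C] [CommRing C'] [Algebra C C']
    [Module.Finite C C'] [IsReduced C']
    (hinj : Function.Injective (algebraMap C C'))
    (hC : ∀ x y : C, x ^ 3 = y ^ 2 → ∃! a : C, x = a ^ 2 ∧ y = a ^ 3)
    (hspec : ∀ q q' : Ideal C', q.IsPrime → q'.IsPrime →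
      q.comap (algebraMap C C') = q'.comap (algebraMap C C') → q = q')
    (y : C') (hy : RC C y) : y ∈ (algebraMap C C').range := by
  classical
  let S : Subalgebra C C' := Algebra.adjoin C {y}
  have hyS : y ∈ S := Algebra.subset_adjoin (Set.mem_singleton y)
  have hRC : ∀ w ∈ S, RC C w := by
    intro w hw
    induction hw using Algebra.adjoin_induction with
    | mem x hx =>
      rw [Set.mem_singleton_iff] at hx
      rw [hx]
      exact hy
    | algebraMap c =>
      intro q hq
      refine ⟨1, c, ?_, ?_⟩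
      · rw [Ideal.mem_comap, map_one]
        exact hq.one_notMem
      · rw [one_smul, sub_self]
        exact q.zero_mem
    | add x1 x2 _ _ h1 h2 =>
      intro q hq
      obtain ⟨t1, a1, ht1, h1⟩ := h1 q hq
      obtain ⟨t2, a2, ht2, h2⟩ := h2 q hq
      haveI := Ideal.comap_isPrime (algebraMap C C') q
      refine ⟨t1 * t2, t2 * a1 + t1 * a2, Ideal.IsPrime.mul_notMem inferInstance ht1 ht2, ?_⟩
      have : (t1 * t2) • (x1 + x2) - algebraMap C C' (t2 * a1 + t1 * a2) =
          algebraMap C C' t2 * (t1 • x1 - algebraMap C C' a1) +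
            algebraMap C C' t1 * (t2 • x2 - algebraMap C C' a2) := by
        simp only [Algebra.smul_def, map_mul, map_add]
        ring
      rw [this]
      exact q.add_mem (q.mul_mem_left _ h1) (q.mul_mem_left _ h2)
    | mul x1 x2 _ _ h1 h2 =>
      intro q hq
      obtain ⟨t1, a1, ht1, h1⟩ := h1 q hq
      obtain ⟨t2, a2, ht2, h2⟩ := h2 q hq
      haveI := Ideal.comap_isPrime (algebraMap C C') q
      refine ⟨t1 * t2, a1 * a2, Ideal.IsPrime.mul_notMem inferInstance ht1 ht2, ?_⟩
      have : (t1 * t2) • (x1 * x2) - algebraMap C C' (a1 * a2) =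
          (t1 • x1) * (t2 • x2 - algebraMap C C' a2) +
            algebraMap C C' a2 * (t1 • x1 - algebraMap C C' a1) := by
        simp only [Algebra.smul_def, map_mul]
        ring
      rw [this]
      exact q.add_mem (q.mul_mem_left _ h2) (q.mul_mem_left _ h1)
  haveI : Algebra.IsIntegral C C' := Algebra.IsIntegral.of_finite C C'
  haveI hfin : Module.Finite C S := by
    have := (Algebra.IsIntegral.isIntegral (R := C) y).fg_adjoin_singleton
    exact Module.Finite.iff_fg.mpr this
  haveI : Algebra.IsIntegral S C' := Algebra.IsIntegral.tower_top (R := C)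
  have hval : ∀ c : C, ((algebraMap C S c : S) : C') = algebraMap C C' c := fun c => rfl
  have hinjS : Function.Injective (algebraMap C S) := by
    intro a b hab
    apply hinj
    rw [← hval, ← hval, hab]
  -- lifting primes of `S` to `C'`
  have hlift : ∀ Q : Ideal S, Q.IsPrime → ∃ q : Ideal C', q.IsPrime ∧
      q.comap (algebraMap S C') = Q := by
    intro Q hQ
    obtain ⟨q, -, hq, hqQ⟩ := Ideal.exists_ideal_over_prime_of_isIntegral Q (⊥ : Ideal C') (by
      rw [← RingHom.ker_eq_comap_bot,
        (RingHom.injective_iff_ker_eq_bot _).mp (Subtype.val_injective : Function.Injective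
          (algebraMap S C'))]
      exact bot_le)
    exact ⟨q, hq, hqQ⟩
  have hcomap : ∀ (q : Ideal C'), (q.comap (algebraMap S C')).comap (algebraMap C S) =
      q.comap (algebraMap C C') := fun q => rfl
  have hsurj : Function.Surjective (algebraMap C S) := by
    apply surjective_of_hamann hinjS
    · -- Hamann's criterion
      rintro ⟨w, hw⟩ ⟨a, ha⟩ ⟨b, hb⟩
      have ha' : algebraMap C C' a = w ^ 2 := congrArg Subtype.val ha
      have hb' : algebraMap C C' b = w ^ 3 := congrArg Subtype.val hb
      have hab : a ^ 3 = b ^ 2 := by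
        apply hinj
        rw [map_pow, map_pow, ha', hb']
        ring
      obtain ⟨c, ⟨hc2, hc3⟩, -⟩ := hC a b hab
      have h2 : algebraMap C C' c ^ 2 = w ^ 2 := by rw [← map_pow, ← hc2, ha']
      have h3 : algebraMap C C' c ^ 3 = w ^ 3 := by rw [← map_pow, ← hc3, hb']
      have hnil : (algebraMap C C' c - w) ^ 3 = 0 := by
        have : (algebraMap C C' c - w) ^ 3 = algebraMap C C' c ^ 3 -
            3 * (algebraMap C C' c ^ 2) * w + 3 * (algebraMap C C' c) * w ^ 2 - w ^ 3 := by ring
        rw [this, h2]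
        have h4 : algebraMap C C' c * w ^ 2 = w ^ 3 := by
          rw [← h2, ← h3]
          ring
        linear_combination h3 + 3 * h4
      have heq : algebraMap C C' c = w := by
        have := IsReduced.eq_zero _ ⟨3, hnil⟩
        exact sub_eq_zero.mp this
      exact ⟨c, Subtype.ext heq⟩
    · -- injectivity on spectra
      intro Q Q' hQ hQ' hQQ'
      obtain ⟨q, hq, rfl⟩ := hlift Q hQ
      obtain ⟨q', hq', rfl⟩ := hlift Q' hQ'
      rw [hcomap, hcomap] at hQQ'
      rw [hspec q q' hq hq' hQQ']
    · -- residue condition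
      rintro ⟨w, hw⟩ Q hQ
      obtain ⟨q, hq, rfl⟩ := hlift Q hQ
      obtain ⟨t, a, ht, hta⟩ := hRC w hw q hq
      exact ⟨t, a, ht, hta⟩
  obtain ⟨c, hc⟩ := hsurj ⟨y, hyS⟩
  exact ⟨c, congrArg Subtype.val hc⟩

end Groth.Agent.H14Lib.SemiN
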