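import Mathlib
import Groth.Agent.H14Lib.SemiN2
import Groth.Agent.H14Lib.SemiN3
import Groth.Agent.H14Lib.ElSym2
import Groth.Agent.H16.HTopRes

/-!
# The multiplication of a symmetric tensor lands in a seminormal ring
-/

open scoped TensorProduct
open CategoryTheory AlgebraicGeometry

namespace Groth.Agent.H14Lib.SemiN

universe u

section

variable (A B : Type u) [CommRing A] [CommRing B] [Algebra A B] (d : ℕ)

/-- multiplication of the tensor power as algebra hom -/
noncomputable def mAlg : (⨂[A] _ : Fin d, B) →ₐ[A] B :=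
  PiTensorProduct.liftAlgHom (MultilinearMap.mkPiAlgebra A (Fin d) B)
    (by simp)
    (by intro x y; simp [Finset.prod_mul_distrib])

theorem mAlg_apply (x : ⨂[A] _ : Fin d, B) :
    mAlg A B d x = PiTensorProduct.lift (MultilinearMap.mkPiAlgebra A (Fin d) B) x := rfl

theorem mAlg_sigma (b : B) (j : ℕ) :
    mAlg A B d (∑ I ∈ (Finset.univ : Finset (Fin d)).powersetCard j,
      PiTensorProduct.tprod A (fun i => if i ∈ I then b else 1)) = (d.choose j : ℕ) • b ^ j := by
  classical
  rw [map_sum]
  have : ∀ I ∈ (Finset.univ : Finset (Fin d)).powersetCard j,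
      mAlg A B d (PiTensorProduct.tprod A (fun i => if i ∈ I then b else 1)) = b ^ j := by
    intro I hI
    rw [mAlg_apply, PiTensorProduct.lift.tprod, MultilinearMap.mkPiAlgebra_apply,
      Finset.prod_ite_mem, Finset.univ_inter, Finset.prod_const, (Finset.mem_powersetCard.mp hI).2]
  rw [Finset.sum_congr rfl this, Finset.sum_const, Finset.card_powersetCard, Finset.card_univ,
    Fintype.card_fin]

end

theorem key (C C' : Type u) [CommRing C] [CommRing C']
    (hC : HTop.IsSeminormalRing C)
    (g : C →+* C') [IsReduced C'] (hfin : g.Finite)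
    (hg : FlatMor.IsUnivHomeo (Spec.map (CommRingCat.ofHom g)))
    (d : ℕ) (hd : 0 < d)
    (hdeg : ∀ q : PrimeSpectrum C',
      @Module.finrank (PrimeSpectrum.comap g q).asIdeal.ResidueField q.asIdeal.ResidueField _ _
          (Ideal.ResidueField.map (PrimeSpectrum.comap g q).asIdeal q.asIdeal g
            rfl).toAlgebra.toModule ∣ d) (c : C') (j : ℕ) :
    ((d.choose j : ℕ) : C') * c ^ j ∈ g.range := by
  letI : Algebra C C' := g.toAlgebra
  haveI : Module.Finite C C' := hfin
  have hbij : Function.Bijective (PrimeSpectrum.comap g) := by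
    have := MorphismProperty.universally_le _ _ hg
    exact (isHomeomorph_iff_continuous_isClosedMap_bijective.mp this).2.2
  haveI := isReduced_of_swan hC
  have hinj : Function.Injective (algebraMap C C') := by
    rw [injective_iff_map_eq_zero]
    intro a ha
    apply IsReduced.eq_zero
    rw [nilpotent_iff_mem_prime]
    intro p hp
    obtain ⟨q, hq⟩ := hbij.2 ⟨p, hp⟩
    have h1 : a ∈ (PrimeSpectrum.comap g q).asIdeal := by
      show g a ∈ q.asIdeal
      have h0 : g a = 0 := ha
      rw [h0]
      exact q.asIdeal.zero_mem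
    rw [hq] at h1
    exact h1
  have hspec : ∀ q q' : Ideal C', q.IsPrime → q'.IsPrime →
      q.comap (algebraMap C C') = q'.comap (algebraMap C C') → q = q' := by
    intro q q' hq hq' h
    have := @hbij.1 ⟨q, hq⟩ ⟨q', hq'⟩ (PrimeSpectrum.ext h)
    exact congrArg PrimeSpectrum.asIdeal this
  have hRC : RC C (((d.choose j : ℕ) : C') * c ^ j) := by
    intro q hq
    let 𝔮 : PrimeSpectrum C' := ⟨q, hq⟩
    let p : Ideal C := (PrimeSpectrum.comap g 𝔮).asIdeal
    let ρ : p.ResidueField →+* q.ResidueField := Ideal.ResidueField.map p q g rfl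
    letI : Algebra p.ResidueField q.ResidueField := ρ.toAlgebra
    have hUI := Groth.Agent.Helper16.EtaLib.universallyInjective_of_isUnivHomeo _ hg
    haveI : IsPurelyInseparable p.ResidueField q.ResidueField := by
      rw [isPurelyInseparable_iff_pow_mem p.ResidueField (ringExpChar p.ResidueField)]
      intro z
      obtain ⟨n, w, hn⟩ :=
        Groth.Agent.Helper16.EtaLib.pow_mem_range_of_universallyInjective g hUI 𝔮 z
      exact ⟨n, w, hn⟩
    obtain ⟨w, hw⟩ := choose_mul_pow_mem_range d hd (hdeg 𝔮) (algebraMap C' q.ResidueField c) j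
    obtain ⟨⟨x1, x2⟩, hx⟩ := IsLocalization.surj (nonZeroDivisors (C ⧸ p)) w
    obtain ⟨a, rfl⟩ := Ideal.Quotient.mk_surjective x1
    obtain ⟨t, ht⟩ := Ideal.Quotient.mk_surjective x2.1
    have htp : t ∉ p := by
      intro h
      have h0 : (x2 : C ⧸ p) = 0 := by
        rw [← ht]
        exact Ideal.Quotient.eq_zero_iff_mem.mpr h
      exact nonZeroDivisors.coe_ne_zero x2 h0
    refine ⟨t, a, htp, ?_⟩
    rw [← Ideal.algebraMap_residueField_eq_zero (I := q)]
    have hx' : w * algebraMap C p.ResidueField t = algebraMap C p.ResidueField a := by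
      have := hx
      simp only [← ht] at this
      exact this
    have e1 : ρ (algebraMap C p.ResidueField t) = algebraMap C' q.ResidueField (g t) :=
      Ideal.ResidueField.map_algebraMap p q g rfl t
    have e2 : ρ (algebraMap C p.ResidueField a) = algebraMap C' q.ResidueField (g a) :=
      Ideal.ResidueField.map_algebraMap p q g rfl a
    have e3 : ρ w = ((d.choose j : ℕ) : q.ResidueField) * (algebraMap C' q.ResidueField c) ^ j := hw
    have e4 : t • (((d.choose j : ℕ) : C') * c ^ j) - algebraMap C C' a =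
        g t * (((d.choose j : ℕ) : C') * c ^ j) - g a := by
      rw [Algebra.smul_def]
      rfl
    rw [e4, map_sub, map_mul, map_mul, map_natCast, map_pow, ← e3, ← e1, ← e2, ← map_mul,
      ← map_sub, mul_comm, hx', sub_self, map_zero]
  obtain ⟨a, ha⟩ := mem_range_of_RC hinj hC hspec _ hRC
  exact ⟨a, ha⟩

theorem main (A C C' B : Type u) [CommRing A] [CommRing C] [CommRing C'] [CommRing B]
    [Algebra A C] [Algebra A C'] [Algebra A B] (hC : HTop.IsSeminormalRing C)
    (g : C →ₐ[A] C') [IsReduced C'] (hfin : g.toRingHom.Finite)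
    (hg : FlatMor.IsUnivHomeo (Spec.map (CommRingCat.ofHom g.toRingHom)))
    (d : ℕ) (hd : 0 < d)
    (hdeg : ∀ q : PrimeSpectrum C',
      @Module.finrank (PrimeSpectrum.comap g.toRingHom q).asIdeal.ResidueField
          q.asIdeal.ResidueField _ _
          (Ideal.ResidueField.map (PrimeSpectrum.comap g.toRingHom q).asIdeal q.asIdeal
            g.toRingHom rfl).toAlgebra.toModule ∣ d)
    [Module.Flat A B] (φ : B →ₐ[A] C') (x : ⨂[A] _ : Fin d, B) (hx : x ∈ SymTen.TS A B d) :
    φ (PiTensorProduct.lift (MultilinearMap.mkPiAlgebra A (Fin d) B) x) ∈ g.range := by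
  have hx' : x ∈ Groth.Agent.H14Lib.ElSym.Sg A B d := Groth.Agent.H14Lib.ElSym.TS_le_Sg A B d hx
  have hle : Groth.Agent.H14Lib.ElSym.Sg A B d ≤
      Subalgebra.comap (φ.comp (mAlg A B d)) g.range := by
    apply Algebra.adjoin_le
    rintro t ⟨b, j, rfl⟩
    show φ (mAlg A B d _) ∈ g.range
    rw [mAlg_sigma, map_nsmul, map_pow, nsmul_eq_mul]
    exact key C C' hC g.toRingHom hfin hg d hd hdeg (φ b) j
  exact hle hx'

end Groth.Agent.H14Lib.SemiN
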