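import Mathlib

/-!
# Serre's proposition on sections in general position (helper14)

Over a ring `R` whose maximal spectrum `Ω` is a Noetherian space and an `R`-module `M`, for
`x ∈ Ω` let `V(x) = M(x)/B(x)` be the quotient of `M/xM` by the classes killed by every linear
form.  We prove Serre's proposition: sections can be put in general position.
-/

set_option autoImplicit false
set_option linter.style.haveILetI false

namespace Groth.Agent.H14Lib.Serre

universe u
open TopologicalSpace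

variable {R : Type u} [CommRing R] {M : Type u} [AddCommGroup M] [Module R M]

variable (R M) in
/-- The classes of elements killed modulo `x` by all linear forms. -/
def Bq (x : MaximalSpectrum R) :
    Submodule (R ⧸ x.asIdeal) (M ⧸ (x.asIdeal • ⊤ : Submodule R M)) :=
  Submodule.span (R ⧸ x.asIdeal)
    ((x.asIdeal • ⊤ : Submodule R M).mkQ '' {m : M | ∀ φ : M →ₗ[R] R, φ m ∈ x.asIdeal})

variable (R M) in
/-- The vector space `V(x)`. -/
abbrev Vx (x : MaximalSpectrum R) := (M ⧸ (x.asIdeal • ⊤ : Submodule R M)) ⧸ Bq R M x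

/-- The image of `m` in `V(x)`. -/
def img (x : MaximalSpectrum R) (m : M) : Vx R M x :=
  (Bq R M x).mkQ ((x.asIdeal • ⊤ : Submodule R M).mkQ m)

noncomputable instance fieldK (x : MaximalSpectrum R) : Field (R ⧸ x.asIdeal) :=
  Ideal.Quotient.field x.asIdeal

/-- `img` as an additive map. -/
def imgHom (x : MaximalSpectrum R) : M →+ Vx R M x :=
  ((Bq R M x).mkQ.toAddMonoidHom).comp ((x.asIdeal • ⊤ : Submodule R M).mkQ.toAddMonoidHom)

theorem imgHom_apply (x : MaximalSpectrum R) (m : M) : imgHom x m = img x m := rfl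

theorem img_add (x : MaximalSpectrum R) (m m' : M) : img x (m + m') = img x m + img x m' := by
  rw [← imgHom_apply, map_add]; rfl

theorem img_zero (x : MaximalSpectrum R) : img x (0 : M) = 0 := by
  rw [← imgHom_apply, map_zero]

theorem img_sum {ι : Type*} (x : MaximalSpectrum R) (s : Finset ι) (f : ι → M) :
    img x (∑ i ∈ s, f i) = ∑ i ∈ s, img x (f i) := by
  rw [← imgHom_apply, map_sum]; rfl

theorem img_smul (x : MaximalSpectrum R) (r : R) (m : M) :
    img x (r • m) = (Ideal.Quotient.mk x.asIdeal r) • img x m := by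
  show (Bq R M x).mkQ (Submodule.Quotient.mk (r • m)) =
    (Ideal.Quotient.mk x.asIdeal r) • (Bq R M x).mkQ (Submodule.Quotient.mk m)
  rw [← map_smul]
  rfl

theorem img_surjective (x : MaximalSpectrum R) (z : Vx R M x) : ∃ m : M, img x m = z := by
  obtain ⟨z', rfl⟩ := (Bq R M x).mkQ_surjective z
  obtain ⟨m, rfl⟩ := (x.asIdeal • ⊤ : Submodule R M).mkQ_surjective z'
  exact ⟨m, rfl⟩

theorem map_mem_of_mem_smul_top (I : Ideal R) (φ : M →ₗ[R] R) {z : M}
    (hz : z ∈ (I • ⊤ : Submodule R M)) : φ z ∈ I := by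
  refine Submodule.smul_induction_on hz (fun r hr n _ => ?_) (fun a b ha hb => ?_)
  · rw [map_smul, smul_eq_mul]; exact I.mul_mem_right _ hr
  · rw [map_add]; exact I.add_mem ha hb

theorem mem_Bq_iff (x : MaximalSpectrum R) (z : M ⧸ (x.asIdeal • ⊤ : Submodule R M)) :
    z ∈ Bq R M x ↔ ∃ m : M, (∀ φ : M →ₗ[R] R, φ m ∈ x.asIdeal) ∧
      (x.asIdeal • ⊤ : Submodule R M).mkQ m = z := by
  constructor
  · intro hz
    unfold Bq at hz
    induction hz using Submodule.span_induction with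
    | mem z hz => exact hz
    | zero => exact ⟨0, fun φ => by rw [map_zero]; exact Ideal.zero_mem _, map_zero _⟩
    | add a b _ _ ha hb =>
      obtain ⟨m, hm, rfl⟩ := ha
      obtain ⟨m', hm', rfl⟩ := hb
      exact ⟨m + m', fun φ => by rw [map_add]; exact Ideal.add_mem _ (hm φ) (hm' φ), map_add _ _ _⟩
    | smul c a _ ha =>
      obtain ⟨m, hm, rfl⟩ := ha
      obtain ⟨r, rfl⟩ := Ideal.Quotient.mk_surjective c
      exact ⟨r • m, fun φ => by
        rw [map_smul, smul_eq_mul]; exact Ideal.mul_mem_left _ _ (hm φ), rfl⟩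
  · rintro ⟨m, hm, rfl⟩
    exact Submodule.subset_span ⟨m, hm, rfl⟩

theorem img_eq_zero_iff (x : MaximalSpectrum R) (m : M) :
    img x m = 0 ↔ ∀ φ : M →ₗ[R] R, φ m ∈ x.asIdeal := by
  unfold img
  rw [Submodule.mkQ_apply, Submodule.Quotient.mk_eq_zero, mem_Bq_iff]
  constructor
  · rintro ⟨m', hm', h⟩ φ
    have h1 : m' - m ∈ (x.asIdeal • ⊤ : Submodule R M) := by
      rw [← Submodule.Quotient.eq]; exact h
    have h2 : φ (m' - m) ∈ x.asIdeal := map_mem_of_mem_smul_top _ φ h1
    have h3 : φ m = φ m' - φ (m' - m) := by rw [map_sub]; ring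
    rw [h3]; exact Ideal.sub_mem _ (hm' φ) h2
  · intro h; exact ⟨m, h, rfl⟩

/-! ### Independence and determinants -/

theorem indep_of_det {r : ℕ} (x : MaximalSpectrum R) (u : Fin r → M)
    (Φ : Fin r → (M →ₗ[R] R))
    (hdet : (Matrix.of fun a b => Φ a (u b)).det ∉ x.asIdeal) :
    LinearIndependent (R ⧸ x.asIdeal) (fun b => img x (u b)) := by
  rw [Fintype.linearIndependent_iff]
  intro g hg b
  choose c hc using fun b => Ideal.Quotient.mk_surjective (g b)
  have h1 : img x (∑ b, c b • u b) = 0 := by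
    rw [img_sum, ← hg]
    refine Finset.sum_congr rfl fun b _ => ?_
    rw [img_smul, hc]
  rw [img_eq_zero_iff] at h1
  set A : Matrix (Fin r) (Fin r) R := Matrix.of fun a b => Φ a (u b) with hA
  have h2 : ∀ a, (A.mulVec c) a ∈ x.asIdeal := by
    intro a
    have h := h1 (Φ a)
    rw [map_sum] at h
    have : (A.mulVec c) a = ∑ b, (Φ a) (c b • u b) := by
      simp only [Matrix.mulVec, dotProduct, hA, Matrix.of_apply, map_smul, smul_eq_mul]
      exact Finset.sum_congr rfl fun b _ => mul_comm _ _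
    rw [this]; exact h
  have h3 : A.det * c b ∈ x.asIdeal := by
    have : (A.adjugate.mulVec (A.mulVec c)) b = A.det * c b := by
      rw [Matrix.mulVec_mulVec, Matrix.adjugate_mul, Matrix.smul_mulVec, Matrix.one_mulVec]
      rfl
    rw [← this]
    simp only [Matrix.mulVec, dotProduct]
    exact Ideal.sum_mem _ fun a _ => Ideal.mul_mem_left _ _ (h2 a)
  have h4 : c b ∈ x.asIdeal := (x.isMaximal.isPrime.mem_or_mem h3).resolve_left hdet
  rw [← hc b]; exact Ideal.Quotient.eq_zero_iff_mem.mpr h4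

theorem exists_dual_of_indep {r : ℕ} (x : MaximalSpectrum R) (u : Fin r → M)
    (hu : LinearIndependent (R ⧸ x.asIdeal) (fun b => img x (u b))) :
    ∃ Φ : Fin r → (M →ₗ[R] R), ∀ a b, Φ a (u b) - (if a = b then 1 else 0) ∈ x.asIdeal := by
  classical
  obtain ⟨ev, hev⟩ : ∃ ev : (M →ₗ[R] R) → (Fin r → R ⧸ x.asIdeal),
      ∀ φ b, ev φ b = Ideal.Quotient.mk x.asIdeal (φ (u b)) := ⟨_, fun _ _ => rfl⟩
  have hrange : ∀ z ∈ Submodule.span (R ⧸ x.asIdeal) (Set.range ev), z ∈ Set.range ev := by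
    intro z hz
    induction hz using Submodule.span_induction with
    | mem z hz => exact hz
    | zero => exact ⟨0, by ext b; rw [hev]; simp⟩
    | add a b _ _ ha hb =>
      obtain ⟨φ, rfl⟩ := ha
      obtain ⟨ψ, rfl⟩ := hb
      exact ⟨φ + ψ, by ext b; rw [Pi.add_apply, hev, hev, hev]; simp⟩
    | smul c a _ ha =>
      obtain ⟨φ, rfl⟩ := ha
      obtain ⟨t, rfl⟩ := Ideal.Quotient.mk_surjective c
      exact ⟨t • φ, by ext b; rw [Pi.smul_apply, hev, hev]; simp⟩
  have htop : Submodule.span (R ⧸ x.asIdeal) (Set.range ev) = ⊤ := by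
    by_contra hne
    obtain ⟨f, hf0, hfker⟩ := Submodule.exists_le_ker_of_lt_top _ (lt_top_iff_ne_top.mpr hne)
    choose c hc using fun b : Fin r =>
      Ideal.Quotient.mk_surjective (f fun j => if b = j then 1 else 0)
    have hall : ∀ φ : M →ₗ[R] R, φ (∑ b, c b • u b) ∈ x.asIdeal := by
      intro φ
      have h1 : f (ev φ) = 0 := hfker (Submodule.subset_span ⟨φ, rfl⟩)
      rw [LinearMap.pi_apply_eq_sum_univ f (ev φ)] at h1
      rw [← Ideal.Quotient.eq_zero_iff_mem, map_sum, map_sum, ← h1]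
      refine Finset.sum_congr rfl fun b _ => ?_
      rw [map_smul, smul_eq_mul, map_mul, hc b, hev, smul_eq_mul, mul_comm]
    have h2 : img x (∑ b, c b • u b) = 0 := (img_eq_zero_iff x _).mpr hall
    rw [img_sum] at h2
    have h3 : ∑ b, (f fun j => if b = j then 1 else 0) • img x (u b) = 0 := by
      rw [← h2]; refine Finset.sum_congr rfl fun b _ => ?_
      rw [img_smul, hc]
    have h4 := Fintype.linearIndependent_iff.mp hu _ h3
    apply hf0
    apply LinearMap.ext
    intro z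
    rw [LinearMap.pi_apply_eq_sum_univ f z]
    simp [h4]
  have hmem : ∀ a : Fin r, (fun b => if a = b then (1 : R ⧸ x.asIdeal) else 0) ∈ Set.range ev := by
    intro a
    apply hrange
    rw [htop]; exact Submodule.mem_top
  choose Φ hΦ using hmem
  refine ⟨Φ, fun a b => ?_⟩
  have h1 := congrFun (hΦ a) b
  rw [hev] at h1
  rw [← Ideal.Quotient.mk_eq_mk_iff_sub_mem, h1]
  split_ifs <;> simp

theorem det_notMem_of_dual {r : ℕ} (x : MaximalSpectrum R) (u : Fin r → M)
    (Φ : Fin r → (M →ₗ[R] R))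
    (h : ∀ a b, Φ a (u b) - (if a = b then 1 else 0) ∈ x.asIdeal) :
    (Matrix.of fun a b => Φ a (u b)).det ∉ x.asIdeal := by
  classical
  intro hmem
  have h1 : (Ideal.Quotient.mk x.asIdeal) (Matrix.of fun a b => Φ a (u b)).det = 0 :=
    Ideal.Quotient.eq_zero_iff_mem.mpr hmem
  rw [RingHom.map_det] at h1
  have h2 : (Ideal.Quotient.mk x.asIdeal).mapMatrix (Matrix.of fun a b => Φ a (u b)) = 1 := by
    ext a b
    have h3 := h a b
    rw [← Ideal.Quotient.mk_eq_mk_iff_sub_mem] at h3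
    simp only [RingHom.mapMatrix_apply, Matrix.map_apply, Matrix.of_apply, Matrix.one_apply]
    rw [h3]; split_ifs <;> simp
  rw [h2, Matrix.det_one] at h1
  exact one_ne_zero h1

theorem isOpen_D (d : R) : IsOpen {y : MaximalSpectrum R | d ∉ y.asIdeal} :=
  (PrimeSpectrum.basicOpen d).isOpen.preimage MaximalSpectrum.toPrimeSpectrum_continuous

/-- The locus where a finite family is dependent in `V(x)`. -/
def ZZ {r : ℕ} (u : Fin r → M) : Set (MaximalSpectrum R) :=
  {x | ¬ LinearIndependent (R ⧸ x.asIdeal) (fun b => img x (u b))}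

theorem isClosed_ZZ {r : ℕ} (u : Fin r → M) : IsClosed (ZZ (R := R) u) := by
  rw [← isOpen_compl_iff, isOpen_iff_forall_mem_open]
  intro x hx
  have hx' : LinearIndependent (R ⧸ x.asIdeal) (fun b => img x (u b)) := not_not.mp hx
  obtain ⟨Φ, hΦ⟩ := exists_dual_of_indep x u hx'
  have hdet := det_notMem_of_dual x u Φ hΦ
  refine ⟨{y | (Matrix.of fun a b => Φ a (u b)).det ∉ y.asIdeal}, ?_, isOpen_D _, hdet⟩
  intro y hy
  exact not_not.mpr (indep_of_det y u Φ hy)

/-! ### Ideals of subsets of the maximal spectrum -/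

/-- The ideal of functions vanishing on `Y`. -/
def II (Y : Set (MaximalSpectrum R)) : Ideal R := ⨅ x ∈ Y, x.asIdeal

theorem mem_II {Y : Set (MaximalSpectrum R)} {a : R} : a ∈ II Y ↔ ∀ x ∈ Y, a ∈ x.asIdeal := by
  simp [II]

theorem mem_of_II_le {Y : Set (MaximalSpectrum R)} (hY : IsClosed Y) {x : MaximalSpectrum R}
    (h : II Y ≤ x.asIdeal) : x ∈ Y := by
  rw [isClosed_induced_iff] at hY
  obtain ⟨C, hC, rfl⟩ := hY
  obtain ⟨J, rfl⟩ := (PrimeSpectrum.isClosed_iff_zeroLocus_ideal C).mp hC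
  show x.toPrimeSpectrum ∈ PrimeSpectrum.zeroLocus (J : Set R)
  rw [PrimeSpectrum.mem_zeroLocus]
  intro a ha
  apply h
  rw [mem_II]
  intro y hy
  exact hy ha

theorem II_isPrime {Y : Set (MaximalSpectrum R)} (hY : IsIrreducible Y) : (II Y).IsPrime := by
  rw [Ideal.isPrime_iff]
  constructor
  · intro htop
    obtain ⟨y, hy⟩ := hY.nonempty
    have : (1 : R) ∈ y.asIdeal := mem_II.mp (htop ▸ Submodule.mem_top) y hy
    exact y.isMaximal.ne_top ((Ideal.eq_top_iff_one _).mpr this)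
  · intro a b hab
    by_contra hcon
    push Not at hcon
    obtain ⟨ha, hb⟩ := hcon
    rw [mem_II] at ha hb
    push Not at ha hb
    obtain ⟨y, hyY, hya⟩ := ha
    obtain ⟨z, hzY, hzb⟩ := hb
    obtain ⟨w, hwY, hwa, hwb⟩ := hY.isPreirreducible _ _ (isOpen_D a) (isOpen_D b)
      ⟨y, hyY, hya⟩ ⟨z, hzY, hzb⟩
    have := mem_II.mp hab w hwY
    exact (w.isMaximal.isPrime.mem_or_mem this).elim hwa hwb

/-! ### Codimension bookkeeping -/

/-- Every irreducible closed subset of `Y` has coheight at least `j`. -/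
def CC (j : ℕ) (Y : Set (MaximalSpectrum R)) : Prop :=
  ∀ Z : IrreducibleCloseds (MaximalSpectrum R), (Z : Set (MaximalSpectrum R)) ⊆ Y →
    (j : ℕ∞) ≤ Order.coheight Z

theorem CC_mono {j : ℕ} {Y Y' : Set (MaximalSpectrum R)} (h : Y ⊆ Y') (hY' : CC j Y') :
    CC j Y := fun Z hZ => hY' Z (hZ.trans h)

theorem CC_succ_of_ssubset {j : ℕ} {G Y : Set (MaximalSpectrum R)} (hG : IsIrreducible G)
    (hGc : IsClosed G) (hCG : CC j G) (hYG : Y ⊆ G) (hne : ¬ G ⊆ Y) : CC (j + 1) Y := by
  intro Z hZ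
  have hlt : Z < (⟨G, hG, hGc⟩ : IrreducibleCloseds (MaximalSpectrum R)) := by
    refine lt_of_le_of_ne (fun z hz => hYG (hZ hz)) ?_
    intro heq
    apply hne
    intro g hg
    apply hZ
    rw [heq]; exact hg
  have h1 := Order.coheight_add_one_le hlt
  have h2 : (j : ℕ∞) ≤ Order.coheight (⟨G, hG, hGc⟩ : IrreducibleCloseds (MaximalSpectrum R)) :=
    hCG _ (fun z hz => hz)
  calc ((j + 1 : ℕ) : ℕ∞) = (j : ℕ∞) + 1 := by push_cast; rfl
    _ ≤ Order.coheight (⟨G, hG, hGc⟩ : IrreducibleCloseds (MaximalSpectrum R)) + 1 := by gcongr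
    _ ≤ Order.coheight Z := h1

/-! ### Linear algebra with `Fin.snoc` -/

theorem snoc_img {h : ℕ} (x : MaximalSpectrum R) (s : Fin h → M) (t : M) :
    (fun j => img x ((Fin.snoc s t : Fin (h + 1) → M) j)) =
      (Fin.snoc (fun i => img x (s i)) (img x t) : Fin (h + 1) → Vx R M x) := by
  funext j
  refine Fin.lastCases ?_ (fun i => ?_) j
  · simp only [Fin.snoc_last]
  · simp only [Fin.snoc_castSucc]

section VS
variable {K V : Type*} [Field K] [AddCommGroup V] [Module K V]

theorem vs1 {h : ℕ} (e : Fin h → V) (p q : V) (c : K)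
    (hp : LinearIndependent K (Fin.snoc e p : Fin (h + 1) → V))
    (hmem : p + c • q ∈ Submodule.span K (Set.range e)) :
    ¬ LinearIndependent K (Fin.snoc (Fin.snoc e p : Fin (h + 1) → V) q : Fin (h + 2) → V) := by
  intro hLI
  rw [linearIndependent_finSnoc] at hLI hp
  obtain ⟨_, hq⟩ := hLI
  obtain ⟨_, hpn⟩ := hp
  have hsub : Submodule.span K (Set.range e) ≤
      Submodule.span K (Set.range (Fin.snoc e p : Fin (h + 1) → V)) := by
    apply Submodule.span_mono
    rintro _ ⟨i, rfl⟩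
    exact ⟨i.castSucc, by simp⟩
  have hpin : p ∈ Submodule.span K (Set.range (Fin.snoc e p : Fin (h + 1) → V)) :=
    Submodule.subset_span ⟨Fin.last h, by simp⟩
  by_cases hc : c = 0
  · rw [hc, zero_smul, add_zero] at hmem
    exact hpn hmem
  · have h1 : c • q ∈ Submodule.span K (Set.range (Fin.snoc e p : Fin (h + 1) → V)) := by
      have : c • q = (p + c • q) - p := by abel
      rw [this]
      exact Submodule.sub_mem _ (hsub hmem) hpin
    have h2 : q = c⁻¹ • (c • q) := by rw [smul_smul, inv_mul_cancel₀ hc, one_smul]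
    rw [h2] at hq
    exact hq (Submodule.smul_mem _ _ h1)

theorem vs2 {h : ℕ} (e : Fin h → V) (p q : V) (c : K) (hc : c ≠ 0)
    (hp : p ∈ Submodule.span K (Set.range e)) (hq : q ∉ Submodule.span K (Set.range e)) :
    p + c • q ∉ Submodule.span K (Set.range e) := by
  intro hmem
  have h1 : c • q ∈ Submodule.span K (Set.range e) := by
    have : c • q = (p + c • q) - p := by abel
    rw [this]
    exact Submodule.sub_mem _ hmem hp
  have h2 : q = c⁻¹ • (c • q) := by rw [smul_smul, inv_mul_cancel₀ hc, one_smul]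
  rw [h2] at hq
  exact hq (Submodule.smul_mem _ _ h1)

end VS

theorem exists_notMem_span {h : ℕ} (x : MaximalSpectrum R) (s : Fin h → M)
    (hd : h + 1 ≤ Module.finrank (R ⧸ x.asIdeal) (Vx R M x)) :
    ∃ m : M, img x m ∉ Submodule.span (R ⧸ x.asIdeal) (Set.range fun i => img x (s i)) := by
  by_contra hall
  push Not at hall
  have htop : Submodule.span (R ⧸ x.asIdeal) (Set.range fun i => img x (s i)) = ⊤ := by
    rw [eq_top_iff]
    intro z _
    obtain ⟨m, rfl⟩ := img_surjective x z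
    exact hall m
  have h1 := finrank_range_le_card (R := R ⧸ x.asIdeal) (fun i => img x (s i))
  unfold Set.finrank at h1
  rw [htop, finrank_top, Fintype.card_fin] at h1
  omega

/-! ### Interpolation -/

theorem exists_interp_coeff (X : Finset (MaximalSpectrum R)) (y : MaximalSpectrum R)
    (hy : y ∉ X) : ∃ a : R, (∀ x ∈ X, a ∈ x.asIdeal) ∧ a - 1 ∈ y.asIdeal := by
  classical
  have hnot : ¬ X.inf (fun x => x.asIdeal) ≤ y.asIdeal := by
    intro hle
    obtain ⟨x, hxX, hxy⟩ := (Ideal.IsPrime.inf_le' y.isMaximal.isPrime).mp hle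
    have : x.asIdeal = y.asIdeal := x.isMaximal.eq_of_le y.isMaximal.ne_top hxy
    exact hy ((MaximalSpectrum.ext this) ▸ hxX)
  obtain ⟨b, hbJ, hby⟩ := SetLike.not_le_iff_exists.mp hnot
  have hb0 : Ideal.Quotient.mk y.asIdeal b ≠ 0 := by
    rw [Ne, Ideal.Quotient.eq_zero_iff_mem]; exact hby
  obtain ⟨c', hc'⟩ := Ideal.Quotient.exists_inv hb0
  obtain ⟨c, rfl⟩ := Ideal.Quotient.mk_surjective c'
  refine ⟨b * c, fun x hx => ?_, ?_⟩
  · exact Ideal.mul_mem_right _ _ ((Submodule.mem_finsetInf.mp hbJ) x hx)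
  · rw [← Ideal.Quotient.mk_eq_mk_iff_sub_mem, map_mul, hc', map_one]

theorem exists_interp (X : Finset (MaximalSpectrum R)) (w : MaximalSpectrum R → M) :
    ∃ t : M, ∀ x ∈ X, img x t = img x (w x) := by
  classical
  induction X using Finset.induction_on with
  | empty => exact ⟨0, fun x hx => absurd hx (Finset.notMem_empty x)⟩
  | insert y X hy ih =>
    obtain ⟨t, ht⟩ := ih
    obtain ⟨a, haX, hay⟩ := exists_interp_coeff X y hy
    refine ⟨t + a • (w y - t), fun x hx => ?_⟩
    rw [img_add, img_smul]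
    rcases Finset.mem_insert.mp hx with rfl | hxX
    · have h1 : Ideal.Quotient.mk x.asIdeal a = 1 := by
        rw [← map_one (Ideal.Quotient.mk x.asIdeal), Ideal.Quotient.mk_eq_mk_iff_sub_mem]
        exact hay
      rw [h1, one_smul, ← img_add]
      congr 1; abel
    · have h1 : Ideal.Quotient.mk x.asIdeal a = 0 :=
        Ideal.Quotient.eq_zero_iff_mem.mpr (haX x hxX)
      rw [h1, zero_smul, add_zero, ht x hxX]

/-! ### Topological lemmas -/

theorem exists_decomp [NoetherianSpace (MaximalSpectrum R)] {Y : Set (MaximalSpectrum R)}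
    (hY : IsClosed Y) :
    ∃ S : Finset (Set (MaximalSpectrum R)), (∀ t ∈ S, IsClosed t) ∧
      (∀ t ∈ S, IsIrreducible t) ∧ Y = ⋃₀ (↑S : Set (Set (MaximalSpectrum R))) := by
  obtain ⟨S, hSf, h1, h2, h3⟩ := NoetherianSpace.exists_finite_set_isClosed_irreducible hY
  lift S to Finset (Set (MaximalSpectrum R)) using hSf
  exact ⟨S, h1, h2, h3⟩

theorem exists_point_avoiding {Ω : Type*} [TopologicalSpace Ω] (S : Finset (Set Ω))
    (hc : ∀ G ∈ S, IsClosed G) (hi : ∀ G ∈ S, IsIrreducible G)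
    (hinc : ∀ G ∈ S, ∀ G' ∈ S, G ⊆ G' → G = G')
    (F : Set Ω) (hF : IsClosed F) (hnF : ∀ G ∈ S, ¬ G ⊆ F) :
    ∀ G ∈ S, ∃ y ∈ G, y ∉ F ∧ ∀ G' ∈ S, G' ≠ G → y ∉ G' := by
  classical
  intro G hG
  by_contra hcon
  push Not at hcon
  have hsub : G ⊆ ⋃₀ (↑(insert F (S.erase G)) : Set (Set Ω)) := by
    intro y hy
    by_cases hyF : y ∈ F
    · exact ⟨F, by simp, hyF⟩
    · obtain ⟨G', hG'S, hne, hyG'⟩ := hcon y hy hyF
      exact ⟨G', by simp [hne, hG'S], hyG'⟩
  obtain ⟨z, hz, hGz⟩ := isIrreducible_iff_sUnion_isClosed.mp (hi G hG) (insert F (S.erase G))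
    (by
      intro z hz
      rcases Finset.mem_insert.mp hz with rfl | hz
      · exact hF
      · exact hc z (Finset.mem_of_mem_erase hz)) hsub
  rcases Finset.mem_insert.mp hz with rfl | hz
  · exact hnF G hG hGz
  · have := hinc G hG z (Finset.mem_of_mem_erase hz) hGz
    exact (Finset.ne_of_mem_erase hz) this.symm

theorem exists_avoid (SH SG : Finset (Set (MaximalSpectrum R)))
    (hHc : ∀ H ∈ SH, IsClosed H) (hGi : ∀ G ∈ SG, IsIrreducible G)
    (hGH : ∀ H ∈ SH, ∀ G ∈ SG, ¬ G ⊆ H) :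
    ∃ a : R, (∀ H ∈ SH, a ∈ II H) ∧ ∀ G ∈ SG, a ∉ II G := by
  classical
  by_contra hcon
  push Not at hcon
  have hsub : ((SH.inf II : Ideal R) : Set R) ⊆ ⋃ G ∈ (↑SG : Set (Set (MaximalSpectrum R))),
      (II G : Set R) := by
    intro a ha
    obtain ⟨G, hG, haG⟩ := hcon a (fun H hH => (Submodule.mem_finsetInf.mp ha) H hH)
    exact Set.mem_biUnion hG haG
  obtain ⟨G, hG, hle⟩ := (Ideal.subset_union_prime (s := SG) (f := II) ∅ ∅
    (fun G hG _ _ => II_isPrime (hGi G hG))).mp hsub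
  obtain ⟨H, hH, hHG⟩ := (Ideal.IsPrime.inf_le' (II_isPrime (hGi G hG))).mp hle
  apply hGH H hH G hG
  intro x hx
  apply mem_of_II_le (hHc H hH)
  intro b hb
  exact mem_II.mp (hHG hb) x hx

theorem notMem_ZZ_snoc_iff {h : ℕ} (x : MaximalSpectrum R) (s : Fin h → M) (t : M) :
    x ∉ ZZ (Fin.snoc s t : Fin (h + 1) → M) ↔
      (x ∉ ZZ s ∧
        img x t ∉ Submodule.span (R ⧸ x.asIdeal) (Set.range fun i => img x (s i))) := by
  unfold ZZ
  simp only [Set.mem_ofPred_eq, not_not]
  rw [snoc_img, linearIndependent_finSnoc]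

/-! ### The main proposition -/

theorem main [NoetherianSpace (MaximalSpectrum R)] (k : ℕ) :
    ∀ (h : ℕ) (s : Fin h → M) (F : Set (MaximalSpectrum R)), IsClosed F →
      ∀ (X : Finset (MaximalSpectrum R)), (∀ x ∈ X, x ∈ F) → ∀ (w : MaximalSpectrum R → M),
      (∀ x : MaximalSpectrum R, h + k ≤ Module.finrank (R ⧸ x.asIdeal) (Vx R M x)) →
      (ZZ s ⊆ F) →
      ∃ (t : M) (F' : Set (MaximalSpectrum R)), IsClosed F' ∧
        (∀ x ∈ X, img x t = img x (w x)) ∧
        (ZZ (Fin.snoc s t : Fin (h + 1) → M) ⊆ F ∪ F') ∧ CC k F' := by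
  classical
  induction k with
  | zero =>
    intro h s F hF X hXF w hdim hZ
    obtain ⟨t, ht⟩ := exists_interp X w
    exact ⟨t, Set.univ, isClosed_univ, ht, fun x _ => Or.inr trivial, fun Z _ => by simp⟩
  | succ k ih =>
    intro h s F hF X hXF w hdim hZ
    -- Step 1
    obtain ⟨s', F'', hF''c, hs'X, hZ'sub, hCC''⟩ :=
      ih h s F hF X hXF w (fun x => by have := hdim x; omega) hZ
    obtain ⟨Z', hZ'def⟩ : ∃ Z' : Set (MaximalSpectrum R),
      Z' = ZZ (Fin.snoc s s' : Fin (h + 1) → M) := ⟨_, rfl⟩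
    have hZ'c : IsClosed Z' := hZ'def ▸ isClosed_ZZ _
    obtain ⟨SG, hSGc, hSGi, hSGeq⟩ := exists_decomp hZ'c
    have hGCC : ∀ G ∈ SG, ¬ G ⊆ F → CC k G := by
      intro G hG hGF
      have hsub : G ⊆ F ∪ F'' := by
        intro x hx
        apply hZ'sub
        rw [← hZ'def, hSGeq]
        exact ⟨G, hG, hx⟩
      rcases (isPreirreducible_iff_isClosed_union_isClosed.mp (hSGi G hG).isPreirreducible)
        F F'' hF hF''c hsub with h1 | h1
      · exact absurd h1 hGF
      · exact CC_mono h1 hCC''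
    obtain ⟨SGlo, hlo_mem⟩ : ∃ SGlo : Finset (Set (MaximalSpectrum R)),
        ∀ G, G ∈ SGlo ↔ G ∈ SG ∧ ¬ G ⊆ F ∧ ¬ CC (k + 1) G :=
      ⟨SG.filter (fun G => ¬ G ⊆ F ∧ ¬ CC (k + 1) G), fun G => Finset.mem_filter⟩
    have hlo_inc : ∀ G ∈ SGlo, ∀ G' ∈ SGlo, G ⊆ G' → G = G' := by
      intro G hG G' hG' hsub
      by_contra hne
      rw [hlo_mem] at hG hG'
      apply hG.2.2
      refine CC_succ_of_ssubset (hSGi G' hG'.1) (hSGc G' hG'.1) (hGCC G' hG'.1 hG'.2.1) hsub ?_
      intro hsub'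
      exact hne (Set.Subset.antisymm hsub hsub')
    have hy := exists_point_avoiding SGlo (fun G hG => hSGc G ((hlo_mem G).mp hG).1)
      (fun G hG => hSGi G ((hlo_mem G).mp hG).1) hlo_inc F hF
      (fun G hG => ((hlo_mem G).mp hG).2.1)
    have hy' : ∀ G : {G // G ∈ SGlo}, ∃ y, y ∈ G.1 ∧ y ∉ F :=
      fun G => by obtain ⟨y, h1, h2, _⟩ := hy G.1 G.2; exact ⟨y, h1, h2⟩
    choose y hyG hyF using hy'
    obtain ⟨W, hW0, hW1⟩ : ∃ W : MaximalSpectrum R → M, (∀ x ∈ F, W x = 0) ∧
        ∀ x ∉ F, img x (W x) ∉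
          Submodule.span (R ⧸ x.asIdeal) (Set.range fun i => img x (s i)) := by
      have hex : ∀ x : MaximalSpectrum R, ∃ m : M,
          img x m ∉ Submodule.span (R ⧸ x.asIdeal) (Set.range fun i => img x (s i)) :=
        fun x => exists_notMem_span x s (by have := hdim x; omega)
      choose W0 hW0 using hex
      refine ⟨fun x => if x ∈ F then 0 else W0 x, fun x hx => if_pos hx, fun x hx => ?_⟩
      simp only [if_neg hx]
      exact hW0 x
    -- Step 2
    have hZ'F : ZZ (Fin.snoc s s' : Fin (h + 1) → M) ⊆ F ∪ Z' := by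
      rw [hZ'def]; exact Set.subset_union_right
    obtain ⟨s'', F''', hF'''c, hs''X, hZ''sub, hCC'''⟩ :=
      ih (h + 1) (Fin.snoc s s') (F ∪ Z') (hF.union hZ'c) (X ∪ SGlo.attach.image y)
        (fun x hx => by
          rcases Finset.mem_union.mp hx with hx | hx
          · exact Or.inl (hXF x hx)
          · obtain ⟨G, _, rfl⟩ := Finset.mem_image.mp hx
            right
            rw [hSGeq]
            exact ⟨G.1, ((hlo_mem G.1).mp G.2).1, hyG G⟩)
        W (fun x => by have := hdim x; omega) hZ'F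
    obtain ⟨SH, hSHc, hSHi, hSHeq⟩ := exists_decomp hF'''c
    obtain ⟨SHlo, hHlo_mem⟩ : ∃ SHlo : Finset (Set (MaximalSpectrum R)),
        ∀ H, H ∈ SHlo ↔ H ∈ SH ∧ ¬ H ⊆ F ∪ Z' ∧ ¬ CC (k + 1) H :=
      ⟨SH.filter (fun H => ¬ H ⊆ F ∪ Z' ∧ ¬ CC (k + 1) H), fun H => Finset.mem_filter⟩
    have hHCC : ∀ H ∈ SH, CC k H := by
      intro H hH
      refine CC_mono ?_ hCC'''
      rw [hSHeq]
      intro x hx; exact ⟨H, hH, hx⟩
    -- Step 3: prime avoidance
    obtain ⟨a, haH, haG⟩ := exists_avoid SHlo SGlo (fun H hH => hSHc H ((hHlo_mem H).mp hH).1)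
      (fun G hG => hSGi G ((hlo_mem G).mp hG).1) (by
        intro H hH G hG hsub
        rw [hHlo_mem] at hH
        rw [hlo_mem] at hG
        apply hG.2.2
        refine CC_succ_of_ssubset (hSHi H hH.1) (hSHc H hH.1) (hHCC H hH.1) hsub ?_
        intro hsub'
        apply hH.2.1
        intro x hx
        right
        rw [hSGeq]
        exact ⟨G, hG.1, hsub' hx⟩)
    -- Step 4
    obtain ⟨t, htdef⟩ : ∃ t : M, t = s' + a • s'' := ⟨_, rfl⟩
    obtain ⟨Zt, hZtdef⟩ : ∃ Zt : Set (MaximalSpectrum R),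
      Zt = ZZ (Fin.snoc s t : Fin (h + 1) → M) := ⟨_, rfl⟩
    have hZtc : IsClosed Zt := hZtdef ▸ isClosed_ZZ _
    obtain ⟨SP, hSP⟩ : ∃ SP : Finset (Set (MaximalSpectrum R)), ∀ P, P ∈ SP ↔
        ((P ∈ SG ∧ CC (k + 1) P) ∨ (P ∈ SH ∧ CC (k + 1) P)) ∨ ∃ G ∈ SGlo, G ∩ Zt = P :=
      ⟨SG.filter (fun G => CC (k + 1) G) ∪ SH.filter (fun H => CC (k + 1) H) ∪
        SGlo.image (fun G => G ∩ Zt), fun P => by
          rw [Finset.mem_union, Finset.mem_union, Finset.mem_filter, Finset.mem_filter,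
            Finset.mem_image]⟩
    have hPc : ∀ P ∈ SP, IsClosed P := by
      intro P hP
      rw [hSP] at hP
      rcases hP with (hP | hP) | hP
      · exact hSGc P hP.1
      · exact hSHc P hP.1
      · obtain ⟨G, hG, rfl⟩ := hP
        exact (hSGc G ((hlo_mem G).mp hG).1).inter hZtc
    have himgt : ∀ x : MaximalSpectrum R,
        img x t = img x s' + Ideal.Quotient.mk x.asIdeal a • img x s'' := by
      intro x; rw [htdef, img_add, img_smul]
    have hys'' : ∀ G : {G // G ∈ SGlo},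
        y G ∉ F ∪ ZZ (Fin.snoc s s'' : Fin (h + 1) → M) := by
      intro G hmem
      rcases hmem with hmem | hmem
      · exact hyF G hmem
      · revert hmem
        rw [imp_false, notMem_ZZ_snoc_iff]
        refine ⟨fun hc => hyF G (hZ hc), ?_⟩
        have h1 : img (y G) s'' = img (y G) (W (y G)) :=
          hs''X (y G) (Finset.mem_union_right _
            (Finset.mem_image.mpr ⟨G, Finset.mem_attach _ _, rfl⟩))
        rw [h1]
        exact hW1 (y G) (hyF G)
    have hPCC : ∀ P ∈ SP, CC (k + 1) P := by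
      intro P hP
      rw [hSP] at hP
      rcases hP with (hP | hP) | hP
      · exact hP.2
      · exact hP.2
      · obtain ⟨G, hG, rfl⟩ := hP
        have hG' := (hlo_mem G).mp hG
        refine CC_succ_of_ssubset (hSGi G hG'.1) (hSGc G hG'.1) (hGCC G hG'.1 hG'.2.1)
          Set.inter_subset_left ?_
        intro hsub
        have ha' : a ∉ II G := haG G hG
        rw [mem_II] at ha'
        push Not at ha'
        obtain ⟨z0, hz0G, hz0a⟩ := ha'
        have hopen : IsOpen (F ∪ ZZ (Fin.snoc s s'' : Fin (h + 1) → M))ᶜ :=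
          (hF.union (isClosed_ZZ _)).isOpen_compl
        obtain ⟨z, hzG, hza, hzn⟩ := (hSGi G hG'.1).isPreirreducible _ _ (isOpen_D a) hopen
          ⟨z0, hz0G, hz0a⟩ ⟨y ⟨G, hG⟩, hyG ⟨G, hG⟩, hys'' ⟨G, hG⟩⟩
        have hzZt : z ∈ Zt := (hsub hzG).2
        have hzF : z ∉ F := fun hc => hzn (Or.inl hc)
        have hzs : z ∉ ZZ s := fun hc => hzF (hZ hc)
        have hzs'' : z ∉ ZZ (Fin.snoc s s'' : Fin (h + 1) → M) := fun hc => hzn (Or.inr hc)
        rw [notMem_ZZ_snoc_iff] at hzs''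
        have hzZ' : z ∈ ZZ (Fin.snoc s s' : Fin (h + 1) → M) := by
          rw [← hZ'def, hSGeq]; exact ⟨G, hG'.1, hzG⟩
        have hs'span : img z s' ∈
            Submodule.span (R ⧸ z.asIdeal) (Set.range fun i => img z (s i)) := by
          by_contra hc
          exact ((notMem_ZZ_snoc_iff z s s').mpr ⟨hzs, hc⟩) hzZ'
        have hane : Ideal.Quotient.mk z.asIdeal a ≠ 0 := by
          rw [Ne, Ideal.Quotient.eq_zero_iff_mem]; exact hza
        have h2 := vs2 (fun i => img z (s i)) (img z s') (img z s'') _ hane hs'span hzs''.2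
        rw [← himgt] at h2
        exact ((notMem_ZZ_snoc_iff z s t).mpr ⟨hzs, h2⟩) (hZtdef ▸ hzZt)
    refine ⟨t, ⋃₀ (↑SP : Set (Set (MaximalSpectrum R))),
      by rw [Set.sUnion_eq_biUnion]; exact SP.finite_toSet.isClosed_biUnion hPc, ?_, ?_, ?_⟩
    · -- (a)
      intro x hx
      rw [himgt, hs'X x hx]
      have h1 : img x s'' = img x (W x) := hs''X x (Finset.mem_union_left _ hx)
      rw [h1, hW0 x (hXF x hx), img_zero, smul_zero, add_zero]
    · -- (b)
      intro x hxZt
      by_cases hxF : x ∈ F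
      · exact Or.inl hxF
      right
      have hxs : x ∉ ZZ s := fun hc => hxF (hZ hc)
      by_cases hxZ' : x ∈ Z'
      · have hxZ'2 := hxZ'
        rw [hSGeq] at hxZ'2
        obtain ⟨G, hG, hxG⟩ := hxZ'2
        have hGF : ¬ G ⊆ F := fun hc => hxF (hc hxG)
        by_cases hcc : CC (k + 1) G
        · exact ⟨G, Finset.mem_coe.mpr ((hSP G).mpr (Or.inl (Or.inl ⟨hG, hcc⟩))), hxG⟩
        · refine ⟨G ∩ Zt, Finset.mem_coe.mpr ((hSP _).mpr (Or.inr ⟨G, ?_, rfl⟩)),
            hxG, hZtdef ▸ hxZt⟩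
          exact (hlo_mem G).mpr ⟨hG, hGF, hcc⟩
      · have hLI : x ∉ ZZ (Fin.snoc s s' : Fin (h + 1) → M) := hZ'def ▸ hxZ'
        have htspan : img x t ∈
            Submodule.span (R ⧸ x.asIdeal) (Set.range fun i => img x (s i)) := by
          by_contra hc
          exact ((notMem_ZZ_snoc_iff x s t).mpr ⟨hxs, hc⟩) hxZt
        rw [himgt] at htspan
        have hLI' : LinearIndependent (R ⧸ x.asIdeal)
            (Fin.snoc (fun i => img x (s i)) (img x s') : Fin (h + 1) → Vx R M x) := by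
          have h3 := not_not.mp hLI
          rwa [snoc_img] at h3
        have hdep := vs1 (fun i => img x (s i)) (img x s') (img x s'') _ hLI' htspan
        have hxZ3 : x ∈ ZZ (Fin.snoc (Fin.snoc s s' : Fin (h + 1) → M) s'' :
            Fin (h + 1 + 1) → M) := by
          show ¬ LinearIndependent _ _
          rw [snoc_img, snoc_img]
          exact hdep
        rcases hZ''sub hxZ3 with (hx1 | hx1) | hx1
        · exact absurd hx1 hxF
        · exact absurd hx1 hxZ'
        · rw [hSHeq] at hx1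
          obtain ⟨H, hH, hxH⟩ := hx1
          by_cases hcc : CC (k + 1) H
          · exact ⟨H, Finset.mem_coe.mpr ((hSP H).mpr (Or.inl (Or.inr ⟨hH, hcc⟩))), hxH⟩
          · exfalso
            have hHlo : H ∈ SHlo := by
              refine (hHlo_mem H).mpr ⟨hH, fun hc => ?_, hcc⟩
              rcases hc hxH with h1 | h1
              · exact hxF h1
              · exact hxZ' h1
            have hax : a ∈ x.asIdeal := mem_II.mp (haH H hHlo) x hxH
            have h0 : Ideal.Quotient.mk x.asIdeal a = 0 :=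
              Ideal.Quotient.eq_zero_iff_mem.mpr hax
            rw [h0, zero_smul, add_zero] at htspan
            exact ((notMem_ZZ_snoc_iff x s s').mp hLI).2 htspan
    · -- (c)
      intro Z hZsub
      obtain ⟨P, hP, hZP⟩ := isIrreducible_iff_sUnion_isClosed.mp Z.2 SP hPc hZsub
      exact hPCC P hP Z hZP

end Groth.Agent.H14Lib.Serre
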