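import Mathlib
import Groth.Agent.H14Lib.SerreProp

/-!
# Serre's splitting theorem (helper14)
-/

set_option autoImplicit false
set_option linter.style.haveILetI false

namespace Groth.Agent.H14Lib.Serre

universe u
open TopologicalSpace

variable {R : Type u} [CommRing R] {M : Type u} [AddCommGroup M] [Module R M]

theorem finite_Vx [Module.Finite R M] (x : MaximalSpectrum R) :
    Module.Finite (R ⧸ x.asIdeal) (Vx R M x) := by
  classical
  obtain ⟨S, hS⟩ := (Module.finite_def.mp (inferInstance : Module.Finite R M))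
  refine ⟨⟨S.image (img x), ?_⟩⟩
  rw [eq_top_iff]
  rintro z -
  obtain ⟨m, rfl⟩ := img_surjective x z
  have hm : m ∈ Submodule.span R (S : Set M) := by rw [hS]; exact Submodule.mem_top
  induction hm using Submodule.span_induction with
  | mem m hm =>
    apply Submodule.subset_span
    rw [Finset.coe_image]
    exact ⟨m, hm, rfl⟩
  | zero => rw [img_zero]; exact Submodule.zero_mem _
  | add a b _ _ ha hb => rw [img_add]; exact Submodule.add_mem _ ha hb
  | smul c a _ ha => rw [img_smul]; exact Submodule.smul_mem _ _ ha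

theorem le_finrank_of_localSummand [Module.FinitePresentation R M] (x : MaximalSpectrum R)
    (r : ℕ) [hx : x.asIdeal.IsMaximal]
    (f : (Fin r → Localization.AtPrime x.asIdeal) →ₗ[Localization.AtPrime x.asIdeal]
      LocalizedModule x.asIdeal.primeCompl M)
    (g : LocalizedModule x.asIdeal.primeCompl M →ₗ[Localization.AtPrime x.asIdeal]
      (Fin r → Localization.AtPrime x.asIdeal))
    (hgf : g ∘ₗ f = LinearMap.id) : r ≤ Module.finrank (R ⧸ x.asIdeal) (Vx R M x) := by
  classical
  have hsurj : ∀ b : Fin r, ∃ (u : M) (t : x.asIdeal.primeCompl),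
      t • f (Pi.single b 1) = LocalizedModule.mkLinearMap x.asIdeal.primeCompl M u := by
    intro b
    obtain ⟨⟨u, t⟩, h⟩ := IsLocalizedModule.surj x.asIdeal.primeCompl
      (LocalizedModule.mkLinearMap x.asIdeal.primeCompl M) (f (Pi.single b 1))
    exact ⟨u, t, h⟩
  choose u t hut using hsurj
  have hlift : ∀ a : Fin r, ∃ (Φ : M →ₗ[R] R) (τ : x.asIdeal.primeCompl),
      (Algebra.linearMap R (Localization.AtPrime x.asIdeal)) ∘ₗ Φ =
        τ • ((((LinearMap.proj a) ∘ₗ g).restrictScalars R) ∘ₗ
          LocalizedModule.mkLinearMap x.asIdeal.primeCompl M) := fun a =>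
    Module.FinitePresentation.exists_lift_of_isLocalizedModule x.asIdeal.primeCompl
      (Algebra.linearMap R (Localization.AtPrime x.asIdeal)) _
  choose Φ τ hΦ using hlift
  have hentry : ∀ a b, algebraMap R (Localization.AtPrime x.asIdeal) (Φ a (u b)) =
      if a = b then algebraMap R (Localization.AtPrime x.asIdeal) ((τ a : R) * (t b : R))
      else 0 := by
    intro a b
    have h1 := LinearMap.congr_fun (hΦ a) (u b)
    have h2 : g (f (Pi.single b 1)) = Pi.single b 1 := LinearMap.congr_fun hgf _
    simp only [LinearMap.comp_apply, Algebra.linearMap_apply, LinearMap.smul_apply,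
      LinearMap.coe_restrictScalars, LinearMap.proj_apply] at h1
    rw [h1, ← hut b, Submonoid.smul_def, Submonoid.smul_def, LinearMap.map_smul_of_tower, h2,
      Pi.smul_apply, Pi.single_apply]
    split_ifs with hab
    · rw [Algebra.smul_def, Algebra.smul_def, mul_one, map_mul]
    · rw [smul_zero, smul_zero]
  have hdet : (Matrix.of fun a b => Φ a (u b)).det ∉ x.asIdeal := by
    have h3 : IsUnit (algebraMap R (Localization.AtPrime x.asIdeal)
        (Matrix.of fun a b => Φ a (u b)).det) := by
      rw [RingHom.map_det]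
      have h4 : (algebraMap R (Localization.AtPrime x.asIdeal)).mapMatrix
          (Matrix.of fun a b => Φ a (u b)) = Matrix.diagonal (fun a =>
            algebraMap R (Localization.AtPrime x.asIdeal) ((τ a : R) * (t a : R))) := by
        ext a b
        simp only [RingHom.mapMatrix_apply, Matrix.map_apply, Matrix.of_apply]
        rw [hentry a b, Matrix.diagonal_apply]
        split_ifs with hab
        · rw [hab]
        · rfl
      rw [h4, Matrix.det_diagonal, IsUnit.prod_univ_iff]
      intro a
      exact IsLocalization.map_units (Localization.AtPrime x.asIdeal) (τ a * t a)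
    exact (IsLocalization.AtPrime.isUnit_to_map_iff (Localization.AtPrime x.asIdeal)
      x.asIdeal _).mp h3
  have hLI := indep_of_det x u Φ hdet
  haveI := finite_Vx (M := M) x
  have := hLI.fintype_card_le_finrank
  rwa [Fintype.card_fin] at this

theorem exists_unimodular [NoetherianSpace (MaximalSpectrum R)] (d : ℕ)
    (hdim : topologicalKrullDim (MaximalSpectrum R) ≤ d)
    (hV : ∀ x : MaximalSpectrum R, d + 1 ≤ Module.finrank (R ⧸ x.asIdeal) (Vx R M x)) :
    ∃ (s : M) (φ : M →ₗ[R] R), φ s = 1 := by
  classical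
  obtain ⟨t, F', hF'c, -, hb, hc⟩ := main (R := R) (M := M) (d + 1) 0 Fin.elim0 ∅ isClosed_empty ∅
    (fun x hx => absurd hx (Finset.notMem_empty x)) (fun _ => 0)
    (fun x => by have := hV x; omega)
    (fun x hx => by
      exfalso
      apply hx
      exact linearIndependent_empty_type)
  have hF'empty : F' = ∅ := by
    by_contra hne
    obtain ⟨y, hy⟩ := Set.nonempty_iff_ne_empty.mpr hne
    have hirr : IsIrreducible (closure ({y} : Set (MaximalSpectrum R))) :=
      isIrreducible_singleton.closure
    have h1 := hc ⟨closure {y}, hirr, isClosed_closure⟩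
      (hF'c.closure_subset_iff.mpr (Set.singleton_subset_iff.mpr hy))
    have h2 := Order.coheight_le_krullDim
      (⟨closure {y}, hirr, isClosed_closure⟩ : IrreducibleCloseds (MaximalSpectrum R))
    have h3 : ((d + 1 : ℕ) : WithBot ℕ∞) ≤ (d : WithBot ℕ∞) := by
      calc ((d + 1 : ℕ) : WithBot ℕ∞) = (((d + 1 : ℕ) : ℕ∞) : WithBot ℕ∞) := rfl
        _ ≤ (Order.coheight (⟨closure {y}, hirr, isClosed_closure⟩ :
            IrreducibleCloseds (MaximalSpectrum R)) : WithBot ℕ∞) := WithBot.coe_le_coe.mpr h1
        _ ≤ Order.krullDim (IrreducibleCloseds (MaximalSpectrum R)) := h2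
        _ ≤ d := hdim
    have h4 : ((d + 1 : ℕ) : WithBot ℕ∞) ≤ ((d : ℕ) : WithBot ℕ∞) := h3
    rw [Nat.cast_le] at h4
    omega
  have hall : ∀ x : MaximalSpectrum R, ∃ φ : M →ₗ[R] R, φ t ∉ x.asIdeal := by
    intro x
    have hx : x ∉ ZZ (Fin.snoc (Fin.elim0 : Fin 0 → M) t : Fin (0 + 1) → M) := by
      intro hmem
      have := hb hmem
      rw [hF'empty] at this
      simp at this
    rw [notMem_ZZ_snoc_iff] at hx
    by_contra hcon
    push Not at hcon
    apply hx.2
    rw [(img_eq_zero_iff x t).mpr hcon]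
    exact Submodule.zero_mem _
  have htop : LinearMap.range (LinearMap.applyₗ t : (M →ₗ[R] R) →ₗ[R] R) = ⊤ := by
    by_contra hne
    obtain ⟨m, hm, hle⟩ := Ideal.exists_le_maximal
      (LinearMap.range (LinearMap.applyₗ t : (M →ₗ[R] R) →ₗ[R] R) : Ideal R) hne
    obtain ⟨φ, hφ⟩ := hall ⟨m, hm⟩
    exact hφ (hle ⟨φ, rfl⟩)
  have h1 : (1 : R) ∈ LinearMap.range (LinearMap.applyₗ t : (M →ₗ[R] R) →ₗ[R] R) := by
    rw [htop]; exact Submodule.mem_top
  obtain ⟨φ, hφ⟩ := h1
  exact ⟨t, φ, hφ⟩

end Groth.Agent.H14Lib.Serre
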