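import Mathlib
import Groth.Agent.H14Lib.SerreSplit

/-!
# Splitting off free summands from projective modules of large rank (helper14)
-/

set_option autoImplicit false
set_option linter.style.haveILetI false

namespace Groth.Agent.H14Lib.Serre

universe u
open TopologicalSpace

variable {R : Type u} [CommRing R]

theorem noetherianSpace_maxSpec [IsNoetherianRing R] : NoetherianSpace (MaximalSpectrum R) :=
  Topology.IsInducing.noetherianSpace (i := MaximalSpectrum.toPrimeSpectrum) ⟨rfl⟩

theorem topKrullDim_maxSpec_le : topologicalKrullDim (MaximalSpectrum R) ≤ ringKrullDim R := by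
  rw [← PrimeSpectrum.topologicalKrullDim_eq_ringKrullDim]
  exact Topology.IsInducing.topologicalKrullDim_le (f := MaximalSpectrum.toPrimeSpectrum) ⟨rfl⟩

theorem le_finrank_Vx_of_rank (P : Type u) [AddCommGroup P] [Module R P] [Module.Finite R P]
    [Module.Projective R P] (r : ℕ) (x : MaximalSpectrum R)
    (hrk : r ≤ Module.rankAtStalk (R := R) P ⟨x.asIdeal, x.isMaximal.isPrime⟩) :
    r ≤ Module.finrank (R ⧸ x.asIdeal) (Vx R P x) := by
  classical
  haveI : Module.FinitePresentation R P := Module.finitePresentation_of_projective R P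
  haveI := x.isMaximal
  unfold Module.rankAtStalk at hrk
  haveI : Module.Free (Localization.AtPrime x.asIdeal)
      (LocalizedModule x.asIdeal.primeCompl P) := Module.free_of_flat_of_isLocalRing
  obtain ⟨b⟩ : Nonempty (Module.Basis (Fin (Module.finrank (Localization.AtPrime x.asIdeal)
      (LocalizedModule x.asIdeal.primeCompl P))) (Localization.AtPrime x.asIdeal)
      (LocalizedModule x.asIdeal.primeCompl P)) := ⟨Module.finBasis _ _⟩
  refine le_finrank_of_localSummand x r
    (Fintype.linearCombination _ (fun i => b (Fin.castLE hrk i)))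
    (LinearMap.pi (fun i => b.coord (Fin.castLE hrk i))) ?_
  apply LinearMap.ext
  intro c
  funext i
  simp only [LinearMap.comp_apply, LinearMap.pi_apply, LinearMap.id_apply,
    Fintype.linearCombination_apply, map_sum, map_smul, Module.Basis.coord_apply,
    Module.Basis.repr_self, Finsupp.single_apply, smul_eq_mul]
  rw [Finset.sum_eq_single i]
  · simp
  · intro j _ hji
    have : Fin.castLE hrk j ≠ Fin.castLE hrk i := fun h => hji (Fin.castLE_injective hrk h)
    simp [this]
  · intro h; exact absurd (Finset.mem_univ i) h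

theorem exists_unimodular_of_rank [NoetherianSpace (MaximalSpectrum R)] (d : ℕ)
    (hdim : topologicalKrullDim (MaximalSpectrum R) ≤ d)
    (P : Type u) [AddCommGroup P] [Module R P] [Module.Finite R P] [Module.Projective R P]
    (hrk : ∀ p : PrimeSpectrum R, d + 1 ≤ Module.rankAtStalk (R := R) P p) :
    ∃ (s : P) (φ : P →ₗ[R] R), φ s = 1 := by
  apply exists_unimodular d hdim
  intro x
  exact le_finrank_Vx_of_rank P (d + 1) x (hrk _)

/-- Splitting a module along a unimodular element. -/
theorem exists_equiv_ker_prod {P : Type u} [AddCommGroup P] [Module R P] (s : P)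
    (φ : P →ₗ[R] R) (h : φ s = 1) : Nonempty (P ≃ₗ[R] (LinearMap.ker φ) × R) := by
  have hmem : ∀ x : P, x - φ x • s ∈ LinearMap.ker φ := by
    intro x
    rw [LinearMap.mem_ker, map_sub, map_smul, h, smul_eq_mul, mul_one, sub_self]
  refine ⟨LinearEquiv.ofLinearMap
    ((LinearMap.codRestrict (LinearMap.ker φ)
      (LinearMap.id - (LinearMap.toSpanSingleton R P s) ∘ₗ φ) (fun x => by
        simpa using hmem x)).prod φ)
    ((LinearMap.ker φ).subtype.coprod (LinearMap.toSpanSingleton R P s)) ?_ ?_⟩
  · apply LinearMap.ext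
    rintro ⟨⟨k, hk⟩, r⟩
    rw [LinearMap.mem_ker] at hk
    apply Prod.ext
    · apply Subtype.ext
      simp [hk, h]
    · simp [hk, h]
  · apply LinearMap.ext
    intro x
    simp

theorem exists_compl_of_equiv {P P₀ F : Type*} [AddCommGroup P] [Module R P] [AddCommGroup P₀]
    [Module R P₀] [AddCommGroup F] [Module R F] (e : P ≃ₗ[R] P₀ × F) :
    ∃ (A B : Submodule R P), IsCompl A B ∧ Nonempty (B ≃ₗ[R] F) := by
  refine ⟨(LinearMap.range (LinearMap.inl R P₀ F)).map e.symm.toLinearMap,
    (LinearMap.range (LinearMap.inr R P₀ F)).map e.symm.toLinearMap, ?_, ?_⟩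
  · exact (Submodule.orderIsoMapComap e.symm).isCompl LinearMap.isCompl_range_inl_inr
  · refine ⟨((Submodule.equivMapOfInjective e.symm.toLinearMap e.symm.injective _).symm).trans
      (LinearEquiv.ofInjective (LinearMap.inr R P₀ F) LinearMap.inr_injective).symm⟩

theorem exists_free_summand [IsNoetherianRing R] (d n : ℕ) (hdim : ringKrullDim R = d)
    (P : Type u) [AddCommGroup P] [Module R P] [Module.Finite R P] [Module.Projective R P]
    (hrk : ∀ p : PrimeSpectrum R, Module.rankAtStalk (R := R) P p = n) (j : ℕ)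
    (hj : j ≤ n - d) :
    ∃ (P₀ : Type u) (_ : AddCommGroup P₀) (_ : Module R P₀),
      Nonempty (P ≃ₗ[R] P₀ × (Fin j → R)) := by
  haveI : Nontrivial R := by
    by_contra hne
    haveI : Subsingleton R := not_nontrivial_iff_subsingleton.mp hne
    rw [ringKrullDim_eq_bot_of_subsingleton] at hdim
    exact WithBot.bot_ne_coe hdim
  haveI := noetherianSpace_maxSpec (R := R)
  have hdim' : topologicalKrullDim (MaximalSpectrum R) ≤ d :=
    topKrullDim_maxSpec_le.trans hdim.le
  induction j with
  | zero =>
    exact ⟨P, inferInstance, inferInstance,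
      ⟨(LinearEquiv.prodUnique (R := R) (M := P) (M₂ := Fin 0 → R)).symm⟩⟩
  | succ j ih =>
    obtain ⟨P₀, i1, i2, ⟨e⟩⟩ := ih (by omega)
    haveI : Module.Finite R P₀ := Module.Finite.of_surjective
      ((LinearMap.fst R P₀ (Fin j → R)) ∘ₗ e.toLinearMap)
      (fun x => ⟨e.symm (x, 0), by simp⟩)
    haveI : Module.Projective R P₀ := Module.Projective.of_split
      (e.symm.toLinearMap ∘ₗ LinearMap.inl R P₀ (Fin j → R))
      ((LinearMap.fst R P₀ (Fin j → R)) ∘ₗ e.toLinearMap) (by
        apply LinearMap.ext; intro x; simp)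
    have hrk0 : ∀ p : PrimeSpectrum R, d + 1 ≤ Module.rankAtStalk (R := R) P₀ p := by
      intro p
      have h1 := congrFun (Module.rankAtStalk_eq_of_equiv e) p
      rw [Module.rankAtStalk_prod, hrk p, Pi.add_apply] at h1
      have h2 : Module.rankAtStalk (R := R) (Fin j → R) p = j := by
        rw [Module.rankAtStalk_eq_finrank_of_free]; simp
      omega
    obtain ⟨s, φ, hφ⟩ := exists_unimodular_of_rank d hdim' P₀ hrk0
    obtain ⟨e2⟩ := exists_equiv_ker_prod s φ hφ
    refine ⟨LinearMap.ker φ, inferInstance, inferInstance, ⟨?_⟩⟩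
    exact (e.trans (LinearEquiv.prodCongr e2 (LinearEquiv.refl R (Fin j → R)))).trans
      ((LinearEquiv.prodAssoc R (LinearMap.ker φ) R (Fin j → R)).trans
        (LinearEquiv.prodCongr (LinearEquiv.refl R (LinearMap.ker φ))
          (Fin.consLinearEquiv R (fun _ : Fin (j + 1) => R))))

end Groth.Agent.H14Lib.Serre
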