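import Mathlib
import Groth.Agent.H14Lib.SerreFree

/-!
# Bass cancellation via Serre's general position argument (helper14)
-/

set_option autoImplicit false
set_option linter.style.haveILetI false

namespace Groth.Agent.H14Lib.Serre

universe u
open TopologicalSpace

variable {R : Type u} [CommRing R] {M : Type u} [AddCommGroup M] [Module R M]

theorem img_sub (x : MaximalSpectrum R) (m m' : M) : img x (m - m') = img x m - img x m' := by
  rw [← imgHom_apply, map_sub]; rfl

section VS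
variable {K V : Type*} [Field K] [AddCommGroup V] [Module K V]

theorem vs1' {h : ℕ} (e : Fin h → V) (p q : V) (c : K)
    (hp : LinearIndependent K (Fin.snoc e p : Fin (h + 1) → V))
    (hmem : p + c • (q - p) ∈ Submodule.span K (Set.range e)) :
    ¬ LinearIndependent K (Fin.snoc (Fin.snoc e p : Fin (h + 1) → V) q : Fin (h + 2) → V) := by
  intro hLI
  have h1 := vs1 e p (q - p) c hp hmem
  apply h1
  rw [linearIndependent_finSnoc] at hLI ⊢
  refine ⟨hLI.1, fun hc => hLI.2 ?_⟩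
  have hpin : p ∈ Submodule.span K (Set.range (Fin.snoc e p : Fin (h + 1) → V)) :=
    Submodule.subset_span ⟨Fin.last h, by simp⟩
  have := Submodule.add_mem _ hc hpin
  rwa [sub_add_cancel] at this

end VS

theorem main' [NoetherianSpace (MaximalSpectrum R)] (a : R) (p : M) (k : ℕ) :
    ∀ (h : ℕ) (s : Fin h → M) (F : Set (MaximalSpectrum R)), IsClosed F →
      (∀ x : MaximalSpectrum R, a ∈ x.asIdeal → x ∈ F) →
      ∀ (X : Finset (MaximalSpectrum R)), (∀ x ∈ X, x ∈ F) → ∀ (w : MaximalSpectrum R → M),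
      (∀ x ∈ X, a ∈ x.asIdeal → img x (w x) = img x p) →
      (∀ x : MaximalSpectrum R, h + k ≤ Module.finrank (R ⧸ x.asIdeal) (Vx R M x)) →
      (ZZ s ⊆ F) →
      ∃ (q : M) (F' : Set (MaximalSpectrum R)), IsClosed F' ∧
        (∀ x ∈ X, img x (p + a • q) = img x (w x)) ∧
        (ZZ (Fin.snoc s (p + a • q) : Fin (h + 1) → M) ⊆ F ∪ F') ∧ CC k F' := by
  classical
  induction k with
  | zero =>
    intro h s F hF hVa X hXF w hwc hdim hZ
    have hc : ∀ x : MaximalSpectrum R, ∃ c : R, a ∉ x.asIdeal →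
        Ideal.Quotient.mk x.asIdeal a * Ideal.Quotient.mk x.asIdeal c = 1 := by
      intro x
      by_cases hax : a ∈ x.asIdeal
      · exact ⟨0, fun h => absurd hax h⟩
      · have hne : Ideal.Quotient.mk x.asIdeal a ≠ 0 := by
          rw [Ne, Ideal.Quotient.eq_zero_iff_mem]; exact hax
        obtain ⟨c', hc'⟩ := Ideal.Quotient.exists_inv hne
        obtain ⟨c, rfl⟩ := Ideal.Quotient.mk_surjective c'
        exact ⟨c, fun _ => hc'⟩
    choose c hc using hc
    obtain ⟨q, hq⟩ := exists_interp X (fun x => c x • (w x - p))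
    refine ⟨q, Set.univ, isClosed_univ, fun x hx => ?_, fun x _ => Or.inr trivial,
      fun Z _ => by simp⟩
    rw [img_add, img_smul, hq x hx, img_smul, img_sub]
    by_cases hax : a ∈ x.asIdeal
    · rw [Ideal.Quotient.eq_zero_iff_mem.mpr hax, zero_smul, add_zero, hwc x hx hax]
    · rw [smul_smul, hc x hax, one_smul]; abel
  | succ k ih =>
    intro h s F hF hVa X hXF w hwc hdim hZ
    -- Step 1
    obtain ⟨q', F'', hF''c, hs'X, hZ'sub, hCC''⟩ :=
      ih h s F hF hVa X hXF w hwc (fun x => by have := hdim x; omega) hZ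
    obtain ⟨s', hs'def⟩ : ∃ s' : M, s' = p + a • q' := ⟨_, rfl⟩
    rw [← hs'def] at hs'X hZ'sub
    obtain ⟨Z', hZ'def⟩ : ∃ Z' : Set (MaximalSpectrum R),
      Z' = ZZ (Fin.snoc s s' : Fin (h + 1) → M) := ⟨_, rfl⟩
    have hZ'c : IsClosed Z' := hZ'def ▸ isClosed_ZZ _
    obtain ⟨SG, hSGc, hSGi, hSGeq⟩ := exists_decomp hZ'c
    have hGCC : ∀ G ∈ SG, ¬ G ⊆ F → CC k G := by
      intro G hG hGF
      have hsub : G ⊆ F ∪ F'' := by
        intro x hx
        apply hZ'sub
        rw [← hZ'def, hSGeq]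
        exact ⟨G, hG, hx⟩
      rcases (isPreirreducible_iff_isClosed_union_isClosed.mp (hSGi G hG).isPreirreducible)
        F F'' hF hF''c hsub with h1 | h1
      · exact absurd h1 hGF
      · exact CC_mono h1 hCC''
    obtain ⟨SGlo, hlo_mem⟩ : ∃ SGlo : Finset (Set (MaximalSpectrum R)),
        ∀ G, G ∈ SGlo ↔ G ∈ SG ∧ ¬ G ⊆ F ∧ ¬ CC (k + 1) G :=
      ⟨SG.filter (fun G => ¬ G ⊆ F ∧ ¬ CC (k + 1) G), fun G => Finset.mem_filter⟩
    have hlo_inc : ∀ G ∈ SGlo, ∀ G' ∈ SGlo, G ⊆ G' → G = G' := by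
      intro G hG G' hG' hsub
      by_contra hne
      rw [hlo_mem] at hG hG'
      apply hG.2.2
      refine CC_succ_of_ssubset (hSGi G' hG'.1) (hSGc G' hG'.1) (hGCC G' hG'.1 hG'.2.1) hsub ?_
      intro hsub'
      exact hne (Set.Subset.antisymm hsub hsub')
    have hy := exists_point_avoiding SGlo (fun G hG => hSGc G ((hlo_mem G).mp hG).1)
      (fun G hG => hSGi G ((hlo_mem G).mp hG).1) hlo_inc F hF
      (fun G hG => ((hlo_mem G).mp hG).2.1)
    have hy' : ∀ G : {G // G ∈ SGlo}, ∃ y, y ∈ G.1 ∧ y ∉ F :=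
      fun G => by obtain ⟨y, h1, h2, _⟩ := hy G.1 G.2; exact ⟨y, h1, h2⟩
    choose y hyG hyF using hy'
    obtain ⟨W, hWX, hW1⟩ : ∃ W : MaximalSpectrum R → M, (∀ x ∈ X, W x = w x) ∧
        ∀ x ∉ F, img x (W x) ∉
          Submodule.span (R ⧸ x.asIdeal) (Set.range fun i => img x (s i)) := by
      have hex : ∀ x : MaximalSpectrum R, ∃ m : M,
          img x m ∉ Submodule.span (R ⧸ x.asIdeal) (Set.range fun i => img x (s i)) :=
        fun x => exists_notMem_span x s (by have := hdim x; omega)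
      choose W0 hW0 using hex
      refine ⟨fun x => if x ∈ X then w x else W0 x, fun x hx => if_pos hx, fun x hx => ?_⟩
      have hxX : x ∉ X := fun hc => hx (hXF x hc)
      simp only [if_neg hxX]
      exact hW0 x
    -- Step 2
    have hZ'F : ZZ (Fin.snoc s s' : Fin (h + 1) → M) ⊆ F ∪ Z' := by
      rw [hZ'def]; exact Set.subset_union_right
    obtain ⟨q'', F''', hF'''c, hs''X, hZ''sub, hCC'''⟩ :=
      ih (h + 1) (Fin.snoc s s') (F ∪ Z') (hF.union hZ'c) (fun x hx => Or.inl (hVa x hx))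
        (X ∪ SGlo.attach.image y)
        (fun x hx => by
          rcases Finset.mem_union.mp hx with hx | hx
          · exact Or.inl (hXF x hx)
          · obtain ⟨G, _, rfl⟩ := Finset.mem_image.mp hx
            right
            rw [hSGeq]
            exact ⟨G.1, ((hlo_mem G.1).mp G.2).1, hyG G⟩)
        W
        (fun x hx hax => by
          rcases Finset.mem_union.mp hx with hx | hx
          · rw [hWX x hx]; exact hwc x hx hax
          · obtain ⟨G, _, rfl⟩ := Finset.mem_image.mp hx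
            exact absurd (hVa _ hax) (hyF G))
        (fun x => by have := hdim x; omega) hZ'F
    obtain ⟨s'', hs''def⟩ : ∃ s'' : M, s'' = p + a • q'' := ⟨_, rfl⟩
    rw [← hs''def] at hs''X hZ''sub
    obtain ⟨SH, hSHc, hSHi, hSHeq⟩ := exists_decomp hF'''c
    obtain ⟨SHlo, hHlo_mem⟩ : ∃ SHlo : Finset (Set (MaximalSpectrum R)),
        ∀ H, H ∈ SHlo ↔ H ∈ SH ∧ ¬ H ⊆ F ∪ Z' ∧ ¬ CC (k + 1) H :=
      ⟨SH.filter (fun H => ¬ H ⊆ F ∪ Z' ∧ ¬ CC (k + 1) H), fun H => Finset.mem_filter⟩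
    have hHCC : ∀ H ∈ SH, CC k H := by
      intro H hH
      refine CC_mono ?_ hCC'''
      rw [hSHeq]
      intro x hx; exact ⟨H, hH, hx⟩
    -- Step 3: prime avoidance
    obtain ⟨a', haH, haG⟩ := exists_avoid SHlo SGlo (fun H hH => hSHc H ((hHlo_mem H).mp hH).1)
      (fun G hG => hSGi G ((hlo_mem G).mp hG).1) (by
        intro H hH G hG hsub
        rw [hHlo_mem] at hH
        rw [hlo_mem] at hG
        apply hG.2.2
        refine CC_succ_of_ssubset (hSHi H hH.1) (hSHc H hH.1) (hHCC H hH.1) hsub ?_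
        intro hsub'
        apply hH.2.1
        intro x hx
        right
        rw [hSGeq]
        exact ⟨G, hG.1, hsub' hx⟩)
    -- Step 4
    obtain ⟨t, htdef⟩ : ∃ t : M, t = p + a • (q' + a' • (q'' - q')) := ⟨_, rfl⟩
    have ht : t = s' + a' • (s'' - s') := by
      rw [htdef, hs'def, hs''def]; module
    obtain ⟨Zt, hZtdef⟩ : ∃ Zt : Set (MaximalSpectrum R),
      Zt = ZZ (Fin.snoc s t : Fin (h + 1) → M) := ⟨_, rfl⟩
    have hZtc : IsClosed Zt := hZtdef ▸ isClosed_ZZ _
    obtain ⟨SP, hSP⟩ : ∃ SP : Finset (Set (MaximalSpectrum R)), ∀ P, P ∈ SP ↔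
        ((P ∈ SG ∧ CC (k + 1) P) ∨ (P ∈ SH ∧ CC (k + 1) P)) ∨ ∃ G ∈ SGlo, G ∩ Zt = P :=
      ⟨SG.filter (fun G => CC (k + 1) G) ∪ SH.filter (fun H => CC (k + 1) H) ∪
        SGlo.image (fun G => G ∩ Zt), fun P => by
          rw [Finset.mem_union, Finset.mem_union, Finset.mem_filter, Finset.mem_filter,
            Finset.mem_image]⟩
    have hPc : ∀ P ∈ SP, IsClosed P := by
      intro P hP
      rw [hSP] at hP
      rcases hP with (hP | hP) | hP
      · exact hSGc P hP.1
      · exact hSHc P hP.1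
      · obtain ⟨G, hG, rfl⟩ := hP
        exact (hSGc G ((hlo_mem G).mp hG).1).inter hZtc
    have himgt : ∀ x : MaximalSpectrum R,
        img x t = img x s' + Ideal.Quotient.mk x.asIdeal a' • (img x s'' - img x s') := by
      intro x; rw [ht, img_add, img_smul, img_sub]
    have hys'' : ∀ G : {G // G ∈ SGlo},
        y G ∉ F ∪ ZZ (Fin.snoc s s'' : Fin (h + 1) → M) := by
      intro G hmem
      rcases hmem with hmem | hmem
      · exact hyF G hmem
      · revert hmem
        rw [imp_false, notMem_ZZ_snoc_iff]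
        refine ⟨fun hc => hyF G (hZ hc), ?_⟩
        have h1 : img (y G) s'' = img (y G) (W (y G)) :=
          hs''X (y G) (Finset.mem_union_right _
            (Finset.mem_image.mpr ⟨G, Finset.mem_attach _ _, rfl⟩))
        rw [h1]
        exact hW1 (y G) (hyF G)
    have hPCC : ∀ P ∈ SP, CC (k + 1) P := by
      intro P hP
      rw [hSP] at hP
      rcases hP with (hP | hP) | hP
      · exact hP.2
      · exact hP.2
      · obtain ⟨G, hG, rfl⟩ := hP
        have hG' := (hlo_mem G).mp hG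
        refine CC_succ_of_ssubset (hSGi G hG'.1) (hSGc G hG'.1) (hGCC G hG'.1 hG'.2.1)
          Set.inter_subset_left ?_
        intro hsub
        have ha' : a' ∉ II G := haG G hG
        rw [mem_II] at ha'
        push Not at ha'
        obtain ⟨z0, hz0G, hz0a⟩ := ha'
        have hopen : IsOpen (F ∪ ZZ (Fin.snoc s s'' : Fin (h + 1) → M))ᶜ :=
          (hF.union (isClosed_ZZ _)).isOpen_compl
        obtain ⟨z, hzG, hza, hzn⟩ := (hSGi G hG'.1).isPreirreducible _ _ (isOpen_D a') hopen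
          ⟨z0, hz0G, hz0a⟩ ⟨y ⟨G, hG⟩, hyG ⟨G, hG⟩, hys'' ⟨G, hG⟩⟩
        have hzZt : z ∈ Zt := (hsub hzG).2
        have hzF : z ∉ F := fun hc => hzn (Or.inl hc)
        have hzs : z ∉ ZZ s := fun hc => hzF (hZ hc)
        have hzs'' : z ∉ ZZ (Fin.snoc s s'' : Fin (h + 1) → M) := fun hc => hzn (Or.inr hc)
        rw [notMem_ZZ_snoc_iff] at hzs''
        have hzZ' : z ∈ ZZ (Fin.snoc s s' : Fin (h + 1) → M) := by
          rw [← hZ'def, hSGeq]; exact ⟨G, hG'.1, hzG⟩
        have hs'span : img z s' ∈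
            Submodule.span (R ⧸ z.asIdeal) (Set.range fun i => img z (s i)) := by
          by_contra hc
          exact ((notMem_ZZ_snoc_iff z s s').mpr ⟨hzs, hc⟩) hzZ'
        have hane : Ideal.Quotient.mk z.asIdeal a' ≠ 0 := by
          rw [Ne, Ideal.Quotient.eq_zero_iff_mem]; exact hza
        have hdiff : img z s'' - img z s' ∉
            Submodule.span (R ⧸ z.asIdeal) (Set.range fun i => img z (s i)) := by
          intro hc
          apply hzs''.2
          have := Submodule.add_mem _ hc hs'span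
          rwa [sub_add_cancel] at this
        have h2 := vs2 (fun i => img z (s i)) (img z s') (img z s'' - img z s') _ hane
          hs'span hdiff
        rw [← himgt] at h2
        exact ((notMem_ZZ_snoc_iff z s t).mpr ⟨hzs, h2⟩) (hZtdef ▸ hzZt)
    refine ⟨q' + a' • (q'' - q'), ⋃₀ (↑SP : Set (Set (MaximalSpectrum R))),
      by rw [Set.sUnion_eq_biUnion]; exact SP.finite_toSet.isClosed_biUnion hPc, ?_, ?_, ?_⟩
    · -- (a)
      intro x hx
      rw [← htdef, himgt, hs'X x hx]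
      have h1 : img x s'' = img x (W x) := hs''X x (Finset.mem_union_left _ hx)
      rw [h1, hWX x hx, sub_self, smul_zero, add_zero]
    · -- (b)
      rw [← htdef]
      intro x hxZt
      by_cases hxF : x ∈ F
      · exact Or.inl hxF
      right
      have hxs : x ∉ ZZ s := fun hc => hxF (hZ hc)
      by_cases hxZ' : x ∈ Z'
      · have hxZ'2 := hxZ'
        rw [hSGeq] at hxZ'2
        obtain ⟨G, hG, hxG⟩ := hxZ'2
        have hGF : ¬ G ⊆ F := fun hc => hxF (hc hxG)
        by_cases hcc : CC (k + 1) G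
        · exact ⟨G, Finset.mem_coe.mpr ((hSP G).mpr (Or.inl (Or.inl ⟨hG, hcc⟩))), hxG⟩
        · refine ⟨G ∩ Zt, Finset.mem_coe.mpr ((hSP _).mpr (Or.inr ⟨G, ?_, rfl⟩)),
            hxG, hZtdef ▸ hxZt⟩
          exact (hlo_mem G).mpr ⟨hG, hGF, hcc⟩
      · have hLI : x ∉ ZZ (Fin.snoc s s' : Fin (h + 1) → M) := hZ'def ▸ hxZ'
        have htspan : img x t ∈
            Submodule.span (R ⧸ x.asIdeal) (Set.range fun i => img x (s i)) := by
          by_contra hc
          exact ((notMem_ZZ_snoc_iff x s t).mpr ⟨hxs, hc⟩) hxZt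
        rw [himgt] at htspan
        have hLI' : LinearIndependent (R ⧸ x.asIdeal)
            (Fin.snoc (fun i => img x (s i)) (img x s') : Fin (h + 1) → Vx R M x) := by
          have h3 := not_not.mp hLI
          rwa [snoc_img] at h3
        have hdep := vs1' (fun i => img x (s i)) (img x s') (img x s'') _ hLI' htspan
        have hxZ3 : x ∈ ZZ (Fin.snoc (Fin.snoc s s' : Fin (h + 1) → M) s'' :
            Fin (h + 1 + 1) → M) := by
          show ¬ LinearIndependent _ _
          rw [snoc_img, snoc_img]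
          exact hdep
        rcases hZ''sub hxZ3 with (hx1 | hx1) | hx1
        · exact absurd hx1 hxF
        · exact absurd hx1 hxZ'
        · rw [hSHeq] at hx1
          obtain ⟨H, hH, hxH⟩ := hx1
          by_cases hcc : CC (k + 1) H
          · exact ⟨H, Finset.mem_coe.mpr ((hSP H).mpr (Or.inl (Or.inr ⟨hH, hcc⟩))), hxH⟩
          · exfalso
            have hHlo : H ∈ SHlo := by
              refine (hHlo_mem H).mpr ⟨hH, fun hc => ?_, hcc⟩
              rcases hc hxH with h1 | h1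
              · exact hxF h1
              · exact hxZ' h1
            have hax : a' ∈ x.asIdeal := mem_II.mp (haH H hHlo) x hxH
            have h0 : Ideal.Quotient.mk x.asIdeal a' = 0 :=
              Ideal.Quotient.eq_zero_iff_mem.mpr hax
            rw [h0, zero_smul, add_zero] at htspan
            exact ((notMem_ZZ_snoc_iff x s s').mp hLI).2 htspan
    · -- (c)
      intro Z hZsub
      obtain ⟨P, hP, hZP⟩ := isIrreducible_iff_sUnion_isClosed.mp Z.2 SP hPc hZsub
      exact hPCC P hP Z hZP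

theorem eq_empty_of_CC (d : ℕ) (hdim : topologicalKrullDim (MaximalSpectrum R) ≤ d)
    {F' : Set (MaximalSpectrum R)} (hF'c : IsClosed F') (hc : CC (d + 1) F') : F' = ∅ := by
  by_contra hne
  obtain ⟨y, hy⟩ := Set.nonempty_iff_ne_empty.mpr hne
  have hirr : IsIrreducible (closure ({y} : Set (MaximalSpectrum R))) :=
    isIrreducible_singleton.closure
  have h1 := hc ⟨closure {y}, hirr, isClosed_closure⟩
    (hF'c.closure_subset_iff.mpr (Set.singleton_subset_iff.mpr hy))
  have h2 := Order.coheight_le_krullDim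
    (⟨closure {y}, hirr, isClosed_closure⟩ : IrreducibleCloseds (MaximalSpectrum R))
  have h3 : ((d + 1 : ℕ) : WithBot ℕ∞) ≤ (d : WithBot ℕ∞) := by
    calc ((d + 1 : ℕ) : WithBot ℕ∞) = (((d + 1 : ℕ) : ℕ∞) : WithBot ℕ∞) := rfl
      _ ≤ (Order.coheight (⟨closure {y}, hirr, isClosed_closure⟩ :
          IrreducibleCloseds (MaximalSpectrum R)) : WithBot ℕ∞) := WithBot.coe_le_coe.mpr h1
      _ ≤ Order.krullDim (IrreducibleCloseds (MaximalSpectrum R)) := h2
      _ ≤ d := hdim
  have h4 : ((d + 1 : ℕ) : WithBot ℕ∞) ≤ ((d : ℕ) : WithBot ℕ∞) := h3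
  rw [Nat.cast_le] at h4
  omega

theorem exists_form_eq_one (t : M)
    (hall : ∀ x : MaximalSpectrum R, ∃ φ : M →ₗ[R] R, φ t ∉ x.asIdeal) :
    ∃ φ : M →ₗ[R] R, φ t = 1 := by
  have htop : LinearMap.range (LinearMap.applyₗ t : (M →ₗ[R] R) →ₗ[R] R) = ⊤ := by
    by_contra hne
    obtain ⟨m, hm, hle⟩ := Ideal.exists_le_maximal
      (LinearMap.range (LinearMap.applyₗ t : (M →ₗ[R] R) →ₗ[R] R) : Ideal R) hne
    obtain ⟨φ, hφ⟩ := hall ⟨m, hm⟩
    exact hφ (hle ⟨φ, rfl⟩)
  have h1 : (1 : R) ∈ LinearMap.range (LinearMap.applyₗ t : (M →ₗ[R] R) →ₗ[R] R) := by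
    rw [htop]; exact Submodule.mem_top
  obtain ⟨φ, hφ⟩ := h1
  exact ⟨φ, hφ⟩

theorem exists_unimodular_add [NoetherianSpace (MaximalSpectrum R)] (d : ℕ)
    (hdim : topologicalKrullDim (MaximalSpectrum R) ≤ d)
    (hV : ∀ x : MaximalSpectrum R, d + 1 ≤ Module.finrank (R ⧸ x.asIdeal) (Vx R M x))
    (a : R) (p : M) (φ₀ : M →ₗ[R] R) (c : R) (h : φ₀ p + c * a = 1) :
    ∃ (q : M) (φ : M →ₗ[R] R), φ (p + a • q) = 1 := by
  classical
  have hVc : IsClosed {x : MaximalSpectrum R | a ∈ x.asIdeal} := by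
    rw [← isOpen_compl_iff]; exact isOpen_D a
  obtain ⟨q, F', hF'c, -, hb, hc'⟩ := main' (R := R) (M := M) a p (d + 1) 0 Fin.elim0 _ hVc
    (fun x hx => hx) ∅ (fun x hx => absurd hx (Finset.notMem_empty x)) (fun _ => 0)
    (fun x hx => absurd hx (Finset.notMem_empty x))
    (fun x => by have := hV x; omega)
    (fun x hx => by
      exfalso
      apply hx
      exact linearIndependent_empty_type)
  have hF'empty := eq_empty_of_CC d hdim hF'c hc'
  obtain ⟨φ, hφ⟩ := exists_form_eq_one (R := R) (M := M) (p + a • q) (fun x => by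
    by_cases hx : x ∈ ZZ (Fin.snoc (Fin.elim0 : Fin 0 → M) (p + a • q) : Fin (0 + 1) → M)
    · have hax := hb hx
      rw [hF'empty, Set.union_empty] at hax
      have hax' : a ∈ x.asIdeal := hax
      refine ⟨φ₀, fun hmem => ?_⟩
      rw [map_add, map_smul, smul_eq_mul] at hmem
      have h1 : φ₀ p ∈ x.asIdeal := by
        have := Ideal.sub_mem _ hmem (Ideal.mul_mem_right (φ₀ q) _ hax')
        simpa using this
      have h2 : (1 : R) ∈ x.asIdeal := by
        rw [← h]; exact Ideal.add_mem _ h1 (Ideal.mul_mem_left _ c hax')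
      exact x.isMaximal.ne_top ((Ideal.eq_top_iff_one _).mpr h2)
    · rw [notMem_ZZ_snoc_iff] at hx
      by_contra hcon
      push Not at hcon
      apply hx.2
      rw [(img_eq_zero_iff x _).mpr hcon]
      exact Submodule.zero_mem _)
  exact ⟨q, φ, hφ⟩

theorem fix_aux {A B : Type*} [AddCommGroup A] [Module R A] [AddCommGroup B] [Module R B]
    (θ : (A × R) ≃ₗ[R] (B × R)) (hθ : θ (0, 1) = (0, 1)) (a : A) :
    (θ.symm ((θ (a, 0)).1, 0)).1 = a := by
  have h1 : ((θ (a, 0)).1, (0 : R)) = θ (a, 0) - (θ (a, 0)).2 • θ (0, 1) := by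
    rw [hθ]; ext <;> simp
  rw [h1, map_sub, map_smul, LinearEquiv.symm_apply_apply, LinearEquiv.symm_apply_apply]
  simp

theorem equiv_of_fix {A B : Type*} [AddCommGroup A] [Module R A] [AddCommGroup B] [Module R B]
    (θ : (A × R) ≃ₗ[R] (B × R)) (hθ : θ (0, 1) = (0, 1)) : Nonempty (A ≃ₗ[R] B) := by
  have hθ' : θ.symm (0, 1) = (0, 1) := by rw [LinearEquiv.symm_apply_eq, hθ]
  refine ⟨LinearEquiv.ofLinearMap
    ((LinearMap.fst R B R) ∘ₗ θ.toLinearMap ∘ₗ (LinearMap.inl R A R))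
    ((LinearMap.fst R A R) ∘ₗ θ.symm.toLinearMap ∘ₗ (LinearMap.inl R B R)) ?_ ?_⟩
  · apply LinearMap.ext
    intro b
    simpa using fix_aux θ.symm hθ' b
  · apply LinearMap.ext
    intro a
    simpa using fix_aux θ hθ a

theorem cancel_R [NoetherianSpace (MaximalSpectrum R)] (d : ℕ)
    (hdim : topologicalKrullDim (MaximalSpectrum R) ≤ d)
    (P : Type u) [AddCommGroup P] [Module R P] [Module.Finite R P] [Module.Projective R P]
    (hrk : ∀ p : PrimeSpectrum R, d + 1 ≤ Module.rankAtStalk (R := R) P p)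
    (P' : Type u) [AddCommGroup P'] [Module R P'] (ε : (P' × R) ≃ₗ[R] (P × R)) :
    Nonempty (P' ≃ₗ[R] P) := by
  obtain ⟨p, a, hpa⟩ : ∃ (p : P) (a : R), ε (0, 1) = (p, a) := ⟨_, _, rfl⟩
  obtain ⟨ψ, hψdef⟩ : ∃ ψ : (P × R) →ₗ[R] R,
    ψ = (LinearMap.snd R P' R) ∘ₗ ε.symm.toLinearMap := ⟨_, rfl⟩
  have hψ : ψ (p, a) = 1 := by
    rw [hψdef, ← hpa]; simp
  have h1 : ψ (p, 0) + ψ (0, 1) * a = 1 := by
    have h0 : ψ (p, a) = ψ (p, 0) + ψ (0, 1) * a := by
      have : ((p, a) : P × R) = (p, 0) + a • ((0 : P), (1 : R)) := by ext <;> simp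
      rw [this, map_add, map_smul, smul_eq_mul, mul_comm]
    rw [← h0, hψ]
  obtain ⟨q, φ, hφ⟩ := exists_unimodular_add d hdim
    (fun x => le_finrank_Vx_of_rank P (d + 1) x (hrk _)) a p (ψ ∘ₗ LinearMap.inl R P R)
    (ψ (0, 1)) (by simpa using h1)
  obtain ⟨σ₁, hσ₁⟩ : ∃ σ₁ : (P × R) ≃ₗ[R] (P × R), ∀ x r, σ₁ (x, r) = (x + r • q, r) :=
    ⟨((LinearEquiv.prodComm R P R).trans ((LinearEquiv.refl R R).skewProd (LinearEquiv.refl R P)
      (LinearMap.toSpanSingleton R P q))).trans (LinearEquiv.prodComm R R P), fun x r => by simp⟩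
  obtain ⟨σ₂, hσ₂⟩ : ∃ σ₂ : (P × R) ≃ₗ[R] (P × R),
      ∀ x r, σ₂ (x, r) = (x, r + (1 - a) * φ x) :=
    ⟨(LinearEquiv.refl R P).skewProd (LinearEquiv.refl R R) ((1 - a) • φ), fun x r => by simp⟩
  obtain ⟨σ₃, hσ₃⟩ : ∃ σ₃ : (P × R) ≃ₗ[R] (P × R),
      ∀ x r, σ₃ (x, r) = (x - r • (p + a • q), r) :=
    ⟨((LinearEquiv.prodComm R P R).trans ((LinearEquiv.refl R R).skewProd (LinearEquiv.refl R P)
      (- LinearMap.toSpanSingleton R P (p + a • q)))).trans (LinearEquiv.prodComm R R P),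
      fun x r => by simp [sub_eq_add_neg]⟩
  apply equiv_of_fix (ε.trans (σ₁.trans (σ₂.trans σ₃)))
  simp only [LinearEquiv.trans_apply, hpa, hσ₁, hσ₂, hφ, hσ₃]
  ext
  · simp
  · simp

/-- Moving one free coordinate to the right. -/
noncomputable def shiftEquiv (P : Type*) [AddCommGroup P] [Module R P] (m : ℕ) :
    (P × (Fin (m + 1) → R)) ≃ₗ[R] ((P × (Fin m → R)) × R) :=
  (LinearEquiv.prodCongr (LinearEquiv.refl R P)
    ((Fin.consLinearEquiv R (fun _ : Fin (m + 1) => R)).symm.trans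
      (LinearEquiv.prodComm R R (Fin m → R)))).trans
    (LinearEquiv.prodAssoc R P (Fin m → R) R).symm

theorem cancel [NoetherianSpace (MaximalSpectrum R)] (d : ℕ)
    (hdim : topologicalKrullDim (MaximalSpectrum R) ≤ d)
    (P P' : Type u) [AddCommGroup P] [Module R P] [Module.Finite R P] [Module.Projective R P]
    [AddCommGroup P'] [Module R P']
    (hrk : ∀ p : PrimeSpectrum R, d + 1 ≤ Module.rankAtStalk (R := R) P p) (m : ℕ)
    (e : (P × (Fin m → R)) ≃ₗ[R] (P' × (Fin m → R))) : Nonempty (P ≃ₗ[R] P') := by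
  induction m with
  | zero =>
    exact ⟨((LinearEquiv.prodUnique (R := R) (M := P) (M₂ := Fin 0 → R)).symm.trans e).trans
      LinearEquiv.prodUnique⟩
  | succ m ih =>
    have hrkA : ∀ p : PrimeSpectrum R,
        d + 1 ≤ Module.rankAtStalk (R := R) (P × (Fin m → R)) p := by
      intro p
      rw [Module.rankAtStalk_prod]
      have := hrk p
      simp only [Pi.add_apply]
      omega
    obtain ⟨e'⟩ := cancel_R d hdim (P × (Fin m → R)) hrkA (P' × (Fin m → R))
      ((shiftEquiv P' m).symm.trans (e.symm.trans (shiftEquiv P m)))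
    exact ih e'.symm

end Groth.Agent.H14Lib.Serre
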