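import Mathlib
import Groth.Prelude.Def_SymTen
import Groth.Agent.H14Lib.SymProj1

/-!
# Symmetric tensors of a graded algebra: the Segre subring, lying over, cores
-/

set_option autoImplicit false
universe u
open scoped TensorProduct

namespace Groth.Agent.H14Lib.SymProj

variable {A B : Type u} [CommRing A] [CommRing B] [Algebra A B]

/-- generators of the Segre subring -/
abbrev genSet (𝒜 : ℕ → Submodule A B) (d : ℕ) : Set (⨂[A] _ : Fin d, B) :=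
  {t | ∃ (k : ℕ) (b : Fin d → B), (∀ i, b i ∈ 𝒜 k) ∧ t = PiTensorProduct.tprod A b}

/-- the Segre subring -/
noncomputable abbrev Csub (𝒜 : ℕ → Submodule A B) (d : ℕ) : Subalgebra A (⨂[A] _ : Fin d, B) :=
  Algebra.adjoin A (genSet 𝒜 d)

theorem tprod_mem_Csub (𝒜 : ℕ → Submodule A B) {d k : ℕ} {b : Fin d → B} (hb : ∀ i, b i ∈ 𝒜 k) :
    PiTensorProduct.tprod A b ∈ Csub 𝒜 d :=
  Algebra.subset_adjoin ⟨k, b, hb, rfl⟩

theorem perm_Csub (𝒜 : ℕ → Submodule A B) (d : ℕ) (σ : Equiv.Perm (Fin d)) :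
    (Csub 𝒜 d).map (SymTen.perm A B d σ) ≤ Csub 𝒜 d := by
  rw [AlgHom.map_adjoin]
  apply Algebra.adjoin_mono
  rintro _ ⟨_, ⟨k, b, hb, rfl⟩, rfl⟩
  rw [SymTen.perm_tprod]
  exact ⟨k, _, fun i => hb _, rfl⟩

/-- lying over for the invariants of a permutation-stable subalgebra -/
theorem pow_mem_span_of_primes {d : ℕ} (C : Subalgebra A (⨂[A] _ : Fin d, B))
    (hC : ∀ σ, C.map (SymTen.perm A B d σ) ≤ C)
    (G : Set ↥(C ⊓ SymTen.TS A B d)) (t : ↥(C ⊓ SymTen.TS A B d))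
    (h : ∀ Q : Ideal ↥C, Q.IsPrime → (⟨t.1, t.2.1⟩ : ↥C) ∉ Q →
      ∃ g ∈ G, (⟨g.1, g.2.1⟩ : ↥C) ∉ Q) :
    ∃ m, 0 < m ∧ t ^ m ∈ Ideal.span G := by
  classical
  let inc : ↥(C ⊓ SymTen.TS A B d) →ₐ[A] ↥C := Subalgebra.inclusion inf_le_left
  letI : Algebra ↥(C ⊓ SymTen.TS A B d) ↥C := inc.toRingHom.toAlgebra
  letI : MulSemiringAction (Equiv.Perm (Fin d)) ↥C :=
    { smul := fun σ c => ⟨SymTen.perm A B d σ c.1, hC σ ⟨c.1, c.2, rfl⟩⟩
      one_smul := fun c => Subtype.ext (Groth.Agent.H14Lib.GamFT.perm_one c.1)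
      mul_smul := fun σ τ c => Subtype.ext (Groth.Agent.H14Lib.GamFT.perm_mul σ τ c.1)
      smul_zero := fun σ => Subtype.ext (map_zero _)
      smul_add := fun σ x y => Subtype.ext (map_add _ _ _)
      smul_one := fun σ => Subtype.ext (map_one _)
      smul_mul := fun σ x y => Subtype.ext (map_mul _ _ _) }
  haveI : Algebra.IsInvariant ↥(C ⊓ SymTen.TS A B d) ↥C (Equiv.Perm (Fin d)) :=
    ⟨fun c hc => ⟨⟨c.1, c.2, fun σ => by
        rw [← SymTen.perm_apply]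
        exact congrArg Subtype.val (hc σ)⟩, rfl⟩⟩
  haveI : Algebra.IsIntegral ↥(C ⊓ SymTen.TS A B d) ↥C :=
    Algebra.IsInvariant.isIntegral _ _ (Equiv.Perm (Fin d))
  have hrad : t ∈ (Ideal.span G).radical := by
    rw [Ideal.radical_eq_sInf, Submodule.mem_sInf]
    rintro q ⟨hGq, hq⟩
    by_contra htq
    haveI := hq
    obtain ⟨Q, -, hQ, hQq⟩ := Ideal.exists_ideal_over_prime_of_isIntegral q
      (⊥ : Ideal ↥C) (by
        intro x hx
        have hx' : inc x = 0 := hx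
        have : x = 0 := by
          apply Subtype.ext
          have h0 := congrArg Subtype.val hx'
          exact h0
        rw [this]
        exact zero_mem _)
    have h1 : (⟨t.1, t.2.1⟩ : ↥C) ∉ Q := fun hh => htq (by rw [← hQq]; exact hh)
    obtain ⟨g, hgG, hgQ⟩ := h Q hQ h1
    apply hgQ
    have h2 : g ∈ q := hGq (Ideal.subset_span hgG)
    rw [← hQq] at h2
    exact h2
  obtain ⟨m, hm⟩ := hrad
  exact ⟨m + 1, Nat.succ_pos m, by rw [pow_succ]; exact Ideal.mul_mem_right _ _ hm⟩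

theorem exists_pure_notMem (𝒜 : ℕ → Submodule A B) [GradedAlgebra 𝒜]
    (hgen : Algebra.adjoin A (𝒜 1 : Set B) = ⊤) {d : ℕ} (Q : Ideal ↥(Csub 𝒜 d))
    (k : ℕ) (hk : 0 < k) (t : ⨂[A] _ : Fin d, B) (htC : t ∈ Csub 𝒜 d)
    (htk : t ∈ Submodule.span A
      {s | ∃ b : Fin d → B, (∀ i, b i ∈ 𝒜 k) ∧ s = PiTensorProduct.tprod A b})
    (htQ : (⟨t, htC⟩ : ↥(Csub 𝒜 d)) ∉ Q) :
    ∃ b : Fin d → ↥(𝒜 1), (⟨PiTensorProduct.tprod A (fun l => (b l : B)),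
      tprod_mem_Csub 𝒜 (fun l => (b l).2)⟩ : ↥(Csub 𝒜 d)) ∉ Q := by
  by_contra hcon
  push Not at hcon
  apply htQ
  let Qs : Submodule A (⨂[A] _ : Fin d, B) :=
    Submodule.map (Csub 𝒜 d).val.toLinearMap (Q.restrictScalars A)
  have hQs : ∀ z (hz : z ∈ Csub 𝒜 d), z ∈ Qs → (⟨z, hz⟩ : ↥(Csub 𝒜 d)) ∈ Q := by
    rintro z hz ⟨c, hc, rfl⟩
    exact hc
  apply hQs t htC
  refine (Submodule.span_le.mpr ?_) htk
  rintro _ ⟨β, hβ, rfl⟩
  have h1 := tprod_mem_span_of_mem_span (A := A) (prodSet 𝒜 k) β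
    (fun i => le_span_prodSet 𝒜 hgen k hk (hβ i))
  refine (Submodule.span_le.mpr ?_) h1
  rintro _ ⟨γ, hγ, rfl⟩
  choose e he g hg heq using hγ
  have hγ' : γ = e * g := funext heq
  rw [hγ', ← PiTensorProduct.tprod_mul_tprod]
  refine ⟨⟨PiTensorProduct.tprod A e, tprod_mem_Csub 𝒜 he⟩ *
    ⟨PiTensorProduct.tprod A g, tprod_mem_Csub 𝒜 hg⟩, ?_, rfl⟩
  exact Ideal.mul_mem_right _ _ (hcon (fun l => ⟨e l, he l⟩))

end Groth.Agent.H14Lib.SymProj
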