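import Mathlib
import Groth.Prelude.Def_SymTen
import Groth.Agent.H14Lib.SymProj2

/-!
# Symmetric tensors of a graded algebra: the point of `(Proj B)^d` attached to a prime of the Segre subring
-/

set_option autoImplicit false
universe u
open scoped TensorProduct

namespace Groth.Agent.H14Lib.SymProj

variable {A B : Type u} [CommRing A] [CommRing B] [Algebra A B]

section Core

variable (𝒜 : ℕ → Submodule A B) [GradedAlgebra 𝒜] {d : ℕ} {K : Type u} [Field K]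
  (π : ↥(Csub 𝒜 d) →+* K) (b : Fin d → ↥(𝒜 1))

/-- replace the `i`-th factor of `b ^ n` by `g` -/
noncomputable def yT (i : Fin d) (n : ℕ) (g : B) : ⨂[A] _ : Fin d, B :=
  PiTensorProduct.tprod A (Function.update (fun l => (b l : B) ^ n) i g)

theorem yT_mem (i : Fin d) (n : ℕ) {g : B} (hg : g ∈ 𝒜 n) : yT 𝒜 b i n g ∈ Csub 𝒜 d := by
  refine tprod_mem_Csub 𝒜 (k := n) (fun l => ?_)
  by_cases h : l = i
  · rw [h, Function.update_self]; exact hg
  · rw [Function.update_of_ne h]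
    have := SetLike.pow_mem_graded n (b l).2
    rwa [smul_eq_mul, mul_one] at this

theorem yT_mul (i : Fin d) (n n' : ℕ) (g g' : B) :
    yT 𝒜 b i n g * yT 𝒜 b i n' g' = yT 𝒜 b i (n + n') (g * g') := by
  unfold yT
  rw [PiTensorProduct.tprod_mul_tprod]
  congr 1
  funext l
  by_cases h : l = i
  · subst h; simp
  · simp [Function.update_of_ne h, pow_add]

theorem yT_add (i : Fin d) (n : ℕ) (g g' : B) :
    yT 𝒜 b i n (g + g') = yT 𝒜 b i n g + yT 𝒜 b i n g' := by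
  unfold yT
  rw [(PiTensorProduct.tprod A).map_update_add]

theorem yT_zero (i : Fin d) (n : ℕ) : yT 𝒜 b i n 0 = 0 :=
  (PiTensorProduct.tprod A).map_coord_zero i (Function.update_self ..)

theorem yT_self (i : Fin d) (n : ℕ) :
    yT 𝒜 b i n ((b i : B) ^ n) = (PiTensorProduct.tprod A (fun l => (b l : B))) ^ n := by
  unfold yT
  rw [tprod_pow]
  congr 1
  exact Function.update_eq_self i (fun l => (b l : B) ^ n)

theorem yT_algebraMap (i : Fin d) (a : A) :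
    yT 𝒜 b i 0 (algebraMap A B a) = algebraMap A (⨂[A] _ : Fin d, B) a := by
  unfold yT
  rw [Algebra.algebraMap_eq_smul_one, (PiTensorProduct.tprod A).map_update_smul,
    Algebra.algebraMap_eq_smul_one]
  congr 1
  have : Function.update (fun l => (b l : B) ^ 0) i 1 = fun _ => (1 : B) := by
    funext l
    by_cases h : l = i
    · rw [h, Function.update_self]
    · rw [Function.update_of_ne h, pow_zero]
  rw [this]
  rfl

theorem prod_yT (n : ℕ) (g : Fin d → B) :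
    ∏ i, yT 𝒜 b i n (g i) =
      PiTensorProduct.tprod A (fun l => g l * ((b l : B) ^ n) ^ (d - 1)) :=
  prod_update _ g

/-- the same, in the Segre subring -/
noncomputable def yC (i : Fin d) (n : ℕ) (g : ↥(𝒜 n)) : ↥(Csub 𝒜 d) :=
  ⟨yT 𝒜 b i n g.1, yT_mem 𝒜 b i n g.2⟩

/-- the pure tensor `b` -/
noncomputable def xC : ↥(Csub 𝒜 d) :=
  ⟨PiTensorProduct.tprod A (fun l => (b l : B)), tprod_mem_Csub 𝒜 (fun l => (b l).2)⟩

/-- the complementary tensor -/
noncomputable def zC (n : ℕ) : ↥(Csub 𝒜 d) :=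
  ⟨PiTensorProduct.tprod A (fun l => ((b l : B) ^ n) ^ (d - 1)),
    tprod_mem_Csub 𝒜 (fun l => SetLike.pow_mem_graded (d - 1) (SetLike.pow_mem_graded n (b l).2))⟩

theorem prod_yC (n : ℕ) (g : Fin d → ↥(𝒜 n)) :
    ∏ i, yC 𝒜 b i n (g i) =
      ⟨PiTensorProduct.tprod A (fun l => (g l : B)), tprod_mem_Csub 𝒜 (fun l => (g l).2)⟩ *
        zC 𝒜 b n := by
  apply Subtype.ext
  rw [SubmonoidClass.coe_finsetProd]
  show ∏ i, yT 𝒜 b i n (g i).1 = PiTensorProduct.tprod A (fun l => (g l : B)) *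
    PiTensorProduct.tprod A (fun l => ((b l : B) ^ n) ^ (d - 1))
  rw [prod_yT, PiTensorProduct.tprod_mul_tprod]
  rfl

theorem yC_self (i : Fin d) : yC 𝒜 b i 1 (b i) = xC 𝒜 b := by
  apply Subtype.ext
  have := yT_self 𝒜 b i 1
  simp only [pow_one] at this
  exact this

/-- the additive maps in each degree -/
noncomputable def fHom (i : Fin d) (n : ℕ) : ↥(𝒜 n) →+ K where
  toFun g := π (yC 𝒜 b i n g) * (π (xC 𝒜 b) ^ n)⁻¹
  map_zero' := by
    have : yC 𝒜 b i n 0 = 0 := Subtype.ext (yT_zero 𝒜 b i n)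
    rw [this, map_zero, zero_mul]
  map_add' g g' := by
    have : yC 𝒜 b i n (g + g') = yC 𝒜 b i n g + yC 𝒜 b i n g' :=
      Subtype.ext (yT_add 𝒜 b i n g.1 g'.1)
    rw [this, map_add, add_mul]

/-- the `i`-th projection of the point, as a ring map `B → K` -/
noncomputable def psi (i : Fin d) : B →+* K :=
  (DirectSum.toSemiring (fHom 𝒜 π b i)
    (by
      show π (yC 𝒜 b i 0 (GradedMonoid.GOne.one (A := fun i => ↥(𝒜 i)))) *
        (π (xC 𝒜 b) ^ 0)⁻¹ = 1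
      have : yC 𝒜 b i 0 (GradedMonoid.GOne.one (A := fun i => ↥(𝒜 i))) = 1 := by
        apply Subtype.ext
        have h := yT_algebraMap 𝒜 b i (1 : A)
        rw [map_one, map_one] at h
        exact h
      rw [this, map_one, pow_zero, inv_one, mul_one])
    (by
      intro m m' ai aj
      show π (yC 𝒜 b i (m + m') (GradedMonoid.GMul.mul (A := fun i => ↥(𝒜 i)) ai aj)) *
          (π (xC 𝒜 b) ^ (m + m'))⁻¹ =
        (π (yC 𝒜 b i m ai) * (π (xC 𝒜 b) ^ m)⁻¹) *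
          (π (yC 𝒜 b i m' aj) * (π (xC 𝒜 b) ^ m')⁻¹)
      have : yC 𝒜 b i (m + m') (GradedMonoid.GMul.mul (A := fun i => ↥(𝒜 i)) ai aj) =
          yC 𝒜 b i m ai * yC 𝒜 b i m' aj :=
        Subtype.ext (yT_mul 𝒜 b i m m' ai.1 aj.1).symm
      rw [this, map_mul, pow_add, mul_inv]
      ring)).comp (DirectSum.decomposeRingEquiv 𝒜).toRingHom

theorem psi_of_mem (i : Fin d) (n : ℕ) {g : B} (hg : g ∈ 𝒜 n) :
    psi 𝒜 π b i g = π (yC 𝒜 b i n ⟨g, hg⟩) * (π (xC 𝒜 b) ^ n)⁻¹ := by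
  unfold psi
  rw [RingHom.comp_apply]
  show DirectSum.toSemiring _ _ _ (DirectSum.decompose 𝒜 g) = _
  rw [DirectSum.decompose_of_mem 𝒜 hg, DirectSum.toSemiring_of]
  rfl

theorem psi_b (hw : π (xC 𝒜 b) ≠ 0) (i : Fin d) : psi 𝒜 π b i (b i : B) = 1 := by
  rw [psi_of_mem 𝒜 π b i 1 (b i).2]
  have : yC 𝒜 b i 1 ⟨(b i : B), (b i).2⟩ = xC 𝒜 b := yC_self 𝒜 b i
  rw [this, pow_one, mul_inv_cancel₀ hw]

theorem psi_algebraMap (i : Fin d) (a : A) :
    psi 𝒜 π b i (algebraMap A B a) = π (algebraMap A ↥(Csub 𝒜 d) a) := by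
  rw [psi_of_mem 𝒜 π b i 0 (SetLike.algebraMap_mem_graded 𝒜 a)]
  have : yC 𝒜 b i 0 ⟨algebraMap A B a, SetLike.algebraMap_mem_graded 𝒜 a⟩ =
      algebraMap A ↥(Csub 𝒜 d) a := Subtype.ext (yT_algebraMap 𝒜 b i a)
  rw [this, pow_zero, inv_one, mul_one]

theorem tpow_notMem (n : ℕ) {f : B} (hf : f ∈ 𝒜 n) (hψ : ∀ i, psi 𝒜 π b i f ≠ 0) :
    π (⟨PiTensorProduct.tprod A (fun _ : Fin d => f), tprod_mem_Csub 𝒜 (fun _ => hf)⟩ :
      ↥(Csub 𝒜 d)) ≠ 0 := by
  intro hmem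
  have h1 : ∀ i, π (yC 𝒜 b i n ⟨f, hf⟩) ≠ 0 := by
    intro i hi
    apply hψ i
    rw [psi_of_mem 𝒜 π b i n hf, hi, zero_mul]
  have h2 : π (∏ i, yC 𝒜 b i n ⟨f, hf⟩) ≠ 0 := by
    rw [map_prod]
    exact Finset.prod_ne_zero_iff.mpr (fun i _ => h1 i)
  apply h2
  rw [prod_yC 𝒜 b n (fun _ => ⟨f, hf⟩), map_mul, hmem, zero_mul]

theorem core91 (hw : π (xC 𝒜 b) ≠ 0) :
    ∃ n, 0 < n ∧ ∃ f, ∃ hf : f ∈ 𝒜 n,
      π (⟨PiTensorProduct.tprod A (fun _ : Fin d => f), tprod_mem_Csub 𝒜 (fun _ => hf)⟩ :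
        ↥(Csub 𝒜 d)) ≠ 0 := by
  classical
  obtain ⟨n, hn, f, hf, hfP⟩ := homog_avoid 𝒜 (fun i => RingHom.ker (psi 𝒜 π b i))
    (fun i => RingHom.ker_isPrime _) (Finset.univ.card) Finset.univ rfl
    (fun i _ => ⟨1, Nat.one_pos, (b i : B), (b i).2, by
      rw [RingHom.mem_ker, psi_b 𝒜 π b hw i]; exact one_ne_zero⟩)
  exact ⟨n, hn, f, hf, tpow_notMem 𝒜 π b n hf (fun i => by
    have := hfP i (Finset.mem_univ i)
    rwa [RingHom.mem_ker] at this)⟩

theorem core92 (hw : π (xC 𝒜 b) ≠ 0)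
    (hres : ∀ p : PrimeSpectrum A, (d : Cardinal) ≤ Cardinal.mk p.asIdeal.ResidueField) :
    ∃ f, ∃ hf : f ∈ 𝒜 1,
      π (⟨PiTensorProduct.tprod A (fun _ : Fin d => f), tprod_mem_Csub 𝒜 (fun _ => hf)⟩ :
        ↥(Csub 𝒜 d)) ≠ 0 := by
  classical
  let φ : A →+* K := π.comp (algebraMap A ↥(Csub 𝒜 d))
  let p : PrimeSpectrum A := ⟨RingHom.ker φ, RingHom.ker_isPrime φ⟩
  haveI : p.asIdeal.IsPrime := p.isPrime
  have hcard : (d : Cardinal.{u}) ≤ Cardinal.mk (A ⧸ p.asIdeal) :=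
    (hres p).trans (IsLocalization.cardinalMk_le (L := p.asIdeal.ResidueField)
      (nonZeroDivisors (A ⧸ p.asIdeal)))
  have h' : Cardinal.mk (ULift.{u} (Fin d)) ≤ Cardinal.mk (A ⧸ p.asIdeal) := by
    have : Cardinal.mk (ULift.{u} (Fin d)) = (d : Cardinal.{u}) := by simp
    rw [this]; exact hcard
  obtain ⟨e⟩ := (Cardinal.le_def _ _).mp h'
  let μ : Fin d → A := fun a => Function.surjInv Ideal.Quotient.mk_surjective (e (ULift.up a))
  have hμ : ∀ a a', a ≠ a' → φ (μ a - μ a') ≠ 0 := by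
    intro a a' hne h0
    apply hne
    have h1 : μ a - μ a' ∈ p.asIdeal := h0
    have h2 : Ideal.Quotient.mk p.asIdeal (μ a) = Ideal.Quotient.mk p.asIdeal (μ a') :=
      Ideal.Quotient.eq.mpr h1
    have h3 : e (ULift.up a) = e (ULift.up a') := by
      rw [← Function.surjInv_eq Ideal.Quotient.mk_surjective (e (ULift.up a)),
        ← Function.surjInv_eq Ideal.Quotient.mk_surjective (e (ULift.up a'))]
      exact h2
    exact congrArg ULift.down (e.injective h3)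
  obtain ⟨m, hm⟩ := scalar_avoid (M := ↥(𝒜 1)) φ (fun i m => psi 𝒜 π b i (m : B))
    (fun i m m' => by
      show psi 𝒜 π b i ((m : B) + (m' : B)) = _
      rw [map_add])
    (fun i a m => by
      show psi 𝒜 π b i (a • (m : B)) = _
      rw [Algebra.smul_def, map_mul, psi_algebraMap]
      rfl)
    d μ hμ Finset.univ (by simp)
    (fun i _ => ⟨b i, by rw [psi_b 𝒜 π b hw i]; exact one_ne_zero⟩)
  exact ⟨m.1, m.2, tpow_notMem 𝒜 π b 1 m.2 (fun i => hm i (Finset.mem_univ i))⟩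

end Core

end Groth.Agent.H14Lib.SymProj
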