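import Mathlib
import Groth.Prelude.Def_SymTen
import Groth.Agent.H14Lib.SymProj3

/-!
# Symmetric tensors of a graded algebra: symmetric tensors of degree one separating a point
-/

set_option autoImplicit false
universe u
open scoped TensorProduct

namespace Groth.Agent.H14Lib.SymProj

variable {A B : Type u} [CommRing A] [CommRing B] [Algebra A B]

section Core90

variable (𝒜 : ℕ → Submodule A B) [GradedAlgebra 𝒜] {d : ℕ} {K : Type u} [Field K]
  (π : ↥(Csub 𝒜 d) →+* K) (b : Fin d → ↥(𝒜 1))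

/-- the exponent vector of a map -/
noncomputable def mon (c : Fin d → Fin d) : Fin d →₀ ℕ := ∑ i, Finsupp.single (c i) 1

/-- the orbit sums -/
noncomputable def sm (m : Fin d →₀ ℕ) : ⨂[A] _ : Fin d, B :=
  ∑ c ∈ Finset.univ.filter (fun c : Fin d → Fin d => mon c = m),
    PiTensorProduct.tprod A (fun l => (b (c l) : B))

theorem sm_mem_C (m : Fin d →₀ ℕ) : sm 𝒜 b m ∈ Csub 𝒜 d :=
  Subalgebra.sum_mem _ (fun c _ => tprod_mem_Csub 𝒜 (fun l => (b (c l)).2))

theorem sm_mem_span (m : Fin d →₀ ℕ) : sm 𝒜 b m ∈ Submodule.span A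
    {s | ∃ b : Fin d → B, (∀ i, b i ∈ 𝒜 1) ∧ s = PiTensorProduct.tprod A b} :=
  Submodule.sum_mem _ (fun c _ => Submodule.subset_span ⟨_, fun l => (b (c l)).2, rfl⟩)

theorem mon_comp (c : Fin d → Fin d) (σ : Equiv.Perm (Fin d)) :
    mon (fun i => c (σ.symm i)) = mon c := by
  unfold mon
  exact Equiv.sum_comp σ.symm (fun i => Finsupp.single (c i) 1)

theorem sm_mem_TS (m : Fin d →₀ ℕ) : sm 𝒜 b m ∈ SymTen.TS A B d := by
  rw [SymTen.mem_TS_iff]
  intro σ
  rw [← SymTen.perm_apply]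
  unfold sm
  rw [map_sum]
  simp only [SymTen.perm_tprod]
  refine Finset.sum_equiv (Equiv.arrowCongr σ (Equiv.refl (Fin d))) ?_ ?_
  · intro c
    simp only [Finset.mem_filter, Finset.mem_univ, true_and]
    rw [show (Equiv.arrowCongr σ (Equiv.refl (Fin d))) c = fun i => c (σ.symm i) from rfl,
      mon_comp]
  · intro c _
    rfl

theorem core90 (hw : π (xC 𝒜 b) ≠ 0) : ∃ m, π ⟨sm 𝒜 b m, sm_mem_C 𝒜 b m⟩ ≠ 0 := by
  by_contra hall
  push Not at hall
  let v : Fin d → Fin d → K := fun i j => π (yC 𝒜 b i 1 (b j))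
  have hv : ∀ c : Fin d → Fin d, ∏ i, v i (c i) =
      π ⟨PiTensorProduct.tprod A (fun l => (b (c l) : B)),
        tprod_mem_Csub 𝒜 (fun l => (b (c l)).2)⟩ * π (zC 𝒜 b 1) := by
    intro c
    show ∏ i, π (yC 𝒜 b i 1 (b (c i))) = _
    rw [← map_prod, prod_yC 𝒜 b 1 (fun i => b (c i)), map_mul]
  have hne : (∏ i, ∑ j, MvPolynomial.C (v i j) * MvPolynomial.X j :
      MvPolynomial (Fin d) K) ≠ 0 := by
    refine Finset.prod_ne_zero_iff.mpr (fun i _ h0 => ?_)
    have hev : MvPolynomial.eval (Pi.single i (1 : K))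
        (∑ j, MvPolynomial.C (v i j) * MvPolynomial.X j) = v i i := by
      rw [map_sum, Finset.sum_eq_single i]
      · simp
      · intro j _ hj
        simp [Pi.single_eq_of_ne hj]
      · intro h; exact absurd (Finset.mem_univ i) h
    rw [h0, map_zero] at hev
    apply hw
    have : v i i = π (xC 𝒜 b) := by
      show π (yC 𝒜 b i 1 (b i)) = _
      rw [yC_self]
    rw [← this, ← hev]
  apply hne
  have hP : (∏ i, ∑ j, MvPolynomial.C (v i j) * MvPolynomial.X j : MvPolynomial (Fin d) K) =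
      ∑ c : Fin d → Fin d, MvPolynomial.monomial (mon c)
        (π ⟨PiTensorProduct.tprod A (fun l => (b (c l) : B)),
          tprod_mem_Csub 𝒜 (fun l => (b (c l)).2)⟩ * π (zC 𝒜 b 1)) := by
    rw [Finset.prod_univ_sum, Fintype.piFinset_univ]
    refine Finset.sum_congr rfl fun c _ => ?_
    rw [Finset.prod_mul_distrib, ← map_prod, hv c]
    have : ∏ i, (MvPolynomial.X (c i) : MvPolynomial (Fin d) K) =
        MvPolynomial.monomial (mon c) 1 := by
      unfold mon
      rw [MvPolynomial.monomial_sum_one]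
      rfl
    rw [this, MvPolynomial.C_mul_monomial, mul_one]
  rw [hP]
  ext m
  rw [MvPolynomial.coeff_sum, MvPolynomial.coeff_zero]
  simp only [MvPolynomial.coeff_monomial]
  rw [← Finset.sum_filter, ← Finset.sum_mul, ← map_sum]
  have : (∑ c ∈ Finset.univ.filter (fun c : Fin d → Fin d => mon c = m),
      (⟨PiTensorProduct.tprod A (fun l => (b (c l) : B)),
        tprod_mem_Csub 𝒜 (fun l => (b (c l)).2)⟩ : ↥(Csub 𝒜 d))) =
      ⟨sm 𝒜 b m, sm_mem_C 𝒜 b m⟩ := by
    apply Subtype.ext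
    rw [AddSubmonoidClass.coe_finsetSum]
    rfl
  rw [this, hall m, zero_mul]

end Core90

end Groth.Agent.H14Lib.SymProj
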