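import Mathlib
import Groth.Agent.H14Lib.TSG1
import Groth.Agent.H14Lib.GamFT

/-!
# The case where `d!` is invertible
-/

open scoped TensorProduct

namespace Groth.Agent.H14Lib.TSG

universe u

open Groth.Agent.H14Lib.CH Groth.Agent.H14Lib.GamN Groth.Agent.H14Lib.BCk MvPolynomial
open Groth.Agent.H14Lib.GamFT

section Fact

variable {A : Type u} [CommRing A] {B : Type u} [CommRing B] [Algebra A B] {d : ℕ}
  {P : Type u} [CommRing P] [Algebra A P] {I : Type u}

theorem perm_sum_perm (τ : Equiv.Perm (Fin d)) (t : ⨂[A] _ : Fin d, P) :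
    SymTen.perm A P d τ (∑ σ : Equiv.Perm (Fin d), SymTen.perm A P d σ t) =
      ∑ σ : Equiv.Perm (Fin d), SymTen.perm A P d σ t := by
  rw [map_sum]
  simp only [← perm_mul]
  exact Equiv.sum_comp (Equiv.mulLeft τ) (fun σ => SymTen.perm A P d σ t)

theorem sum_perm_mem_TS (t : ⨂[A] _ : Fin d, P) :
    (∑ σ : Equiv.Perm (Fin d), SymTen.perm A P d σ t) ∈ SymTen.TS A P d := by
  intro τ
  rw [← SymTen.perm_apply]
  exact perm_sum_perm τ t

theorem sum_perm_of_mem_TS {z : ⨂[A] _ : Fin d, P} (hz : z ∈ SymTen.TS A P d) :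
    (∑ σ : Equiv.Perm (Fin d), SymTen.perm A P d σ z) = (d.factorial : A) • z := by
  have : ∀ σ : Equiv.Perm (Fin d), SymTen.perm A P d σ z = z := fun σ => by
    rw [SymTen.perm_apply]; exact hz σ
  simp only [this, Finset.sum_const, Finset.card_univ, Fintype.card_perm, Fintype.card_fin]
  rw [Nat.cast_smul_eq_nsmul]

theorem tmap_perm' (q : P →ₐ[A] B) (σ : Equiv.Perm (Fin d)) (t : ⨂[A] _ : Fin d, P) :
    SymTen.tmap A d q (SymTen.perm A P d σ t) = SymTen.perm A B d σ (SymTen.tmap A d q t) := by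
  rw [SymTen.perm_apply, SymTen.perm_apply, SymTen.tmap_reindex]

theorem Ha_of_isUnit (q : P →ₐ[A] B) (hq : Function.Surjective q)
    (hu : IsUnit ((d.factorial : ℕ) : A)) :
    ∀ z ∈ SymTen.TS A B d, ∃ z' ∈ SymTen.TS A P d, SymTen.tmap A d q z' = z := by
  intro z hz
  obtain ⟨r, hr⟩ := hu.exists_left_inv
  obtain ⟨t, rfl⟩ := tmap_surjective d hq z
  refine ⟨r • ∑ σ : Equiv.Perm (Fin d), SymTen.perm A P d σ t,
    Subalgebra.smul_mem _ (sum_perm_mem_TS t) r, ?_⟩
  rw [map_smul, map_sum]
  simp only [tmap_perm']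
  rw [sum_perm_of_mem_TS hz, smul_smul, hr, one_smul]

open Classical in
theorem sum_perm_tprod (e : Fin d → P) :
    (∑ σ : Equiv.Perm (Fin d), SymTen.perm A P d σ (PiTensorProduct.tprod A e)) =
      ∑ f : Fin d → Fin d, (if Function.Bijective f then 1 else 0 : ℕ) •
        PiTensorProduct.tprod A (fun k => e (f k)) := by
  simp only [SymTen.perm_tprod]
  rw [← Equiv.sum_comp (Equiv.inv (Equiv.Perm (Fin d)))
    (fun σ : Equiv.Perm (Fin d) => PiTensorProduct.tprod A (fun i => e (σ.symm i)))]
  simp only [ite_smul, one_smul, zero_smul]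
  rw [← Finset.sum_filter]
  refine Finset.sum_bij (fun σ _ => (σ : Fin d → Fin d)) ?_ ?_ ?_ ?_
  · intro σ _
    exact Finset.mem_filter.mpr ⟨Finset.mem_univ _, σ.bijective⟩
  · intro σ _ σ' _ h
    exact DFunLike.coe_injective h
  · intro f hf
    exact ⟨Equiv.ofBijective f (Finset.mem_filter.mp hf).2, Finset.mem_univ _, rfl⟩
  · intro σ _
    rfl

open Classical in
theorem pit_sum_perm_of_mem_Nul {C' : Type u} [CommRing C'] [Algebra A C'] (G : B →ₚₗ[A] C')
    (hG : PolLaw.IsHomog G d) (bas : Module.Basis I A P) (q : P →ₐ[A] B)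
    {t : ⨂[A] _ : Fin d, P} (ht : t ∈ Nul q d) :
    pit G bas q d (∑ σ : Equiv.Perm (Fin d), SymTen.perm A P d σ t) = 0 := by
  induction ht using Submodule.span_induction with
  | mem x hx =>
    obtain ⟨e, k, hk, rfl⟩ := hx
    rw [sum_perm_tprod]
    have hn : ∀ (f : Fin d → Fin d) (τ : Equiv.Perm (Fin d)),
        (if Function.Bijective (f ∘ τ) then 1 else 0 : ℕ) =
          (if Function.Bijective f then 1 else 0 : ℕ) := by
      intro f τ
      have : Function.Bijective (f ∘ τ) ↔ Function.Bijective f :=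
        Function.Bijective.of_comp_iff f τ.bijective
      simp only [this]
    rw [pit_sum_invariant G hG bas q _ hn e (Function.update e k 0)]
    · have : ∀ f : Fin d → Fin d, (if Function.Bijective f then 1 else 0 : ℕ) •
          PiTensorProduct.tprod A (fun j => Function.update e k 0 (f j)) = 0 := by
        intro f
        split_ifs with hf
        · obtain ⟨j, hj⟩ := hf.2 k
          rw [one_smul]
          exact MultilinearMap.map_coord_zero _ j (by rw [hj, Function.update_self])
        · rw [zero_smul]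
      simp only [this, Finset.sum_const_zero, map_zero]
    · intro j
      by_cases hjk : j = k
      · subst hjk
        rw [Function.update_self, map_zero, hk]
      · rw [Function.update_of_ne hjk]
  | zero => simp
  | add x y _ _ hx hy =>
    simp only [map_add, Finset.sum_add_distrib, hx, hy, add_zero]
  | smul a x _ hx =>
    simp only [map_smul, ← Finset.smul_sum, hx, smul_zero]

theorem Hb_of_isUnit (bas : Module.Basis I A P) (q : P →ₐ[A] B) (hq : Function.Surjective q)
    (hu : IsUnit ((d.factorial : ℕ) : A)) :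
    ∀ (C' : Type u) [CommRing C'] [Algebra A C'] (F : PolLaw.MulLaw A B C' d)
      (z' : ⨂[A] _ : Fin d, P), z' ∈ SymTen.TS A P d → SymTen.tmap A d q z' = 0 →
        pit F.law bas q d z' = 0 := by
  intro C' _ _ F z' hz' h0
  obtain ⟨r, hr⟩ := hu.exists_left_inv
  have h1 : z' = r • ∑ σ : Equiv.Perm (Fin d), SymTen.perm A P d σ z' := by
    rw [sum_perm_of_mem_TS hz', smul_smul, hr, one_smul]
  rw [h1, map_smul, pit_sum_perm_of_mem_Nul F.law F.homog bas q
    (mem_Nul_of_tmap_eq_zero d hq z' h0), smul_zero]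

end Fact

end Groth.Agent.H14Lib.TSG
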